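import Cfsg.Agent.MK.T.A
import Cfsg.Agent.ODD.QB.Rgd
import Cfsg.Agent.ODD.QB.Node
import Cfsg.Agent.MK.T.D_m3
import Cfsg.Agent.Nodes.TypeD
import Cfsg.Agent.MK.Y.CoreI_m3
import Cfsg.Agent.GAL.Two.Red_m3
import Cfsg.Agent.H381.OQ.Half
import Cfsg.Agent.MK.Sp2.Wey_m3
import Cfsg.Agent.H40.OC.Cor_m3
import Cfsg.Agent.Characters.Brauer
import Cfsg.Agent.Nodes.Slope
import Cfsg.Agent.KFacts.RgdDiag
import Cfsg.Agent.TAB.F24.G.Wd_m3
import Cfsg.Agent.MK.C3L.OFam
import Cfsg.Agent.MK.C3L.OGS_m3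
import Cfsg.Agent.H142.McKayCount
import Cfsg.Agent.MK.S.Pc
import Cfsg.Agent.MK.S5.Mov_m3
import Cfsg.Agent.QTNorm.LFourThree_mg_m3
import Cfsg.Agent.CTwoTab.Card
import Cfsg.Agent.H69.OQ.InPlus_m3
import Cfsg.Agent.FastGrp
import Cfsg.Agent.Prune
set_option linter.all false

section
prune_inst 0x7ffcfcf82fa8b5dfffff7e3ffed5dff991a88fffe6dff9437fe869bf0b9f030009c56bad8de010ff0e5762b410b87843f97eca3fe86bdc7ffffd5ff41ffbee0fb7eeb508119488340f386fff83f0778e7f3fffffffffffffffffffffffffffbefffdffffffff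

-- part: MK/G/Abs
section
set_option linter.all false
open scoped Cfsg.Agent.FastGrp

/-!
# MK-G: the abstract part (helper76)

* `PY U N len` : the axioms of `YD` without the cover; `PY.yd : YD (U ⊔ N) U N len`;
* `In_sup`, `nm_le` (Frattini argument), `gd_of_yx` : the chain of the three steps.
-/

set_option autoImplicit false
set_option linter.unusedSectionVars false

namespace Cfsg.Agent.MK.G

open Cfsg Subgroup Cfsg.Agent.H55.Sd Cfsg.Agent.ODD.QB

section yd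

variable {G : Type} [Group G] {U N : Subgroup G} {len : G → ℕ}

/-- the axioms of `YD` without the cover -/
structure PY (U N : Subgroup G) (len : G → ℕ) : Prop where
  uniq : ∀ n ∈ N, ∀ n' ∈ N, ∀ u ∈ U, ∀ v ∈ U, u * n * v = n' → n = n'
  one : len 1 = 0
  inv : ∀ n ∈ N, len n⁻¹ = len n
  zero : ∀ t ∈ N, len t = 0 → (∀ u ∈ U, t * u * t⁻¹ ∈ U) ∧ ∀ n ∈ N, len (t * n) = len n
  step : ∀ s ∈ N, len s = 1 → ∀ n ∈ N, len (s * n) = len n + 1 ∨ len (s * n) + 1 = len n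
  desc : ∀ n ∈ N, len n ≠ 0 → ∃ s ∈ N, len s = 1 ∧ len (s * n) + 1 = len n
  up : ∀ s ∈ N, len s = 1 → ∀ n ∈ N, len (s * n) = len n + 1 → ∀ u ∈ U, ∃ u' ∈ U, ∃ v ∈ U, s * u * n = u' * (s * n) * v
  quad : ∀ s ∈ N, len s = 1 → ∀ u ∈ U, s * u * s⁻¹ ∈ U ∨
    ∃ t ∈ N, len t = 0 ∧ ∃ u' ∈ U, ∃ v ∈ U, s * u * s⁻¹ = u' * (t * s⁻¹) * v

theorem PY.cover (P : PY U N len) : ∀ g ∈ U ⊔ N, ∃ u ∈ U, ∃ n ∈ N, ∃ v ∈ U, g = u * n * v := by
  let C : G → Prop := fun g => ∃ u ∈ U, ∃ n ∈ N, ∃ v ∈ U, g = u * n * v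
  have h1 : ∀ r ∈ N, len r = 1 → ∀ g, C g → C (r * g) := by
    rintro r hr hl _ ⟨u, hu, n, hn, v, hv, rfl⟩
    rcases P.step r hr hl n hn with h | h
    · obtain ⟨u', hu', v', hv', e⟩ := P.up r hr hl n hn h u hu
      exact ⟨u', hu', r * n, mul_mem hr hn, v' * v, mul_mem hv' hv, by rw [← mul_assoc _ v', ← e]; group⟩
    · rcases P.quad r hr hl u hu with h2 | ⟨t, ht, hl0, u', hu', v', hv', e⟩
      · exact ⟨_, h2, r * n, mul_mem hr hn, v, hv, by group⟩
      · obtain ⟨u'', hu'', v'', hv'', e'⟩ := P.up r⁻¹ (inv_mem hr) (by rw [P.inv r hr, hl]) (r * n) (mul_mem hr hn)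
          (by rw [inv_mul_cancel_left, h]) v' hv'
        refine ⟨u' * (t * u'' * t⁻¹), mul_mem hu' ((P.zero t ht hl0).1 _ hu''), t * n, mul_mem ht hn, v'' * v,
          mul_mem hv'' hv, ?_⟩
        calc r * (u * n * v) = r * u * r⁻¹ * (r * n) * v := by group
          _ = u' * t * (r⁻¹ * v' * (r * n)) * v := by rw [e]; group
          _ = _ := by rw [e']; group
  have h2 : ∀ (k : ℕ), ∀ s ∈ N, len s = k → ∀ g, C g → C (s * g) := by
    intro k
    induction k with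
    | zero =>
      rintro s hs hl _ ⟨u, hu, n, hn, v, hv, rfl⟩
      exact ⟨_, (P.zero s hs hl).1 u hu, s * n, mul_mem hs hn, v, hv, by group⟩
    | succ k ih =>
      intro s hs hl g hg
      obtain ⟨r, hr, hr1, e⟩ := P.desc s hs (by omega)
      have h3 := h1 r⁻¹ (inv_mem hr) (by rw [P.inv r hr, hr1]) _ (ih (r * s) (mul_mem hr hs) (by omega) g hg)
      rwa [mul_assoc, inv_mul_cancel_left] at h3
  have h3 : ∀ x, x ∈ U ∨ x ∈ N → ∀ g, C g → C (x * g) := by
    rintro x (hx | hx) g hg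
    · obtain ⟨u, hu, n, hn, v, hv, rfl⟩ := hg
      exact ⟨x * u, mul_mem hx hu, n, hn, v, hv, by group⟩
    · exact h2 _ x hx rfl g hg
  intro g hg
  rw [sup_eq_closure] at hg
  induction hg using closure_induction_left with
  | one => exact ⟨1, one_mem _, 1, one_mem _, 1, one_mem _, by group⟩
  | mul_left x hx y _ ih => exact h3 x hx y ih
  | inv_mul_cancel x hx y _ ih => exact h3 x⁻¹ (hx.imp inv_mem inv_mem) y ih

theorem PY.yd (P : PY U N len) : YD (U ⊔ N) U N len :=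
  ⟨le_sup_left, le_sup_right, P.cover, P.uniq, P.one, P.inv, P.zero, P.step, P.desc, P.up, P.quad⟩

end yd

section chain

variable {X : Type} [Group X]

theorem mem_In {Λ : Subgroup (MulAut X)} {x : X} : x ∈ In Λ ↔ MulAut.conj x ∈ Λ := Iff.rfl

theorem conj_mem_Cj {H : Subgroup X} {x : X} (hx : x ∈ H) : MulAut.conj x ∈ Cj H := ⟨x, hx, rfl⟩

theorem exists_of_sup {Θ : Subgroup (MulAut X)} {H : Subgroup X} (hn : ∀ α ∈ Θ, ∀ x ∈ H, α x ∈ H) {α : MulAut X}
    (hα : α ∈ Cj H ⊔ Θ) : ∃ x ∈ H, ∃ β ∈ Θ, α = MulAut.conj x * β := by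
  obtain ⟨_, ⟨x, hx, rfl⟩, β, hβ, e⟩ := exists_mul_of_sup (K := Cj H) (R := Θ) (by
    rintro β hβ _ ⟨x, hx, rfl⟩
    exact ⟨β x, hn β hβ x hx, conj_map β x⟩) hα
  exact ⟨x, hx, β, hβ, e⟩

theorem In_sup {Θ : Subgroup (MulAut X)} {H : Subgroup X} (hn : ∀ α ∈ Θ, ∀ x ∈ H, α x ∈ H) (hi : In Θ ≤ H) :
    In (Cj H ⊔ Θ) = H := by
  refine le_antisymm (fun y hy => ?_) fun x hx => mem_sup_left (conj_mem_Cj hx)
  obtain ⟨x, hx, β, hβ, e⟩ := exists_of_sup hn hy
  have h1 : x⁻¹ * y ∈ In Θ := by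
    rw [mem_In, map_mul, map_inv, e, inv_mul_cancel_left]
    exact hβ
  exact (H.mul_mem_cancel_left (inv_mem hx)).1 (hi h1)

theorem YX.map_H {Γ Θ : Subgroup (MulAut X)} {H U N : Subgroup X} {len : X → ℕ} (Y : YX Γ Θ H U N len) :
    ∀ α ∈ Θ, ∀ x ∈ H, α x ∈ H := fun α hα x hx => by
  obtain ⟨u, hu, n, hn, v, hv, rfl⟩ := Y.yd.cover x hx
  rw [map_mul, map_mul]
  exact mul_mem (mul_mem (Y.yd.uH (Y.hU α hα u hu)) (Y.yd.nH (Y.hN α hα n hn).1)) (Y.yd.uH (Y.hU α hα v hv))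

theorem YX.in_N {Γ Θ : Subgroup (MulAut X)} {H U N : Subgroup X} {len : X → ℕ} (Y : YX Γ Θ H U N len) :
    In (Cj N ⊔ Θ) = N := In_sup (fun α hα x hx => (Y.hN α hα x hx).1) fun x hx => ((Y.inn x).1 hx).1

theorem YX.in_H {Γ Θ : Subgroup (MulAut X)} {H U N : Subgroup X} {len : X → ℕ} (Y : YX Γ Θ H U N len) :
    In (Cj H ⊔ Θ) = H := In_sup (YX.map_H Y) fun x hx => Y.yd.nH ((Y.inn x).1 hx).1

theorem Supp.mono {Γ Θ Λ : Subgroup (MulAut X)} (S : Supp Γ Θ) (h1 : Θ ≤ Λ) (h2 : Λ ≤ Γ) : Supp Γ Λ :=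
  ⟨h2, fun α hα => (S.sup α hα).imp fun _ h => h.imp fun _ h => ⟨h1 h.1, h.2⟩⟩

variable [Finite X]

/-- **The Frattini argument.** -/
theorem nm_le {Λ Λ' : Subgroup (MulAut X)} (S : Supp Λ Λ') {Q : Subgroup X} (hQ : Q ≤ In Λ') (h2 : IsPGroup 2 Q)
    (ho : Odd (Q.relIndex (In Λ'))) (hN : ∀ x ∈ In Λ, x ∈ normalizer (Q : Set X) → x ∈ In Λ') : Nm Λ Q ≤ Λ' := by
  rintro α ⟨hα, hαQ⟩
  obtain ⟨x, β, hβ, rfl⟩ := S.sup α hα
  obtain ⟨y, hy, h3⟩ := exists_conj_le hQ h2 ho (R := Q.map β.toMonoidHom) (by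
    rintro _ ⟨q, hq, rfl⟩
    exact map_mem_In hβ (hQ hq)) (h2.map _)
  have h4 : MulAut.conj y⁻¹ * β ∈ Λ' := mul_mem (inv_mem hy : y⁻¹ ∈ In Λ') hβ
  have e : MulAut.conj x * β = MulAut.conj (x * y) * (MulAut.conj y⁻¹ * β) := by
    rw [map_mul, map_inv]; group
  have h5 : x * y ∈ In Λ := by
    rw [e] at hα
    exact (Λ.mul_mem_cancel_right (S.le h4)).1 hα
  have h6 : (x * y)⁻¹ ∈ normalizer (Q : Set X) := by
    refine mem_normalizer_fintype fun q hq => ?_
    have h7 := h3 _ ⟨(MulAut.conj x * β)⁻¹ q, (hαQ _).1 (by rwa [MulAut.apply_inv_self]), rfl⟩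
    have e2 : β.toMonoidHom ((MulAut.conj x * β)⁻¹ q) = x⁻¹ * q * x := by
      rw [mul_inv_rev, MulAut.mul_apply, ← map_inv, MulAut.conj_apply, inv_inv]
      exact MulAut.apply_inv_self _ _ _
    rw [e2] at h7
    rwa [show (x * y)⁻¹ * q * (x * y)⁻¹⁻¹ = y⁻¹ * (x⁻¹ * q * x) * y by group]
  rw [e]
  exact mul_mem (hN _ h5 ((inv_mem_iff).1 h6)) h4

/-- **The chain.** -/
theorem gd_of_yx (hI : StepI) (hY : StepY) {Γ Θ Θ' : Subgroup (MulAut X)} (c : Sit X Γ) {U N M U' N' : Subgroup X}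
    {len len' : X → ℕ} (Y : YX Γ Θ ⊤ U N len) (Y' : YX Γ Θ' M U' N' len') (hN : N ≠ ⊤) (hM : M ≠ ⊤)
    (hle : Cj N' ⊔ Θ' ≤ Cj N ⊔ Θ)
    (hS : ∃ Q ≤ N', IsPGroup 2 Q ∧ Odd (Q.relIndex N) ∧ ∀ x ∈ N, x ∈ normalizer (Q : Set X) → x ∈ N')
    (hQ : ∃ Q : Sylow 2 X, normalizer ((Q : Subgroup X) : Set X) ≤ M) : Gd X Γ := by
  have hC : ∀ H : Subgroup X, Cj H ≤ Γ := by
    rintro H _ ⟨x, -, rfl⟩
    exact c.inn x
  have hne : ∀ Λ : Subgroup (MulAut X), In Λ ≠ ⊤ → Λ ≠ Γ := by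
    rintro Λ h rfl
    exact h (eq_top_iff.2 fun x _ => c.inn x)
  have hΓ : Cj ⊤ ⊔ Θ = Γ := le_antisymm (sup_le (hC _) Y.supp.le) fun α hα => by
    obtain ⟨x, β, hβ, rfl⟩ := Y.supp.sup α hα
    exact mul_mem (mem_sup_left (conj_mem_Cj (mem_top x))) (mem_sup_right hβ)
  have S1 : Supp Γ (Cj N ⊔ Θ) := Supp.mono Y.supp le_sup_right (sup_le (hC _) Y.supp.le)
  have S2 : Supp Γ (Cj M ⊔ Θ') := Supp.mono Y'.supp le_sup_right (sup_le (hC _) Y'.supp.le)
  have S3 : Supp (Cj N ⊔ Θ) (Cj N' ⊔ Θ') :=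
    ⟨hle, fun α hα => (Y'.supp.sup α (S1.le hα)).imp fun _ h => h.imp fun _ h => ⟨mem_sup_right h.1, h.2⟩⟩
  obtain ⟨P, hP, hP2, hPo, hPn⟩ := hS
  have hNN : N' ≤ N := by
    rw [← YX.in_N Y, ← YX.in_N Y']
    exact comap_mono hle
  have E1 := hY X Γ Θ ⊤ U N len c Y
  have E2 := hI X Γ _ _ P c S1 (hne _ (by rwa [YX.in_N Y])) hle (by rw [YX.in_N Y]; exact hP.trans hNN) hP2
    (by rwa [YX.in_N Y]) (nm_le S3 (by rwa [YX.in_N Y']) hP2 (by
      rw [YX.in_N Y']
      refine hPo.of_dvd_nat ?_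
      rw [← relIndex_mul_relIndex _ _ _ hP hNN]
      exact dvd_mul_right _ _) (by rwa [YX.in_N Y, YX.in_N Y']))
  have E3 := hY X Γ Θ' M U' N' len' c Y'
  rw [hΓ] at E1
  obtain ⟨Q, hQ⟩ := hQ
  have hQM : (Q : Subgroup X) ≤ M := le_normalizer.trans hQ
  refine ⟨_, Q, S2.le, hne _ (by rwa [YX.in_H Y']), nm_le S2 (by rwa [YX.in_H Y']) Q.isPGroup' ?_
    (by rw [YX.in_H Y']; exact fun x _ hx => hQ hx), (E1.trans E2).trans E3.symm⟩
  rw [YX.in_H Y', ← Nat.not_even_iff_odd, even_iff_two_dvd]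
  exact fun h => Q.not_dvd_index (h.trans (relIndex_dvd_index_of_le hQM))

end chain

end Cfsg.Agent.MK.G
end

-- part: MK/G/Frm
section
set_option linter.all false
open scoped Cfsg.Agent.FastGrp

/-!
# MK-G: frames (helper76)

* `Ng π`, `ln Z γ` : the positive poles which become negative, and their number;
* `NS Z`, `TH Λ Z` : the automorphisms which permute the poles, those in `Λ` which preserve the signs;
* `Fm U N Z` : a frame of commuting rank one groups; `Fm.py`, `Fm.yx`.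
-/

set_option autoImplicit false
set_option linter.unusedSectionVars false

namespace Cfsg.Agent.MK.G

open Cfsg Subgroup Cfsg.Agent.H55.Sd Cfsg.Agent.ODD.QB

section signs

variable {ι : Type} [Fintype ι] {π ψ : Equiv.Perm (ι × Bool)}

/-- signed permutations -/
def Sg (π : Equiv.Perm (ι × Bool)) : Prop := ∀ a s, π (a, !s) = ((π (a, s)).1, !(π (a, s)).2)

/-- the positive poles which become negative -/
def Ng (π : Equiv.Perm (ι × Bool)) : Set ι := {a | (π (a, true)).2 = false}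

theorem mem_Ng {a : ι} : a ∈ Ng π ↔ (π (a, true)).2 = false := Iff.rfl

theorem notMem_Ng {a : ι} : a ∉ Ng π ↔ (π (a, true)).2 = true := by rw [mem_Ng, Bool.not_eq_false]

theorem Sg.inv (h : Sg π) : Sg π⁻¹ := fun a s => by
  apply π.injective
  rw [h]
  simp

theorem Sg.inj (h : Sg π) {a b : ι} (hab : (π (a, true)).1 = (π (b, true)).1) : a = b := by
  by_cases h3 : (π (a, true)).2 = (π (b, true)).2
  · exact congrArg Prod.fst (π.injective (Prod.ext hab h3))
  · have h4 : π (a, true) = π (b, !true) := by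
      rw [h]
      exact Prod.ext hab (Bool.eq_not_iff.2 h3)
    exact congrArg Prod.fst (π.injective h4)

theorem Sg.surj (h : Sg π) (c : ι) : ∃ a, (π (a, true)).1 = c :=
  (Finite.injective_iff_surjective (f := fun a => (π (a, true)).1)).1 (fun _ _ => h.inj) c

theorem Sg.ncard_le (h : Sg π) : (Ng π).ncard ≤ (Ng π⁻¹).ncard := by
  refine Set.ncard_le_ncard_of_injOn (fun a => (π (a, true)).1) (fun a ha => ?_) fun _ _ _ _ => h.inj
  have h1 := h a true
  rw [mem_Ng.1 ha] at h1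
  rw [mem_Ng, show ((π (a, true)).1, true) = π (a, !true) from h1.symm]
  simp

theorem Sg.ncard_inv (h : Sg π) : (Ng π⁻¹).ncard = (Ng π).ncard :=
  le_antisymm (by simpa using h.inv.ncard_le) h.ncard_le

theorem Sg.mem_mul (h : Sg π) (a : ι) : a ∈ Ng (π * ψ) ↔ (a ∈ Ng ψ ↔ (ψ (a, true)).1 ∉ Ng π) := by
  rw [mem_Ng, mem_Ng, notMem_Ng, Equiv.Perm.mul_apply]
  obtain ⟨⟨b, _ | _⟩, hx⟩ : ∃ x, ψ (a, true) = x := ⟨_, rfl⟩
  · rw [hx, show (b, false) = (b, !true) from rfl, h]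
    simp
  · rw [hx]
    simp

theorem Sg.ng_mul (h : Sg π) (h0 : Ng π = ∅) : Ng (π * ψ) = Ng ψ := by
  ext a
  rw [h.mem_mul, h0]
  simp

theorem Sg.flip (h : Sg π) (h' : Sg ψ) {c a : ι} (h1 : Ng π = {c}) (ha : (ψ (a, true)).1 = c) :
    (a ∉ Ng ψ → (Ng (π * ψ)).ncard = (Ng ψ).ncard + 1) ∧ (a ∈ Ng ψ → (Ng (π * ψ)).ncard + 1 = (Ng ψ).ncard) := by
  have h2 : ∀ b, b ∈ Ng (π * ψ) ↔ (b ∈ Ng ψ ↔ b ≠ a) := fun b => by
    rw [h.mem_mul, h1, Set.mem_singleton_iff, ← ha]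
    exact iff_congr Iff.rfl (not_congr ⟨h'.inj, fun e => by rw [e]⟩)
  constructor
  · intro h3
    rw [← Set.ncard_insert_of_notMem h3]
    congr 1
    ext b
    rw [h2, Set.mem_insert_iff]
    by_cases hb : b = a
    · simp [hb, h3]
    · simp [hb]
  · intro h3
    rw [← Set.ncard_insert_of_notMem (a := a) (by rw [h2]; simp [h3])]
    congr 1
    ext b
    rw [Set.mem_insert_iff, h2]
    by_cases hb : b = a
    · simp [hb, h3]
    · simp [hb]

theorem Ng_swap [DecidableEq ι] (a : ι) : Ng (Equiv.swap (a, true) (a, false)) = {a} := by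
  ext b
  rw [mem_Ng, Set.mem_singleton_iff]
  by_cases hb : b = a
  · simp [hb]
  · rw [Equiv.swap_apply_of_ne_of_ne (fun h => hb (congrArg Prod.fst h)) fun h => hb (congrArg Prod.fst h)]
    simp [hb]

end signs

variable {X ι : Type} [Group X] [Finite X] [Fintype ι] {Z : ι × Bool → Subgroup X}

/-- the automorphisms which permute the poles -/
def NS (Z : ι × Bool → Subgroup X) : Subgroup (MulAut X) where
  carrier := {γ | ∃ π, Acts Z γ π}
  one_mem' := ⟨1, fun _ _ => rfl, fun _ _ => Iff.rfl⟩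
  mul_mem' := fun ⟨_, h1⟩ ⟨_, h2⟩ => ⟨_, h1.mul h2⟩
  inv_mem' := fun ⟨_, h1⟩ => ⟨_, h1.inv⟩

/-- the automorphisms in `Λ` which permute the positive poles -/
def TH (Λ : Subgroup (MulAut X)) (Z : ι × Bool → Subgroup X) : Subgroup (MulAut X) where
  carrier := {γ | γ ∈ Λ ∧ ∃ π, Acts Z γ π ∧ Ng π = ∅}
  one_mem' := ⟨one_mem _, 1, ⟨fun _ _ => rfl, fun _ _ => Iff.rfl⟩, Set.eq_empty_iff_forall_notMem.2 fun _ => notMem_Ng.2 rfl⟩
  mul_mem' := fun ⟨h1, _, h2, h3⟩ ⟨h4, _, h5, h6⟩ => ⟨mul_mem h1 h4, _, h2.mul h5, (Sg.ng_mul h2.1 h3).trans h6⟩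
  inv_mem' := fun ⟨h1, _, h2, h3⟩ => ⟨inv_mem h1, _, h2.inv, by
    rw [← Set.ncard_eq_zero, Sg.ncard_inv h2.1, h3, Set.ncard_empty]⟩

theorem TH_le {Λ : Subgroup (MulAut X)} : TH Λ Z ≤ Λ ⊓ NS Z := fun _ ⟨h1, π, h2, _⟩ => ⟨h1, π, h2⟩

/-- the length -/
noncomputable def ln (Z : ι × Bool → Subgroup X) (γ : MulAut X) : ℕ :=
  Set.ncard {a | ∃ b, ∀ y, γ y ∈ Z (b, false) ↔ y ∈ Z (a, true)}

theorem ln_eq (hi : Function.Injective Z) {γ : MulAut X} {π : Equiv.Perm (ι × Bool)} (h : Acts Z γ π) :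
    ln Z γ = (Ng π).ncard := by
  refine congrArg Set.ncard (Set.ext fun a => ⟨fun ⟨b, hb⟩ => ?_, fun ha => ⟨(π (a, true)).1, fun y => ?_⟩⟩)
  · have h1 : Z (π (a, true)) = Z (b, false) := Subgroup.ext fun y => by
      have h2 := (h.2 (a, true) (γ⁻¹ y)).trans (hb (γ⁻¹ y)).symm
      rwa [MulAut.apply_inv_self] at h2
    rw [mem_Ng, hi h1]
  · rw [← mem_Ng.1 ha]
    exact h.2 _ y

/-- `k` exchanges the two poles of `a` -/
def Sw (Z : ι × Bool → Subgroup X) (k : X) (a : ι) : Prop := ∀ s y, k * y * k⁻¹ ∈ Z (a, !s) ↔ y ∈ Z (a, s)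

/-- the group generated by the positive poles -/
def UD (Z : ι × Bool → Subgroup X) : Subgroup X := ⨆ a, Z (a, true)

/-- the group generated by the positive poles other than `c` -/
def VD (Z : ι × Bool → Subgroup X) (c : ι) : Subgroup X := ⨆ a : {a // a ≠ c}, Z (a.1, true)

theorem le_UD (a : ι) : Z (a, true) ≤ UD Z := le_iSup (fun a => Z (a, true)) a

theorem map_pos {γ : MulAut X} {π : Equiv.Perm (ι × Bool)} (h : Acts Z γ π) {a : ι} (ha : a ∉ Ng π) {y : X}
    (hy : y ∈ Z (a, true)) : γ y ∈ UD Z := by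
  have h1 := (h.2 _ y).2 hy
  rw [show π (a, true) = ((π (a, true)).1, true) from Prod.ext rfl (notMem_Ng.1 ha)] at h1
  exact le_UD _ h1

theorem map_UD {γ : MulAut X} {π : Equiv.Perm (ι × Bool)} (h : Acts Z γ π) (h0 : Ng π = ∅) {y : X} (hy : y ∈ UD Z) :
    γ y ∈ UD Z :=
  (iSup_le fun a y hy => map_pos h (by rw [h0]; exact Set.notMem_empty a) hy :
    UD Z ≤ (UD Z).comap γ.toMonoidHom) hy

theorem map_VD {γ : MulAut X} {π : Equiv.Perm (ι × Bool)} (h : Acts Z γ π) {c : ι} (h0 : Ng π = {c}) {y : X}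
    (hy : y ∈ VD Z c) : γ y ∈ UD Z :=
  (iSup_le fun a y hy => map_pos h (by rw [h0]; exact a.2) hy : VD Z c ≤ (UD Z).comap γ.toMonoidHom) hy

/-- **A frame.** -/
structure Fm (U N : Subgroup X) (Z : ι × Bool → Subgroup X) : Prop where
  inj : Function.Injective Z
  orth : ∀ a b, a ≠ b → ∀ x ∈ KK Z a, ∀ y ∈ KK Z b, Commute x y
  pos : ∀ a, Z (a, true) ≤ U
  ne : ∀ a, Z (a, false) ≠ ⊥
  low : ∀ a, ∀ y ∈ Z (a, false), y ≠ 1 → ∃ u ∈ Z (a, true), ∃ v ∈ Z (a, true), u * y * v ∈ N ∧ Sw Z (u * y * v) a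
  uniq : ∀ n ∈ N, ∀ n' ∈ N, ∀ u ∈ U, ∀ v ∈ U, u * n * v = n' → n = n'

namespace Fm

variable {U : Subgroup X} {Λ : Subgroup (MulAut X)} (F : Fm U (In Λ) Z)

include F

theorem acts_sw [DecidableEq ι] {a : ι} {k : X} (hk : k ∈ KK Z a) (hs : Sw Z k a) :
    Acts Z (MulAut.conj k) (Equiv.swap (a, true) (a, false)) := by
  have h1 : ∀ s, Equiv.swap (a, true) (a, false) (a, s) = (a, !s) := fun s => by cases s <;> simp
  have h2 : ∀ b s, b ≠ a → Equiv.swap (a, true) (a, false) (b, s) = (b, s) := fun b s hb =>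
    Equiv.swap_apply_of_ne_of_ne (fun h => hb (congrArg Prod.fst h)) fun h => hb (congrArg Prod.fst h)
  refine ⟨fun b s => ?_, ?_⟩
  · by_cases hb : b = a
    · rw [hb, h1, h1]
    · rw [h2 b _ hb, h2 b _ hb]
  · rintro ⟨b, s⟩ y
    rw [MulAut.conj_apply]
    by_cases hb : b = a
    · rw [hb, h1, hs]
    · rw [h2 b _ hb]
      have h3 : ∀ g ∈ KK Z a, ∀ y ∈ Z (b, s), g * y * g⁻¹ = y := fun g hg y hy => by
        rw [(F.orth a b (Ne.symm hb) g hg y (Fr.Z_le (Z := Z) (b, s) hy)).eq, mul_inv_cancel_right]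
      refine ⟨fun h => ?_, fun h => by rwa [h3 _ hk y h]⟩
      have h4 := h3 _ (inv_mem hk) _ h
      rw [inv_inv, ← mul_assoc, ← mul_assoc, inv_mul_cancel, one_mul, inv_mul_cancel_right] at h4
      rwa [h4]

theorem low' [DecidableEq ι] (a : ι) {y : X} (hy : y ∈ Z (a, false)) (h1 : y ≠ 1) :
    ∃ u ∈ Z (a, true), ∃ v ∈ Z (a, true), u * y * v ∈ In (Λ ⊓ NS Z) ∧ u * y * v ∈ KK Z a ∧
      Acts Z (MulAut.conj (u * y * v)) (Equiv.swap (a, true) (a, false)) := by
  obtain ⟨u, hu, v, hv, h2, h3⟩ := F.low a y hy h1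
  have h4 : u * y * v ∈ KK Z a := mul_mem (mul_mem (mem_sup_left hu) (mem_sup_right hy)) (mem_sup_left hv)
  exact ⟨u, hu, v, hv, ⟨h2, _, F.acts_sw h4 h3⟩, h4, F.acts_sw h4 h3⟩

theorem exists_m [DecidableEq ι] (a : ι) :
    ∃ m ∈ In (Λ ⊓ NS Z), m ∈ KK Z a ∧ Acts Z (MulAut.conj m) (Equiv.swap (a, true) (a, false)) := by
  obtain ⟨⟨y, hy⟩, h1⟩ := ne_bot_iff_exists_ne_one.1 (F.ne a)
  obtain ⟨u, -, v, -, h⟩ := F.low' a hy fun h => h1 (Subtype.ext h)
  exact ⟨_, h⟩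

theorem exists_mul (c : ι) {u : X} (hu : u ∈ UD Z) : ∃ v ∈ VD Z c, ∃ x ∈ Z (c, true), u = v * x := by
  have h1 : UD Z ≤ VD Z c ⊔ Z (c, true) := iSup_le fun a => by
    by_cases ha : a = c
    · rw [ha]; exact le_sup_right
    · exact (le_iSup (fun a : {a // a ≠ c} => Z (a.1, true)) ⟨a, ha⟩).trans le_sup_left
  refine exists_mul_of_sup (fun x hx v hv => ?_) (h1 hu)
  have h2 : VD Z c ≤ centralizer {x} := iSup_le fun a y hy => mem_centralizer_singleton_iff.2
    (F.orth a c a.2 y (mem_sup_left hy) x (mem_sup_left hx)).eq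
  rwa [← mem_centralizer_singleton_iff.1 (h2 hv), mul_inv_cancel_right]

theorem UD_le : UD Z ≤ U := iSup_le F.pos

theorem ln_inv {γ : MulAut X} (hγ : γ ∈ NS Z) : ln Z γ⁻¹ = ln Z γ := by
  obtain ⟨π, h⟩ := hγ
  rw [ln_eq F.inj h, ln_eq F.inj h.inv, Sg.ncard_inv h.1]

theorem ln_mul {γ δ : MulAut X} (hγ : γ ∈ TH Λ Z) (hδ : δ ∈ NS Z) : ln Z (γ * δ) = ln Z δ := by
  obtain ⟨-, π, h, h0⟩ := hγ
  obtain ⟨ψ, h'⟩ := hδ
  rw [ln_eq F.inj (h.mul h'), ln_eq F.inj h', Sg.ng_mul h.1 h0]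

theorem mem_TH {γ : MulAut X} : γ ∈ TH Λ Z ↔ γ ∈ Λ ⊓ NS Z ∧ ln Z γ = 0 := by
  refine ⟨fun h => ⟨TH_le h, ?_⟩, fun ⟨⟨h1, π, h2⟩, h3⟩ => ⟨h1, π, h2, ?_⟩⟩
  · obtain ⟨-, π, h1, h2⟩ := h
    rw [ln_eq F.inj h1, h2, Set.ncard_empty]
  · rwa [ln_eq F.inj h2, Set.ncard_eq_zero] at h3

theorem desc {γ : MulAut X} (hγ : γ ∈ NS Z) (h0 : ln Z γ ≠ 0) :
    ∃ s ∈ In (Λ ⊓ NS Z), ln Z (MulAut.conj s) = 1 ∧ ln Z (MulAut.conj s * γ) + 1 = ln Z γ := by
  classical
  obtain ⟨π, h⟩ := hγ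
  rw [ln_eq F.inj h] at h0 ⊢
  obtain ⟨a, ha⟩ := Set.nonempty_of_ncard_ne_zero h0
  obtain ⟨m, hm, -, h1⟩ := F.exists_m (π (a, true)).1
  refine ⟨m, hm, by rw [ln_eq F.inj h1, Ng_swap, Set.ncard_singleton], ?_⟩
  rw [ln_eq F.inj (h1.mul h)]
  exact (Sg.flip h1.1 h.1 (Ng_swap _) rfl).2 ha

theorem py : PY (UD Z) (In (Λ ⊓ NS Z)) fun x => ln Z (MulAut.conj x) := by
  classical
  have h1 : ∀ s ∈ In (Λ ⊓ NS Z), ln Z (MulAut.conj s) = 1 → ∃ π c, Acts Z (MulAut.conj s) π ∧ Ng π = {c} := by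
    rintro s ⟨-, π, h⟩ hl
    rw [ln_eq F.inj h, Set.ncard_eq_one] at hl
    exact ⟨π, hl.imp fun _ e => ⟨h, e⟩⟩
  refine ⟨fun n hn n' hn' u hu v hv => F.uniq n hn.1 n' hn'.1 u (F.UD_le hu) v (F.UD_le hv), ?_, fun n hn => ?_,
    fun t ht hl => ⟨fun u hu => ?_, fun n hn => ?_⟩, fun s hs hl n hn => ?_, fun n hn hl => ?_,
    fun s hs hl n hn hl' u hu => ?_, fun s hs hl u hu => ?_⟩
  · rw [map_one]
    exact (F.mem_TH.1 (one_mem _)).2
  · rw [map_inv, F.ln_inv hn.2]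
  · obtain ⟨-, π, h, h0⟩ := F.mem_TH.2 ⟨ht, hl⟩
    exact map_UD h h0 hu
  · rw [map_mul, F.ln_mul (F.mem_TH.2 ⟨ht, hl⟩) hn.2]
  · obtain ⟨π, c, h, hc⟩ := h1 s hs hl
    obtain ⟨ψ, h'⟩ := hn.2
    obtain ⟨a, ha⟩ := Sg.surj h'.1 c
    simp only [map_mul, ln_eq F.inj (h.mul h'), ln_eq F.inj h']
    exact (em _).symm.imp (Sg.flip h.1 h'.1 hc ha).1 (Sg.flip h.1 h'.1 hc ha).2
  · simp only [map_mul]
    exact F.desc hn.2 hl
  · obtain ⟨π, c, h, hc⟩ := h1 s hs hl
    obtain ⟨ψ, h'⟩ := hn.2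
    obtain ⟨a, ha⟩ := Sg.surj h'.1 c
    simp only [map_mul, ln_eq F.inj (h.mul h'), ln_eq F.inj h'] at hl'
    have h2 : a ∉ Ng ψ := fun h3 => by
      have := (Sg.flip h.1 h'.1 hc ha).2 h3
      omega
    obtain ⟨v, hv, x, hx, rfl⟩ := F.exists_mul c hu
    refine ⟨_, map_VD h hc hv, n⁻¹ * x * n, le_UD a ((h'.2 _ _).1 ?_), by rw [MulAut.conj_apply]; group⟩
    rwa [show ψ (a, true) = (c, true) from Prod.ext ha (notMem_Ng.1 h2), MulAut.conj_apply,
      show n * (n⁻¹ * x * n) * n⁻¹ = x by group]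
  · obtain ⟨π, c, h, hc⟩ := h1 s hs hl
    obtain ⟨v, hv, x, hx, rfl⟩ := F.exists_mul c hu
    have h2 : s * v * s⁻¹ ∈ UD Z := map_VD h hc hv
    have e : s * (v * x) * s⁻¹ = s * v * s⁻¹ * (s * x * s⁻¹) := by group
    have h3 : s * x * s⁻¹ ∈ Z ((π (c, true)).1, false) := by
      rw [← mem_Ng.1 (hc ▸ Set.mem_singleton c : c ∈ Ng π)]
      exact (h.2 _ x).2 hx
    by_cases h4 : s * x * s⁻¹ = 1
    · left
      rwa [e, h4, mul_one]
    · obtain ⟨a, ha, b, hb, h5, -, h6⟩ := F.low' _ h3 h4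
      refine Or.inr ⟨a * (s * x * s⁻¹) * b * s, mul_mem h5 hs, ?_, _, mul_mem h2 (le_UD _ (inv_mem ha)), _,
        le_UD _ (inv_mem hb), by group⟩
      have h7 := (Sg.flip h6.1 h.1 (Ng_swap _) rfl).2 (hc ▸ Set.mem_singleton c)
      rw [hc, Set.ncard_singleton] at h7
      show ln Z (MulAut.conj _) = 0
      rw [map_mul, ln_eq F.inj (h6.mul h)]
      omega

theorem exists_TH {γ : MulAut X} (hγ : γ ∈ Λ ⊓ NS Z) : ∃ x ∈ In (Λ ⊓ NS Z), ∃ δ ∈ TH Λ Z, γ = MulAut.conj x * δ := by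
  induction hk : ln Z γ generalizing γ with
  | zero => exact ⟨1, one_mem _, γ, F.mem_TH.2 ⟨hγ, hk⟩, by rw [map_one, one_mul]⟩
  | succ k ih =>
    obtain ⟨s, hs, -, h⟩ := F.desc hγ.2 (by omega)
    obtain ⟨x, hx, δ, hδ, e⟩ := ih (mul_mem hs hγ) (by omega)
    exact ⟨s⁻¹ * x, mul_mem (inv_mem hs) hx, δ, hδ, by rw [map_mul, map_inv, mul_assoc, ← e, inv_mul_cancel_left]⟩

theorem K_le : (⨆ a, KK Z a) ≤ UD Z ⊔ In (Λ ⊓ NS Z) := by
  classical
  refine iSup_le fun a => sup_le ((le_UD a).trans le_sup_left) fun y hy => ?_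
  by_cases h1 : y = 1
  · rw [h1]; exact one_mem _
  obtain ⟨u, hu, v, hv, h2, -⟩ := F.low' a hy h1
  have h3 := mul_mem (mul_mem (mem_sup_left (inv_mem (le_UD a hu))) (mem_sup_right h2))
    (mem_sup_left (inv_mem (le_UD a hv)))
  rwa [show u⁻¹ * (u * y * v) * v⁻¹ = y by group] at h3

/-- **The data of the frame.** -/
theorem yx {Γ : Subgroup (MulAut X)} (S : Supp Γ (Λ ⊓ NS Z)) (ho : Odd (Nat.card U))
    (hD : ∃ D ≤ TH Λ Z, IsPGroup 2 D ∧ ∀ u ∈ U, (∀ α ∈ D, α u = u) → u = 1) :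
    YX Γ (TH Λ Z) (UD Z ⊔ In (Λ ⊓ NS Z)) (UD Z) (In (Λ ⊓ NS Z)) fun x => ln Z (MulAut.conj x) := by
  refine ⟨F.py.yd, ⟨TH_le.trans S.le, fun α hα => ?_⟩, fun α ⟨_, π, h, h0⟩ u hu => map_UD h h0 hu,
    fun α hα n hn => ⟨map_mem_In (TH_le hα) hn, ?_⟩, fun x => F.mem_TH, ho.of_dvd_nat (card_dvd_of_le F.UD_le),
    hD.imp fun D h => ⟨h.1, h.2.1, fun u hu => h.2.2 u (F.UD_le hu)⟩⟩
  · obtain ⟨x, β, hβ, rfl⟩ := S.sup α hα
    obtain ⟨y, -, δ, hδ, rfl⟩ := F.exists_TH hβ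
    exact ⟨x * y, δ, hδ, by rw [map_mul, mul_assoc]⟩
  · have h1 := (TH_le hα).2
    show ln Z (MulAut.conj (α n)) = ln Z (MulAut.conj n)
    rw [conj_map, mul_assoc, F.ln_mul hα (mul_mem hn.2 (inv_mem h1)), ← F.ln_inv (mul_mem hn.2 (inv_mem h1)),
      mul_inv_rev, inv_inv, F.ln_mul hα (inv_mem hn.2), F.ln_inv hn.2]

end Fm

end Cfsg.Agent.MK.G
end

-- part: MK/G/Defs
section
set_option linter.all false
open scoped Cfsg.Agent.FastGrp

/-!
# MK-G: the interface of the generic theorem for odd `q` (helper76)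

`R : RGD cs h p T n X` are root group data of `Y`, `β : ι → I → ℤ` is a frame of roots (signs do not matter, `ι` may be
empty), `zc H` is the centre of `H`, `LZ X x = zc (X x) ⊔ zc (X (-x))`.

* `WD cs h β` : the stabiliser of `±β` in the Weyl group; `MM R β = (⨆ a, LZ X (β a)) ⊔ NP R (WD cs h β)`;
* `GD R β` : the data which do not depend on the automorphisms;
* `Au R β Γ` : a diagonal automorphism permutes the frame after a correction by an element of `N`;
* `NF cs h X Γ` : a `2`-group of automorphisms fixes all root groups and has no fixed points on them;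
* `Main` : `Sit Y Γ → GD R β → Au R β Γ → NF cs h X Γ → Gd Y Γ`;
* `MainI`, `MainC` : the same for a central extension `f : Y →* S` of order prime to `2 p` (or an isomorphism), all
  data are on `S`.
-/

set_option autoImplicit false
set_option linter.unusedSectionVars false

namespace Cfsg.Agent.MK.G

open Cfsg CoxeterSystem Cfsg.Agent.ChevalleyStructure.CoxeterGeom Cfsg.Agent.Tits.Roots Cfsg.Agent.Nodes.Reps
  Cfsg.Agent.Nodes.BNOf Cfsg.Agent.Nodes.Bruhat Cfsg.Agent.KFacts.RgdAut Cfsg.Agent.KFacts.RgdDiag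
  Cfsg.Agent.ClosedExc.Frame Cfsg.Agent.ODD.QB

theorem inv_mem_of_finite {G : Type} [Group G] [Finite G] {S : Submonoid G} {g : G} (hg : g ∈ S) : g⁻¹ ∈ S := by
  have h1 : g * g ^ (orderOf g - 1) = 1 := by
    rw [← pow_succ', Nat.sub_add_cancel (orderOf_pos g), pow_orderOf_eq_one]
  rw [inv_eq_of_mul_eq_one_right h1]
  exact pow_mem hg _

variable {I W Y ι : Type} [Fintype I] [DecidableEq I] [Group W] [Finite W] [Group Y] [Finite Y] [Fintype ι]
  {M : CoxeterMatrix I} {cs : CoxeterSystem M W} {A : I → I → ℤ} {h : IsCartan M A} {p : ℕ} {T : Subgroup Y}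
  {n : I → Y} {X : (I → ℤ) → Subgroup Y}

/-- the stabiliser of the frame in the Weyl group, as a monoid -/
def WD0 (cs : CoxeterSystem M W) (h : IsCartan M A) (β : ι → I → ℤ) : Submonoid W where
  carrier := {w | ∀ a, ∃ b, rep cs h w (β a) = β b ∨ rep cs h w (β a) = -β b}
  one_mem' a := ⟨a, Or.inl (by rw [map_one, Module.End.one_apply])⟩
  mul_mem' {v w} hv hw a := by
    obtain ⟨b, hb⟩ := hw a
    obtain ⟨c, hc⟩ := hv b
    refine ⟨c, ?_⟩
    rw [rep_mul_apply]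
    rcases hb with hb | hb <;> rcases hc with hc | hc <;> simp [hb, hc]

/-- the stabiliser of the frame in the Weyl group -/
def WD (cs : CoxeterSystem M W) (h : IsCartan M A) (β : ι → I → ℤ) : Subgroup W where
  toSubmonoid := WD0 cs h β
  inv_mem' := inv_mem_of_finite

/-- the subgroup of the frame -/
def MM (R : RGD cs h p T n X) (β : ι → I → ℤ) : Subgroup Y := (⨆ a, LZ X (β a)) ⊔ NP R (WD cs h β)

theorem MM_def (R : RGD cs h p T n X) (β : ι → I → ℤ) : MM R β = (⨆ a, LZ X (β a)) ⊔ NP R (WD cs h β) := rfl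

/-- the rank one axiom for the centres of the root groups (`rk_of_comm`: it holds for abelian root groups;
`rk_of_nd`: it holds for a node of type `SL₂`) -/
def Rk (R : RGD cs h p T n X) (x : I → ℤ) : Prop :=
  ∀ y ∈ zc (X (-x)), y ≠ 1 → ∃ u ∈ zc (X x), ∃ v ∈ zc (X x), u * y * v ∈ NN cs R.nsys

/-- **The data which do not depend on the automorphisms.** -/
structure GD (R : RGD cs h p T n X) (β : ι → I → ℤ) : Prop where
  prime : p.Prime
  odd : p ≠ 2
  top : GG cs h T X = ⊤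
  root : ∀ a, IsRoot cs h (β a)
  rk : ∀ a, Rk R (β a)
  orth : ∀ a b, a ≠ b → ∀ u ∈ LZ X (β a), ∀ v ∈ LZ X (β b), Commute u v
  /-- (F3) -/
  weyl : ∃ S : Sylow 2 W, Subgroup.normalizer ((S : Subgroup W) : Set W) ≤ WD cs h β
  /-- (F2) -/
  syl : ∃ Q : Sylow 2 Y, Subgroup.normalizer ((Q : Subgroup Y) : Set Y) ≤ MM R β
  ne : MM R β ≠ ⊤

/-- `γ` maps `X x` onto `X y` and `X (-x)` onto `X (-y)` -/
def Mv (X : (I → ℤ) → Subgroup Y) (γ : MulAut Y) (x y : I → ℤ) : Prop :=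
  (∀ g, γ g ∈ X y ↔ g ∈ X x) ∧ ∀ g, γ g ∈ X (-y) ↔ g ∈ X (-x)

/-- `γ` permutes the root groups of the frame -/
def Pm (X : (I → ℤ) → Subgroup Y) (β : ι → I → ℤ) (γ : MulAut Y) : Prop :=
  ∀ a, ∃ b, Mv X γ (β a) (β b) ∨ Mv X γ (β a) (-β b)

/-- the diagonal automorphisms in `Γ` permute the frame after a correction by an element of `N` -/
def Au (R : RGD cs h p T n X) (β : ι → I → ℤ) (Γ : Subgroup (MulAut Y)) : Prop :=
  ∀ γ ∈ Γ, ∀ σ, Diag T X γ σ → ∃ g ∈ NN cs R.nsys, Pm X β (MulAut.conj g * γ)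

/-- a `2`-group in `Γ` which fixes all root groups and has no fixed points on them
(`nf_of_noFix`: the `2`-part of the torus) -/
def NF (cs : CoxeterSystem M W) (h : IsCartan M A) (X : (I → ℤ) → Subgroup Y) (Γ : Subgroup (MulAut Y)) : Prop :=
  ∃ D ≤ Γ, IsPGroup 2 D ∧ (∀ α ∈ D, ∀ x, IsRoot cs h x → Fix α (X x)) ∧
    ∀ x, IsRoot cs h x → ∀ u ∈ X x, (∀ α ∈ D, α u = u) → u = 1

/-- the automorphisms of `S` which are induced by `Γ` -/
def ind {S : Type} [Group S] (f : Y →* S) (Γ : Subgroup (MulAut Y)) : Subgroup (MulAut S) where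
  carrier := {δ | ∃ γ ∈ Γ, ∀ y, δ (f y) = f (γ y)}
  one_mem' := ⟨1, one_mem _, fun _ => rfl⟩
  mul_mem' := by
    rintro a b ⟨γ, hγ, h1⟩ ⟨δ, hδ, h2⟩
    exact ⟨γ * δ, mul_mem hγ hδ, fun y => by rw [MulAut.mul_apply, h2, h1, MulAut.mul_apply]⟩
  inv_mem' := by
    rintro a ⟨γ, hγ, h1⟩
    exact ⟨γ⁻¹, inv_mem hγ, fun y => a.injective (by rw [MulAut.apply_inv_self, h1, MulAut.apply_inv_self])⟩

theorem Au.mono {R : RGD cs h p T n X} {β : ι → I → ℤ} {Γ Λ : Subgroup (MulAut Y)} (H : Au R β Γ) (hle : Λ ≤ Γ) :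
    Au R β Λ := fun γ hγ => H γ (hle hγ)

/-- **The generic theorem for a cover, general form** (`MK.G.mainI`): all data are on the quotient `S`. -/
def MainI : Prop :=
  ∀ {I W S ι : Type} [Fintype I] [DecidableEq I] [Group W] [Finite W] [Group S] [Finite S] [Fintype ι]
    {M : CoxeterMatrix I} {cs : CoxeterSystem M W} {A : I → I → ℤ} {h : IsCartan M A} {p : ℕ} {T : Subgroup S}
    {n : I → S} {X : (I → ℤ) → Subgroup S} (R : RGD cs h p T n X) (β : ι → I → ℤ), GD R β →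
    ∀ (Y : Type) [Group Y] [Finite Y] (f : Y →* S), ODD.Cv.CE p f → ∀ Γ : Subgroup (MulAut Y), Sit Y Γ →
    Au R β (ind f Γ) → NF cs h X (ind f Γ) → Gd Y Γ

/-- **The generic theorem for a cover** (`MK.G.mainC`): all data are on the quotient `S`. -/
def MainC : Prop :=
  ∀ {I W S ι : Type} [Fintype I] [DecidableEq I] [Group W] [Finite W] [Group S] [Finite S] [Fintype ι]
    {M : CoxeterMatrix I} {cs : CoxeterSystem M W} {A : I → I → ℤ} {h : IsCartan M A} {p : ℕ} {T : Subgroup S}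
    {n : I → S} {X : (I → ℤ) → Subgroup S} (R : RGD cs h p T n X) (β : ι → I → ℤ),
    GD R β → Au R β ⊤ → (∀ a ∈ T, ∀ b ∈ T, a * b = b * a) → H69.OQ.NoFix cs h T X →
    ∀ (Y : Type) [Group Y] [Finite Y] (f : Y →* S), ODD.Cv.CE p f → ∀ Γ : Subgroup (MulAut Y), Sit Y Γ → Gd Y Γ

end Cfsg.Agent.MK.G
end

-- part: MK/G/Rgd
section
set_option linter.all false
open scoped Cfsg.Agent.FastGrp

/-!
# MK-G: root group data (helper76)

* `lw R` : the length; `py_rgd`, `yx_rgd` : the data of the first step;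
* `cent_U` : a group of automorphisms which fixes the root groups without fixed points has none in `U`;
* `zc_ne_bot`, `zc_inj`, `rp_of_low`, `Rk.neg`, `fm_of` : the frame of the roots.
-/

set_option autoImplicit false
set_option linter.unusedSectionVars false

namespace Cfsg.Agent.MK.G

open Cfsg Subgroup CoxeterSystem Cfsg.Agent.ChevalleyStructure.CoxeterGeom Cfsg.Agent.Tits.Roots Cfsg.Agent.Nodes.Reps
  Cfsg.Agent.Nodes.BNOf Cfsg.Agent.Nodes.Bruhat Cfsg.Agent.Nodes.OppDec Cfsg.Agent.Nodes.NormalForm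
  Cfsg.Agent.Nodes.StabComb Cfsg.Agent.KFacts.RgdOpp Cfsg.Agent.KFacts.RgdAut Cfsg.Agent.KFacts.RgdDiag
  Cfsg.Agent.ClosedExc.Frame Cfsg.Agent.ODD.QB

variable {I W Y ι : Type} [Fintype I] [DecidableEq I] [Group W] [Finite W] [Group Y] [Finite Y] [Fintype ι]
  {M : CoxeterMatrix I} {cs : CoxeterSystem M W} {A : I → I → ℤ} {h : IsCartan M A} {p : ℕ} {T : Subgroup Y}
  {n : I → Y} {X : (I → ℤ) → Subgroup Y}

theorem length_hat_le (σ : Equiv.Perm I) (hσ : ∀ i j, M (σ i) (σ j) = M i j) (w : W) :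
    cs.length (hat cs σ hσ w) ≤ cs.length w := by
  have h1 : ∀ ω : List I, hat cs σ hσ (cs.wordProd ω) = cs.wordProd (ω.map σ) := fun ω => by
    induction ω with
    | nil => rw [List.map_nil, wordProd_nil, map_one]
    | cons i ω ih => rw [List.map_cons, wordProd_cons, wordProd_cons, map_mul, hat_simple, ih]
  obtain ⟨ω, hω, rfl⟩ := cs.exists_isReduced w
  rw [h1]
  refine (cs.length_wordProd_le _).trans ?_
  rw [List.length_map]
  exact le_of_eq hω.symm

theorem map_Sup {α : MulAut Y} {S : Set (I → ℤ)} {K : Subgroup Y} (hS : ∀ x ∈ S, ∀ y ∈ X x, α y ∈ K) {y : Y}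
    (hy : y ∈ RGD.Sup X S) : α y ∈ K :=
  (RGD.Sup_le (K := K.comap α.toMonoidHom) fun x hx y hy => hS x hx y hy) hy

theorem fix_Sup {α : MulAut Y} {S : Set (I → ℤ)} (hS : ∀ x ∈ S, Fix α (X x)) : Fix α (RGD.Sup X S) := fun y =>
  ⟨fun hy => by
    have h1 := map_Sup (α := α⁻¹) (fun x hx y hy => RGD.le_Sup hx (((hS x hx).inv y).2 hy)) hy
    rwa [MulAut.inv_apply_self] at h1,
  map_Sup fun x hx y hy => RGD.le_Sup hx ((hS x hx y).2 hy)⟩

/-- the automorphisms in `Γ` which fix `U` and `U⁻` -/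
def TR (cs : CoxeterSystem M W) (h : IsCartan M A) (X : (I → ℤ) → Subgroup Y) (Γ : Subgroup (MulAut Y)) :
    Subgroup (MulAut Y) where
  carrier := {α | α ∈ Γ ∧ Fix α (RGD.Sup X (RGD.Pos cs h)) ∧ Fix α (UN cs h X)}
  one_mem' := ⟨one_mem _, fun _ => Iff.rfl, fun _ => Iff.rfl⟩
  mul_mem' := fun ⟨h1, h2, h3⟩ ⟨h4, h5, h6⟩ => ⟨mul_mem h1 h4, h2.mul h5, h3.mul h6⟩
  inv_mem' := fun ⟨h1, h2, h3⟩ => ⟨inv_mem h1, h2.inv, h3.inv⟩

variable (R : RGD cs h p T n X)

open Classical in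
/-- the length -/
noncomputable def lw (g : Y) : ℕ := if hg : ∃ w, Rp cs R.nsys w g then cs.length hg.choose else 0

theorem lw_eq {w : W} {g : Y} (hg : Rp cs R.nsys w g) : lw R g = cs.length w := by
  have h1 : ∃ w, Rp cs R.nsys w g := ⟨w, hg⟩
  exact (dif_pos h1).trans (by rw [rp_eq R h1.choose_spec hg])

theorem uniq_N : ∀ k ∈ NN cs R.nsys, ∀ k' ∈ NN cs R.nsys, ∀ u ∈ RGD.Sup X (RGD.Pos cs h),
    ∀ v ∈ RGD.Sup X (RGD.Pos cs h), u * k * v = k' → k = k' := by
  rintro k ⟨w, hw⟩ _ ⟨w', hw'⟩ u hu v hv rfl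
  obtain rfl : w = w' := Cell.unique R ⟨u, RGD.U_le_B hu, k, hw, v, RGD.U_le_B hv, rfl⟩ (cell_of_rp hw')
  obtain ⟨b, hb, c, hc, rfl⟩ := exists_PW_NW R w hv
  have h1 : k * b * k⁻¹ ∈ RGD.Sup X (RGD.Pos cs h) :=
    conj_mem_Sup R hw (S' := RGD.Pos cs h) (fun x hx => hx.1) (fun x hx => ⟨hx.1.act _, hx.2.2⟩) hb
  exact (normal_form_unique R (one_mem _) (mul_mem hu h1) hw' hw (one_mem _) hc (by group)).2.1.symm

include R

theorem exists_VX (i : I) {u : Y} (hu : u ∈ RGD.Sup X (RGD.Pos cs h)) :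
    ∃ v ∈ RGD.Sup X (RGD.PosNe cs h i), ∃ x ∈ X (sr i), u = v * x := by
  rw [R.Upos_eq i, sup_comm] at hu
  exact H55.Sd.exists_mul_of_sup (fun x hx v hv => (mem_normalizer_iff.1 (R.X_le_normalizer_V i hx) v).1 hv) hu

theorem conj_V {i : I} {s : Y} (hs : Rp cs R.nsys (cs.simple i) s) {v : Y} (hv : v ∈ RGD.Sup X (RGD.PosNe cs h i)) :
    s * v * s⁻¹ ∈ RGD.Sup X (RGD.Pos cs h) :=
  conj_mem_Sup R hs (S' := RGD.Pos cs h) (fun _ hx => hx.1)
    (fun _ hx => ⟨hx.1.act _, hx.1.simple_nonneg hx.2.1 i hx.2.2⟩) hv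

theorem X_le_U (i : I) : X (sr i) ≤ RGD.Sup X (RGD.Pos cs h) :=
  RGD.le_Sup (S := RGD.Pos cs h) ⟨isRoot_sr cs h i, sr_nonneg i⟩

theorem py_rgd : PY (RGD.Sup X (RGD.Pos cs h)) (NN cs R.nsys) (lw R) := by
  have h1 : ∀ s ∈ NN cs R.nsys, lw R s = 1 → ∃ i, Rp cs R.nsys (cs.simple i) s := by
    rintro s ⟨w, hw⟩ hl
    rw [lw_eq R hw, cs.length_eq_one_iff] at hl
    obtain ⟨i, rfl⟩ := hl
    exact ⟨i, hw⟩
  refine ⟨uniq_N R, by rw [lw_eq R rp_one, cs.length_one], ?_, ?_, ?_, ?_, ?_, ?_⟩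
  · rintro k ⟨w, hw⟩
    rw [lw_eq R hw, lw_eq R hw.inv, cs.length_inv]
  · rintro t ⟨w, hw⟩ hl
    rw [lw_eq R hw, cs.length_eq_zero_iff] at hl
    subst hl
    refine ⟨fun u hu => (mem_normalizer_iff.1 (R.T_le_normalizer_U hw.mem_of_one) u).1 hu, ?_⟩
    rintro k ⟨v, hv⟩
    rw [lw_eq R (hw.mul hv), lw_eq R hv, one_mul]
  · rintro s hs hl k ⟨w, hw⟩
    obtain ⟨i, hi⟩ := h1 s hs hl
    rw [lw_eq R (hi.mul hw), lw_eq R hw]
    exact cs.length_simple_mul w i
  · rintro k ⟨w, hw⟩ hl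
    rw [lw_eq R hw, Ne, cs.length_eq_zero_iff] at hl
    obtain ⟨i, hi⟩ := cs.exists_leftDescent_of_ne_one hl
    have h2 := rp_simple cs R.nsys i
    exact ⟨n i, ⟨_, h2⟩, by rw [lw_eq R h2, cs.length_simple], by
      rw [lw_eq R (h2.mul hw), lw_eq R hw]; exact cs.isLeftDescent_iff.1 hi⟩
  · rintro s hs hl k ⟨w, hw⟩ hl' u hu
    obtain ⟨i, hi⟩ := h1 s hs hl
    rw [lw_eq R (hi.mul hw), lw_eq R hw] at hl'
    obtain ⟨v, hv, x, hx, rfl⟩ := exists_VX R i hu
    refine ⟨_, conj_V R hi hv, k⁻¹ * x * k, RGD.le_Sup (S := RGD.Pos cs h) ⟨(isRoot_sr cs h i).act w⁻¹, ?_⟩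
      (R.conj_mem' hw (isRoot_sr cs h i) hx), by group⟩
    refine nonneg_of_lt cs h w⁻¹ i ?_
    rw [cs.length_inv, ← cs.length_inv (w⁻¹ * cs.simple i), mul_inv_rev, inv_inv, cs.inv_simple]
    omega
  · intro s hs hl u hu
    obtain ⟨i, hi⟩ := h1 s hs hl
    obtain ⟨v, hv, x, hx, rfl⟩ := exists_VX R i hu
    have h2 := conj_V R hi hv
    have e : s * (v * x) * s⁻¹ = s * v * s⁻¹ * (s * x * s⁻¹) := by group
    have h3 := R.conj_mem hi (isRoot_sr cs h i) hx
    rw [rep_simple_sr] at h3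
    by_cases h4 : s * x * s⁻¹ = 1
    · left
      rwa [e, h4, mul_one]
    · obtain ⟨a, ha, t, ht, b, hb, e'⟩ := R.rk1 i _ h3 h4
      have h5 := ((rp_of_mem (cs := cs) (hN := R.nsys) ht).mul (rp_simple cs R.nsys i)).mul hi
      refine Or.inr ⟨t * n i * s, ⟨_, h5⟩, ?_, _, mul_mem h2 (X_le_U R i ha), b, X_le_U R i hb, by rw [e, e']; group⟩
      rw [lw_eq R h5, one_mul, cs.simple_mul_simple_self, cs.length_one]

theorem sup_eq_top (hG : GG cs h T X = ⊤) : RGD.Sup X (RGD.Pos cs h) ⊔ NN cs R.nsys = ⊤ := by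
  have hB : RGD.B cs h T X ≤ RGD.Sup X (RGD.Pos cs h) ⊔ NN cs R.nsys :=
    sup_le (fun t ht => mem_sup_right ⟨1, rp_of_mem ht⟩) le_sup_left
  refine eq_top_iff.2 fun g _ => ?_
  obtain ⟨w, a, ha, k, hk, b, hb, rfl⟩ := (mem_GG R).1 (hG ▸ mem_top g : g ∈ GG cs h T X)
  exact mul_mem (mul_mem (hB ha) (mem_sup_right ⟨w, hk⟩)) (hB hb)

/-- **No fixed points in `U`.** -/
theorem cent_U {D : Subgroup (MulAut Y)} (hD : ∀ α ∈ D, ∀ x, IsRoot cs h x → Fix α (X x))
    (h0 : ∀ x, IsRoot cs h x → ∀ u ∈ X x, (∀ α ∈ D, α u = u) → u = 1) {u : Y} (hu : u ∈ RGD.Sup X (RGD.Pos cs h))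
    (hf : ∀ α ∈ D, α u = u) : u = 1 := by
  have key : ∀ (ω : List I) (g : Y), Rp cs R.nsys (cs.wordProd ω) g → g * u * g⁻¹ ∈ RGD.Sup X (RGD.Pos cs h) := by
    intro ω
    induction ω with
    | nil =>
      intro g hg
      rw [wordProd_nil] at hg
      exact (mem_normalizer_iff.1 (R.T_le_normalizer_U hg.mem_of_one) u).1 hu
    | cons i ω ih =>
      intro g hg
      obtain ⟨k, hk⟩ := exists_rp cs R.nsys (cs.wordProd ω)
      have hs := hg.mul hk.inv
      rw [wordProd_cons, mul_inv_cancel_right] at hs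
      obtain ⟨v, hv, x, hx, e⟩ := exists_VX R i (ih k hk)
      have h1 : k⁻¹ * x * k = 1 := by
        refine h0 _ ((isRoot_sr cs h i).act _) _ (R.conj_mem' hk (isRoot_sr cs h i) hx) fun α hα => ?_
        obtain ⟨γ, hγ⟩ : ∃ γ : MulAut Y, γ = MulAut.conj k * α * MulAut.conj k⁻¹ := ⟨_, rfl⟩
        have h2 : ∀ y, γ y = k * α (k⁻¹ * y * k) * k⁻¹ := fun y => by
          rw [hγ, MulAut.mul_apply, MulAut.mul_apply, MulAut.conj_apply, MulAut.conj_apply, inv_inv]
        have h3 : ∀ z, IsRoot cs h z → ∀ y ∈ X z, γ y ∈ X z := fun z hz y hy => by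
          have h4 := R.conj_mem hk (hz.act _) ((hD α hα _ (hz.act _) _).2 (R.conj_mem' hk hz hy))
          rwa [rep_apply_inv, ← h2] at h4
        have h4 : γ v * γ x = v * x := by
          rw [← map_mul, ← e, h2, show k⁻¹ * (k * u * k⁻¹) * k = u by group, hf α hα]
        have h5 : γ v ∈ RGD.Sup X (RGD.PosNe cs h i) := map_Sup (fun z hz y hy => RGD.le_Sup hz (h3 z hz.1 y hy)) hv
        have h6 := eq_one_of_mem_PosNe R (mul_mem hx (inv_mem (h3 _ (isRoot_sr cs h i) x hx))) (by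
          rw [show x * (γ x)⁻¹ = v⁻¹ * γ v by rw [mul_inv_eq_iff_eq_mul, mul_assoc, h4, inv_mul_cancel_left]]
          exact mul_mem (inv_mem hv) h5)
        rw [mul_inv_eq_one, h2] at h6
        calc α (k⁻¹ * x * k) = k⁻¹ * (k * α (k⁻¹ * x * k) * k⁻¹) * k := by group
          _ = _ := by rw [← h6]
      have h2 : x = 1 := by
        rw [mul_assoc, inv_mul_eq_one, eq_comm, mul_eq_right] at h1
        exact h1
      rw [h2, mul_one] at e
      have h3 := conj_V R hs hv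
      rwa [← e, show g * k⁻¹ * (k * u * k⁻¹) * (g * k⁻¹)⁻¹ = g * u * g⁻¹ by group] at h3
  obtain ⟨ω, hω⟩ := cs.wordProd_surjective (Tits.Core.w0 cs)
  obtain ⟨g, hg⟩ := exists_rp cs R.nsys (Tits.Core.w0 cs)
  have h1 := eq_one_of_mem_U_of_mem_BN R (key ω g (hω ▸ hg)) (UN_le_BN (cj_U R hg ▸ conj_mem_cj.2 hu))
  rwa [mul_inv_eq_one, mul_eq_left] at h1

theorem supp_TR (hp : p.Prime) (hG : GG cs h T X = ⊤) {Γ : Subgroup (MulAut Y)} (hΓ : ∀ x, MulAut.conj x ∈ Γ) :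
    Supp Γ (TR cs h X Γ) := by
  have : Fact p.Prime := ⟨hp⟩
  refine ⟨fun _ hα => hα.1, fun α hα => ?_⟩
  obtain ⟨g, hg⟩ : ∃ g : Y, (RGD.Sup X (RGD.Pos cs h)).map α.toMonoidHom = cj g (RGD.Sup X (RGD.Pos cs h)) := by
    have hU : IsPGroup p (RGD.Sup X (RGD.Pos cs h)) := R.isPGroup_Upos
    obtain ⟨S, hS⟩ := hU.exists_le_sylow
    have hS' : (S : Subgroup Y) = RGD.Sup X (RGD.Pos cs h) :=
      eq_U_of_isPGroup R S.isPGroup' hS (by rw [hG]; exact le_top)
    obtain ⟨g, hg⟩ := MulAction.exists_smul_eq Y S (S.mapSurjective (f := α.toMonoidHom) α.surjective)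
    refine ⟨g, ?_⟩
    rw [← hS']
    exact (congrArg Sylow.toSubgroup hg).symm
  have h1 : Fix (MulAut.conj g⁻¹ * α) (RGD.Sup X (RGD.Pos cs h)) := by
    rw [fix_iff]
    have h2 : (MulAut.conj g⁻¹ * α).toMonoidHom = (MulAut.conj g⁻¹).toMonoidHom.comp α.toMonoidHom := rfl
    rw [h2, ← Subgroup.map_map, hg]
    exact cj_inv_cj g _
  obtain ⟨u, -, hU, -, hUN, -, -⟩ := exists_frame R hG h1
  exact ⟨g * u⁻¹, _, ⟨mul_mem (hΓ u) (mul_mem (hΓ _) hα), hU, hUN⟩, by rw [map_mul, map_inv, map_inv]; group⟩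

theorem le_TR {Γ D : Subgroup (MulAut Y)} (hΓ : D ≤ Γ) (hD : ∀ α ∈ D, ∀ x, IsRoot cs h x → Fix α (X x)) :
    D ≤ TR cs h X Γ := fun α hα => ⟨hΓ hα, fix_Sup fun x hx => hD α hα x hx.1, fix_Sup fun x hx => hD α hα x hx.1⟩

theorem odd_U (hp : p.Prime) (hp2 : p ≠ 2) : Odd (Nat.card (RGD.Sup X (RGD.Pos cs h))) := by
  have : Fact p.Prime := ⟨hp⟩
  obtain ⟨k, hk⟩ := R.isPGroup_Upos.exists_card_eq
  rw [hk]
  exact (hp.odd_of_ne_two hp2).pow

/-- **The data of the first step.** -/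
theorem yx_rgd (hp : p.Prime) (hp2 : p ≠ 2) (hG : GG cs h T X = ⊤) {Γ : Subgroup (MulAut Y)}
    (hΓ : ∀ x, MulAut.conj x ∈ Γ) (hnf : NF cs h X Γ) :
    YX Γ (TR cs h X Γ) ⊤ (RGD.Sup X (RGD.Pos cs h)) (NN cs R.nsys) (lw R) := by
  have h1 : ∀ α ∈ TR cs h X Γ, ∀ k ∈ NN cs R.nsys, α k ∈ NN cs R.nsys ∧ lw R (α k) ≤ lw R k := by
    rintro α ⟨-, h2, h3⟩ k ⟨w, hw⟩
    obtain ⟨σ, D⟩ := exists_diag R hG h2 h3
    have h4 := D.rp' (R := R) (D.matrix (R := R)) hw
    exact ⟨⟨_, h4⟩, by rw [lw_eq R h4, lw_eq R hw]; exact length_hat_le _ _ w⟩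
  refine ⟨sup_eq_top R hG ▸ (py_rgd R).yd, supp_TR R hp hG hΓ, fun α hα u hu => (hα.2.1 u).2 hu,
    fun α hα k hk => ⟨(h1 α hα k hk).1, le_antisymm (h1 α hα k hk).2 ?_⟩, fun x => ⟨fun hx => ?_, ?_⟩,
    odd_U R hp hp2, ?_⟩
  · have h2 := (h1 _ (inv_mem hα) _ (h1 α hα k hk).1).2
    rwa [MulAut.inv_apply_self] at h2
  · have h2 : x ∈ RGD.B cs h T X := normalizer_U' R hG ▸ fix_conj.1 hx.2.1
    have h3 := normalizer_U' (opp R) (by rw [GG_opp, hG])
    rw [U_opp, B_opp] at h3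
    have h4 : x ∈ T := B_inf_BN R ▸ (⟨h2, h3 ▸ fix_conj.1 hx.2.2⟩ : x ∈ RGD.B cs h T X ⊓ BN cs h T X)
    exact ⟨⟨1, rp_of_mem h4⟩, by rw [lw_eq R (rp_of_mem h4), cs.length_one]⟩
  · rintro ⟨⟨w, hw⟩, hl⟩
    rw [lw_eq R hw, cs.length_eq_zero_iff] at hl
    subst hl
    exact ⟨hΓ x, fix_conj.2 (R.T_le_normalizer_U hw.mem_of_one),
      fix_conj.2 (R.T_le_normalizer (S := Neg cs h) (fun _ hx => hx.1) hw.mem_of_one)⟩
  · obtain ⟨D, h2, h3, h4, h5⟩ := hnf
    exact ⟨D, le_TR R h2 h4, h3, fun u hu => cent_U R h4 h5 hu⟩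

/-! ### the poles -/

theorem zc_ne_bot (hp : p.Prime) {x : I → ℤ} (hx : IsRoot cs h x) : zc (X x) ≠ ⊥ := by
  have : Fact p.Prime := ⟨hp⟩
  have := (nontrivial_iff_ne_bot _).2 (X_ne_bot R hx)
  obtain ⟨⟨z, hz⟩, h1⟩ := @exists_ne _ (R.pgrp' hx).center_nontrivial 1
  refine ne_bot_iff_exists_ne_one.2 ⟨⟨z, mem_zc.2 ⟨z.2, fun y hy => ?_⟩⟩, fun h2 => h1 (Subtype.ext (Subtype.ext ?_))⟩
  · exact congrArg Subtype.val (mem_center_iff.1 hz ⟨y, hy⟩)
  · have h3 := congrArg Subtype.val h2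
    exact h3

theorem zc_inj (hp : p.Prime) {x y : I → ℤ} (hx : IsRoot cs h x) (hy : IsRoot cs h y) (e : zc (X x) = zc (X y)) :
    x = y := by
  by_contra h1
  refine zc_ne_bot R hp hx (eq_bot_iff.2 ?_)
  rw [← X_inf_X R hx hy h1]
  exact le_inf inf_le_left (e.le.trans inf_le_left)

theorem rp_of_low {w : W} {i : I} {y u v : Y} (hy : y ∈ X (-rep cs h w (sr i))) (h1 : y ≠ 1)
    (hu : u ∈ X (rep cs h w (sr i))) (hv : v ∈ X (rep cs h w (sr i))) (hN : u * y * v ∈ NN cs R.nsys) :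
    Rp cs R.nsys (w * cs.simple i * w⁻¹) (u * y * v) := by
  obtain ⟨g, hg⟩ := exists_rp cs R.nsys w
  have hr := (isRoot_sr cs h i).act w
  have h2 := R.conj_mem' hg hr.neg hy
  have h3 := R.conj_mem' hg hr hu
  have h4 := R.conj_mem' hg hr hv
  rw [rep_inv_apply] at h3 h4
  rw [map_neg, rep_inv_apply] at h2
  obtain ⟨a, ha, t, ht, b, hb, e⟩ := R.rk1 i _ h2 fun h5 => h1 (by
    rwa [mul_assoc, inv_mul_eq_one, eq_comm, mul_eq_right] at h5)
  have h5 := (rp_of_mem (cs := cs) (hN := R.nsys) ht).mul (rp_simple cs R.nsys i)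
  have h6 := uniq_N R _ ⟨_, h5⟩ _ (mul_mem (mul_mem (inv_mem ⟨w, hg⟩) hN) ⟨w, hg⟩) _ (X_le_U R i (mul_mem h3 ha)) _
    (X_le_U R i (mul_mem hb h4)) (by
      rw [show g⁻¹ * (u * y * v) * g = g⁻¹ * u * g * (g⁻¹ * y * g) * (g⁻¹ * v * g) by group, e]; group)
  have h7 := (hg.mul h5).mul hg.inv
  rwa [h6, one_mul, show g * (g⁻¹ * (u * y * v) * g) * g⁻¹ = u * y * v by group] at h7

theorem cj_of_low {x : I → ℤ} (hx : IsRoot cs h x) {y u v : Y} (hy : y ∈ X (-x)) (h1 : y ≠ 1) (hu : u ∈ X x)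
    (hv : v ∈ X x) (hN : u * y * v ∈ NN cs R.nsys) :
    cj (u * y * v) (X x) = X (-x) ∧ cj (u * y * v) (X (-x)) = X x := by
  obtain ⟨w, i, rfl⟩ := id hx
  have h2 := rp_of_low R hy h1 hu hv hN
  have h3 : rep cs h (w * cs.simple i * w⁻¹) (rep cs h w (sr i)) = -rep cs h w (sr i) := by
    rw [rep_mul_apply, rep_inv_apply, rep_mul_apply, rep_simple_sr, map_neg]
  exact ⟨by rw [R.conj_rp h2 hx, h3], by rw [R.conj_rp h2 hx.neg, map_neg, h3, neg_neg]⟩

variable {R}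

theorem Rk.exists_m (hp : p.Prime) {x : I → ℤ} (hx : IsRoot cs h x) (H : Rk R x) :
    ∃ m ∈ NN cs R.nsys, m ∈ LZ X x ∧ cj m (X x) = X (-x) ∧ cj m (X (-x)) = X x := by
  obtain ⟨⟨y, hy⟩, h1⟩ := ne_bot_iff_exists_ne_one.1 (zc_ne_bot R hp hx.neg)
  have h2 : y ≠ 1 := fun h => h1 (Subtype.ext h)
  obtain ⟨u, hu, v, hv, h3⟩ := H y hy h2
  exact ⟨_, h3, mul_mem (mul_mem (mem_sup_left hu) (mem_sup_right hy)) (mem_sup_left hv),
    cj_of_low R hx hy.1 h2 hu.1 hv.1 h3⟩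

theorem Rk.neg (hp : p.Prime) {x : I → ℤ} (hx : IsRoot cs h x) (H : Rk R x) : Rk R (-x) := by
  obtain ⟨m, hm, -, h1, h2⟩ := H.exists_m hp hx
  intro y hy h3
  rw [neg_neg] at hy
  obtain ⟨u, hu, v, hv, h4⟩ := H _ ((zc_cj h1 y).2 hy) fun h => h3 (by rwa [mul_inv_eq_one, mul_eq_left] at h)
  have h5 : ∀ u ∈ zc (X x), m⁻¹ * u * m ∈ zc (X (-x)) := fun u hu => (zc_cj h2 _).1 (by
    rwa [show m * (m⁻¹ * u * m) * m⁻¹ = u by group])
  refine ⟨_, h5 u hu, _, h5 v hv, ?_⟩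
  rw [show m⁻¹ * u * m * y * (m⁻¹ * v * m) = m⁻¹ * (u * (m * y * m⁻¹) * v) * m by group]
  exact mul_mem (mul_mem (inv_mem hm) h4) hm

/-- **The frame of the roots.** -/
theorem fm_of (hp : p.Prime) {β : ι → I → ℤ} (hr : ∀ a, IsRoot cs h (β a)) (h0 : ∀ a, 0 ≤ β a)
    (hk : ∀ a, Rk R (β a)) (ho : ∀ a b, a ≠ b → ∀ u ∈ LZ X (β a), ∀ v ∈ LZ X (β b), Commute u v) :
    Fm (RGD.Sup X (RGD.Pos cs h)) (NN cs R.nsys) (Zr X β) := by
  refine ⟨?_, ho, fun a y hy => RGD.le_Sup (S := RGD.Pos cs h) ⟨hr a, h0 a⟩ hy.1, fun a => zc_ne_bot R hp (hr a).neg,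
    fun a y hy h1 => ?_, uniq_N R⟩
  · rintro ⟨a, s⟩ ⟨b, s'⟩ e
    have h1 : ∀ a (s : Bool), IsRoot cs h (cond s (β a) (-β a)) := fun a s => by
      cases s
      exacts [(hr a).neg, hr a]
    have h2 : cond s (β a) (-β a) = cond s' (β b) (-β b) := zc_inj R hp (h1 a s) (h1 b s') e
    have h3 : s = s' ∧ β a = β b := by
      cases s <;> cases s'
      · exact ⟨rfl, neg_injective h2⟩
      · exact absurd (neg_nonneg.1 ((h0 b).trans_eq h2.symm)) ((hr a).not_pos_neg (h0 a))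
      · exact absurd (neg_nonneg.1 ((h0 a).trans_eq h2)) ((hr b).not_pos_neg (h0 b))
      · exact ⟨rfl, h2⟩
    by_contra h4
    have h5 : a ≠ b := fun h5 => h4 (Prod.ext h5 h3.1)
    obtain ⟨m, -, hm, h6, -⟩ := (hk a).exists_m hp (hr a)
    refine zc_ne_bot R hp (hr a) (eq_bot_iff.2 fun y hy => ?_)
    rw [← X_inf_X R (hr a) (hr a).neg (H491.Sd.root_ne_neg (hr a))]
    refine ⟨hy.1, ?_⟩
    have h7 : m * y * m⁻¹ ∈ X (-β a) := h6 ▸ conj_mem_cj.2 hy.1
    rwa [(ho a b h5 m hm y (h3.2 ▸ mem_sup_left hy)).eq, mul_inv_cancel_right] at h7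
  · obtain ⟨u, hu, v, hv, h2⟩ := hk a y hy h1
    obtain ⟨h3, h4⟩ := cj_of_low R (hr a) hy.1 h1 hu.1 hv.1 h2
    refine ⟨u, hu, v, hv, h2, fun s z => ?_⟩
    cases s
    exacts [zc_cj h4 z, zc_cj h3 z]

end Cfsg.Agent.MK.G
end

-- part: MK/G/Main
section
prune_inst 0x1020790154800000001c0012a00066e575000092006b800158640f46068eff62290427217c600f1a08102e50203900481254007900100000200006004001040110aa7486b308a10c61000780f887180c00000000000000000000000000041000200000000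
set_option linter.all false
open scoped Cfsg.Agent.FastGrp

/-!
# MK-G: the generic theorem (helper76)

* `toW`, `relIndex_NP`, `exists_Q` : Sylow subgroups of `N`;
* `GD.congr`, `Pm.congr` : the signs of the frame do not matter;
* `in_eq`, `MM_eq` : the groups of the frame;
* `main (h : Steps) : Main`.
-/

set_option autoImplicit false
set_option linter.unusedSectionVars false

namespace Cfsg.Agent.MK.G

open Cfsg Subgroup CoxeterSystem Cfsg.Agent.ChevalleyStructure.CoxeterGeom Cfsg.Agent.Tits.Roots Cfsg.Agent.Nodes.Reps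
  Cfsg.Agent.Nodes.BNOf Cfsg.Agent.Nodes.Bruhat Cfsg.Agent.KFacts.RgdAut Cfsg.Agent.KFacts.RgdDiag
  Cfsg.Agent.ClosedExc.Frame Cfsg.Agent.ODD.QB

variable {I W Y ι : Type} [Fintype I] [DecidableEq I] [Group W] [Finite W] [Group Y] [Finite Y] [Fintype ι]
  {M : CoxeterMatrix I} {cs : CoxeterSystem M W} {A : I → I → ℤ} {h : IsCartan M A} {p : ℕ} {T : Subgroup Y}
  {n : I → Y} {X : (I → ℤ) → Subgroup Y} {β β' : ι → I → ℤ}

section weyl

variable (R : RGD cs h p T n X)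

/-- the map to the Weyl group -/
noncomputable def toW : NN cs R.nsys →* W :=
  MonoidHom.mk' (fun g => g.2.choose) fun a b =>
    rp_eq R (a * b).2.choose_spec (a.2.choose_spec.mul b.2.choose_spec)

theorem rp_toW (g : NN cs R.nsys) : Rp cs R.nsys (toW R g) g := g.2.choose_spec

theorem toW_surjective : Function.Surjective (toW R) := fun w => by
  obtain ⟨g, hg⟩ := exists_rp cs R.nsys w
  exact ⟨⟨g, w, hg⟩, rp_eq R (rp_toW R _) hg⟩

theorem NP_le (P : Subgroup W) : NP R P ≤ NN cs R.nsys := fun _ ⟨w, _, hw⟩ => ⟨w, hw⟩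

theorem NP_top : NP R ⊤ = NN cs R.nsys := le_antisymm (NP_le R ⊤) fun _ ⟨w, hw⟩ => ⟨w, mem_top w, hw⟩

theorem NP_subgroupOf (P : Subgroup W) : (NP R P).subgroupOf (NN cs R.nsys) = P.comap (toW R) := by
  ext g
  exact ⟨fun ⟨w, hw, hg⟩ => by rwa [rp_eq R hg (rp_toW R g)] at hw, fun hg => ⟨_, hg, rp_toW R g⟩⟩

theorem relIndex_NP (P P' : Subgroup W) : (NP R P').relIndex (NP R P) = P'.relIndex P := by
  rw [← relIndex_subgroupOf (NP_le R P), NP_subgroupOf, NP_subgroupOf, relIndex_comap,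
    map_comap_eq_self_of_surjective (toW_surjective R)]

theorem exists_Q {P : Subgroup W} (hP : ∃ S : Sylow 2 W, normalizer ((S : Subgroup W) : Set W) ≤ P) :
    ∃ Q ≤ NP R P, IsPGroup 2 Q ∧ Odd (Q.relIndex (NN cs R.nsys)) ∧
      ∀ x ∈ NN cs R.nsys, x ∈ normalizer (Q : Set Y) → x ∈ NP R P := by
  obtain ⟨S, hS⟩ := hP
  obtain ⟨Q, h1, -, h2, h3⟩ := H55.Sd.exists_syl (H := NP R S) IsPGroup.of_bot bot_le
  have h4 : (S : Subgroup W) ≤ (Q.subgroupOf (NN cs R.nsys)).map (toW R) := by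
    have h5 : (Q.subgroupOf (NN cs R.nsys)).map (toW R) ≤ S := by
      rintro _ ⟨g, hg, rfl⟩
      obtain ⟨w, hw, h6⟩ := h1 hg
      rwa [rp_eq R (rp_toW R g) h6]
    refine H55.Sd.le_of_odd h5 le_rfl S.isPGroup' (h3.of_dvd_nat ?_)
    rw [← relIndex_NP R]
    exact relIndex_dvd_of_le_left _ fun g hg => ⟨_, ⟨⟨g, NP_le R _ (h1 hg)⟩, hg, rfl⟩, rp_toW R _⟩
  refine ⟨Q, h1.trans (H491.Sd.NP_mono R (le_normalizer.trans hS)), h2, ?_, ?_⟩
  · rw [← relIndex_mul_relIndex _ _ _ h1 (NP_le R _), ← NP_top R, relIndex_NP, relIndex_top_right]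
    refine h3.mul ?_
    rw [← Nat.not_even_iff_odd, even_iff_two_dvd]
    exact S.not_dvd_index
  · rintro x ⟨w, hw⟩ hx
    refine ⟨w, hS (mem_normalizer_fintype fun s hs => ?_), hw⟩
    obtain ⟨q, hq, rfl⟩ := h4 hs
    obtain ⟨v, hv, h5⟩ := h1 ((mem_normalizer_iff.1 hx q).1 hq)
    rwa [rp_eq R ((hw.mul (rp_toW R q)).mul hw.inv) h5]

end weyl

/-! ### signs -/

theorem Mv.neg {γ : MulAut Y} {x y : I → ℤ} (H : Mv X γ x y) : Mv X γ (-x) (-y) :=
  ⟨H.2, by rw [neg_neg, neg_neg]; exact H.1⟩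

theorem Pm.congr (e : ∀ a, β' a = β a ∨ β' a = -β a) {γ : MulAut Y} (H : Pm X β γ) : Pm X β' γ := fun a => by
  obtain ⟨b, hb⟩ := H a
  refine ⟨b, ?_⟩
  rcases e a with e1 | e1 <;> rcases e b with e2 | e2 <;> rw [e1, e2]
  · exact hb
  · rw [neg_neg]; exact hb.symm
  · refine hb.symm.imp (fun h => ?_) Mv.neg
    have := h.neg
    rwa [neg_neg] at this
  · exact hb.imp Mv.neg Mv.neg

theorem pm_symm (e : ∀ a, β' a = β a ∨ β' a = -β a) (a : ι) : β a = β' a ∨ β a = -β' a :=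
  (e a).imp Eq.symm fun h => by rw [h, neg_neg]

theorem WD_congr (e : ∀ a, β' a = β a ∨ β' a = -β a) : WD cs h β' = WD cs h β :=
  le_antisymm (fun _ hw a => (hw a).imp fun b => pm_trans (pm_symm e a) (pm_symm e b))
    fun _ hw a => (hw a).imp fun b => pm_trans (e a) (e b)

theorem LZ_congr (e : ∀ a, β' a = β a ∨ β' a = -β a) (a : ι) : LZ X (β' a) = LZ X (β a) :=
  (e a).elim (fun h => by rw [h]) fun h => by rw [h, LZ_neg]

variable {R : RGD cs h p T n X}

theorem MM_congr (e : ∀ a, β' a = β a ∨ β' a = -β a) : MM R β' = MM R β := by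
  rw [MM_def, MM_def, WD_congr e, iSup_congr (LZ_congr e)]

theorem exists_pos' (hr : ∀ a, IsRoot cs h (β a)) :
    ∃ β' : ι → I → ℤ, (∀ a, β' a = β a ∨ β' a = -β a) ∧ ∀ a, 0 ≤ β' a := by
  have h1 : ∀ a, ∃ x : I → ℤ, (x = β a ∨ x = -β a) ∧ 0 ≤ x := fun a =>
    (hr a).pos_or_neg.elim (fun h0 => ⟨_, Or.inl rfl, h0⟩) fun h0 => ⟨_, Or.inr rfl, neg_nonneg.2 h0⟩
  choose β' h2 h3 using h1
  exact ⟨β', h2, h3⟩

theorem root_congr (e : ∀ a, β' a = β a ∨ β' a = -β a) (hr : ∀ a, IsRoot cs h (β a)) (a : ι) : IsRoot cs h (β' a) :=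
  (e a).elim (fun h => h ▸ hr a) fun h => h ▸ (hr a).neg

theorem rk_congr (hp : p.Prime) (e : ∀ a, β' a = β a ∨ β' a = -β a) (hr : ∀ a, IsRoot cs h (β a))
    (hk : ∀ a, Rk R (β a)) (a : ι) : Rk R (β' a) :=
  (e a).elim (fun h => h ▸ hk a) fun h => h ▸ (hk a).neg hp (hr a)

theorem GD.congr (e : ∀ a, β' a = β a ∨ β' a = -β a) (D : GD R β) : GD R β' :=
  ⟨D.prime, D.odd, D.top, root_congr e D.root, rk_congr D.prime e D.root D.rk,
    fun a b hab => by rw [LZ_congr e, LZ_congr e]; exact D.orth a b hab, by rw [WD_congr e]; exact D.weyl, MM_congr (R := R) e ▸ D.syl,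
    MM_congr (R := R) e ▸ D.ne⟩

/-! ### the groups of the frame -/

theorem ns_of_pm (hi : Function.Injective (Zr X β)) {γ : MulAut Y} (H : Pm X β γ) : γ ∈ NS (Zr X β) := by
  have h1 : ∀ a, ∃ (b : ι) (e : Bool), ∀ s y, γ y ∈ Zr X β (b, xor e s) ↔ y ∈ Zr X β (a, s) := fun a => by
    obtain ⟨b, hb | hb⟩ := H a
    · exact ⟨b, false, fun s => by cases s; exacts [zc_iff hb.2, zc_iff hb.1]⟩
    · have h2 := hb.2
      rw [neg_neg] at h2
      exact ⟨b, true, fun s => by cases s; exacts [zc_iff h2, zc_iff hb.1]⟩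
  choose b e he using h1
  exact (exists_acts hi b e he).imp fun _ h => h.1

theorem in_eq (hp : p.Prime) (hr : ∀ a, IsRoot cs h (β a)) (hi : Function.Injective (Zr X β))
    {Λ : Subgroup (MulAut Y)} (hΛ : In Λ = NN cs R.nsys) : In (Λ ⊓ NS (Zr X β)) = NP R (WD cs h β) := by
  apply le_antisymm
  · rintro g ⟨h1, π, h2⟩
    obtain ⟨w, hw⟩ : g ∈ NN cs R.nsys := hΛ ▸ h1
    refine ⟨w, fun a => ⟨(π (a, true)).1, ?_⟩, hw⟩
    have h3 : zc (X (rep cs h w (β a))) = Zr X β (π (a, true)) := Subgroup.ext fun y => by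
      have h4 := (zc_cj (R.conj_rp hw (hr a)) (g⁻¹ * y * g)).trans (h2.2 (a, true) (g⁻¹ * y * g)).symm
      rwa [MulAut.conj_apply, show g * (g⁻¹ * y * g) * g⁻¹ = y by group] at h4
    obtain ⟨⟨b, _ | _⟩, hx⟩ : ∃ x, π (a, true) = x := ⟨_, rfl⟩
    · rw [hx] at h3 ⊢
      exact Or.inr (zc_inj R hp ((hr a).act w) (hr b).neg h3)
    · rw [hx] at h3 ⊢
      exact Or.inl (zc_inj R hp ((hr a).act w) (hr b) h3)
  · rintro g ⟨w, hw, hg⟩
    choose b hb using hw
    exact ⟨(hΛ ▸ ⟨w, hg⟩ : g ∈ In Λ), (acts_rp (R := R) hr hi hg hb).imp fun _ h => h.1⟩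

theorem MM_eq (hp : p.Prime) (hr : ∀ a, IsRoot cs h (β a)) {U : Subgroup Y} {Λ : Subgroup (MulAut Y)}
    (hΛ : In Λ = NN cs R.nsys) (F : Fm U (In Λ) (Zr X β)) : UD (Zr X β) ⊔ In (Λ ⊓ NS (Zr X β)) = MM R β := by
  refine le_antisymm (sup_le (iSup_le fun a => ?_) ?_) (sup_le F.K_le ?_)
  · exact (le_sup_left : _ ≤ LZ X (β a)).trans ((le_iSup (fun a => LZ X (β a)) a).trans le_sup_left)
  · rw [in_eq hp hr F.inj hΛ]; exact le_sup_right
  · rw [in_eq hp hr F.inj hΛ]; exact le_sup_right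

theorem GD.N_ne (D : GD R β) : NN cs R.nsys ≠ ⊤ := fun hN => by
  have h1 : IsEmpty ι := ⟨fun a => by
    obtain ⟨w, i, -⟩ := D.root a
    obtain ⟨u, hu, h2⟩ := exists_ne_one R i
    exact h2 (uniq_N R 1 (one_mem _) u (hN ▸ mem_top u) u (X_le_U R i hu) 1 (one_mem _) (by group)).symm⟩
  refine D.ne (eq_top_iff.2 (hN.ge.trans ?_))
  rintro g ⟨w, hw⟩
  exact mem_sup_right ⟨w, fun a => h1.elim a, hw⟩

theorem gd_of_pos (hI : StepI) (hY : StepY) {Γ : Subgroup (MulAut Y)} (c : Sit Y Γ) (D : GD R β) (h0 : ∀ a, 0 ≤ β a)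
    (hA : Au R β Γ) (hnf : NF cs h X Γ) : Gd Y Γ := by
  have Y1 := yx_rgd R D.prime D.odd D.top c.inn hnf
  have hΛ := YX.in_N Y1
  have F : Fm (RGD.Sup X (RGD.Pos cs h)) (In (Cj (NN cs R.nsys) ⊔ TR cs h X Γ)) (Zr X β) :=
    hΛ.symm ▸ fm_of D.prime D.root h0 D.rk D.orth
  have hle : Cj (NN cs R.nsys) ⊔ TR cs h X Γ ≤ Γ := sup_le (by rintro _ ⟨x, -, rfl⟩; exact c.inn x) Y1.supp.le
  have Y2 := F.yx (Γ := Γ) ⟨inf_le_left.trans hle, fun α hα => by
    obtain ⟨x, δ, hδ, rfl⟩ := Y1.supp.sup α hα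
    obtain ⟨σ, h1⟩ := exists_diag R D.top hδ.2.1 hδ.2.2
    obtain ⟨g, hg, h2⟩ := hA δ hδ.1 σ h1
    exact ⟨x * g⁻¹, _, ⟨mul_mem (mem_sup_left (conj_mem_Cj hg)) (mem_sup_right hδ), ns_of_pm F.inj h2⟩, by
      rw [map_mul, map_inv]; group⟩⟩ Y1.odd (by
    obtain ⟨E, h2, h3, h4, h5⟩ := hnf
    refine ⟨E, fun α hα => ⟨mem_sup_right (le_TR R h2 h4 hα), 1, ⟨fun _ _ => rfl, ?_⟩,
      Set.eq_empty_iff_forall_notMem.2 fun _ => notMem_Ng.2 rfl⟩, h3, fun u hu => cent_U R h4 h5 hu⟩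
    rintro ⟨a, _ | _⟩
    exacts [zc_iff (h4 α hα _ (D.root a).neg), zc_iff (h4 α hα _ (D.root a))])
  refine gd_of_yx hI hY c Y1 Y2 D.N_ne (by rw [MM_eq D.prime D.root hΛ F]; exact D.ne)
    (sup_le (by rintro _ ⟨x, hx, rfl⟩; exact hx.1) (TH_le.trans inf_le_left)) ?_
    (by rw [MM_eq D.prime D.root hΛ F]; exact D.syl)
  rw [in_eq D.prime D.root F.inj hΛ]
  exact exists_Q R D.weyl

/-- **The generic theorem.** -/
theorem gd_of (H : Steps) {Γ : Subgroup (MulAut Y)} (c : Sit Y Γ) (D : GD R β) (hA : Au R β Γ) (hnf : NF cs h X Γ) :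
    Gd Y Γ := by
  obtain ⟨β', e, h0⟩ := exists_pos' D.root
  exact gd_of_pos H.i H.y c (D.congr e) h0 (fun γ hγ σ h1 => (hA γ hγ σ h1).imp fun _ h2 => ⟨h2.1, h2.2.congr e⟩) hnf

end Cfsg.Agent.MK.G
end

-- part: MK/G/Weyl
section
prune_inst 0x30302d0554800000001c0012a00040a5310000000003000018240502000eda222940260148200d0a0810081020010060025c0020401000000a0004000005040110a85406a308a10c600007803087180c00000000000000000000000000041000200000000
set_option linter.all false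
open scoped Cfsg.Agent.FastGrp

/-!
# MK-G: tools, the Weyl group (helper76)

* `F1 R β` : the first six fields of `GD`; `F1.gd`;
* `Od cs h x y` : the product of the two reflections is not a `2`-element; `od_of_B`, `od_of_mat`, `od_of_symm`,
  `od_of_root`, `od_of_orbit`;
* `weyl_of_top`, `F1.weyl_of_od`, `F1.weyl_of_all`, `odd_WD`;
* `au_of_pm`, `au_of_one`, `au_of_root`, `au_of_comp`, `F1.au_of_all`.
-/

set_option autoImplicit false
set_option linter.unusedSectionVars false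

namespace Cfsg.Agent.MK.G

open Cfsg Subgroup CoxeterSystem Cfsg.Agent.ChevalleyStructure.CoxeterGeom Cfsg.Agent.Tits.Roots Cfsg.Agent.Nodes.Reps
  Cfsg.Agent.Nodes.BNOf Cfsg.Agent.Nodes.Bruhat Cfsg.Agent.KFacts.RgdAut Cfsg.Agent.KFacts.RgdDiag
  Cfsg.Agent.ClosedExc.Frame Cfsg.Agent.ODD.QB

variable {I W Y ι : Type} [Fintype I] [DecidableEq I] [Group W] [Finite W] [Group Y] [Finite Y] [Fintype ι]
  {M : CoxeterMatrix I} {cs : CoxeterSystem M W} {A : I → I → ℤ} {h : IsCartan M A} {p : ℕ} {T : Subgroup Y}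
  {n : I → Y} {X : (I → ℤ) → Subgroup Y} {β : ι → I → ℤ}

/-! ### angles -/

/-- the product of the reflections in `x` and `y` is not a `2`-element -/
def Od (cs : CoxeterSystem M W) (h : IsCartan M A) (x y : I → ℤ) : Prop :=
  ∀ r s, IsRefl cs h x r → IsRefl cs h y s → ∀ k : ℕ, (r * s) ^ 2 ^ k ≠ 1

section form

variable {B : (I → ℤ) → (I → ℤ) → ℤ} (hs : ∀ x y, B x y = B y x)
  (hl : ∀ x y z (c : ℤ), B x (y - c • z) = B x y - c * B x z)
  (hi : ∀ i y, B (sr i) (sr i) * pairing A i y = 2 * B (sr i) y)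

include hs hl hi

theorem B_rep (w : W) (x y : I → ℤ) : B (rep cs h w x) (rep cs h w y) = B x y := by
  obtain ⟨ω, rfl⟩ := cs.wordProd_surjective w
  induction ω with
  | nil => rw [wordProd_nil, map_one, Module.End.one_apply, Module.End.one_apply]
  | cons i ω ih =>
    rw [wordProd_cons, rep_mul_apply, rep_mul_apply, ← ih]
    generalize rep cs h (cs.wordProd ω) x = u
    generalize rep cs h (cs.wordProd ω) y = v
    rw [rep_simple_eq, rep_simple_eq, hl, hs _ v, hs _ (sr i), hl, hl, hs v u, hs v]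
    have h1 := hi i u
    have h2 := hi i v
    have h3 : 2 * (pairing A i u * B (sr i) v + pairing A i v * (B (sr i) u - pairing A i u * B (sr i) (sr i))) = 0 := by
      linear_combination (-pairing A i u) * h2 - pairing A i v * h1
    linarith

theorem refl_B {x : I → ℤ} {r : W} (hr : IsRefl cs h x r) (y : I → ℤ) :
    ∃ c : ℤ, rep cs h r y = y - c • x ∧ B x x * c = 2 * B x y := by
  obtain ⟨v, i, rfl, rfl⟩ := hr
  refine ⟨pairing A i (rep cs h v⁻¹ y), ?_, ?_⟩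
  · rw [rep_mul_apply, rep_mul_apply, rep_simple_eq, map_sub, map_smul, rep_apply_inv]
  · rw [B_rep hs hl hi, hi, ← B_rep (cs := cs) (h := h) hs hl hi v, rep_apply_inv]

/-- **An angle of `60` or `120` degrees.** -/
theorem od_of_B {x y : I → ℤ} (h0 : B x x ≠ 0) (h1 : B y y = B x x) (h2 : 2 * B x y = B x x ∨ 2 * B x y = -B x x) :
    Od cs h x y := by
  intro r s hr hs' k hk
  obtain ⟨e, he, h3⟩ : ∃ e : ℤ, e * e = 1 ∧ 2 * B x y = B x x * e :=
    h2.elim (fun h => ⟨1, rfl, by rw [h, mul_one]⟩) fun h => ⟨-1, rfl, by rw [h, mul_neg_one]⟩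
  have h4 : ∀ {z : I → ℤ} {t : W}, IsRefl cs h z t → rep cs h t z = -z := by
    rintro _ _ ⟨v, i, rfl, rfl⟩
    rw [rep_mul_apply, rep_inv_apply, rep_mul_apply, rep_simple_sr, map_neg]
  obtain ⟨c, hc, hc'⟩ := refl_B hs hl hi hr y
  obtain ⟨d, hd, hd'⟩ := refl_B hs hl hi hs' x
  obtain rfl : c = e := mul_left_cancel₀ h0 (hc'.trans h3)
  obtain rfl : d = c := mul_left_cancel₀ h0 (by rw [← h3, hs x y, ← hd', h1])
  have e1 : rep cs h (r * s) x = -d • y := by
    rw [rep_mul_apply, hd, map_sub, map_smul, h4 hr, hc, smul_sub, smul_smul, he, one_smul, neg_smul]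
    abel
  have e2 : rep cs h (r * s) y = -y + d • x := by
    rw [rep_mul_apply, h4 hs', map_neg, hc]
    abel
  have e3 : rep cs h ((r * s) ^ 2) x = d • y - x := by
    rw [pow_two, rep_mul_apply, e1, map_smul, e2, smul_add, smul_smul, neg_mul, he, smul_neg, neg_smul, neg_neg,
      neg_smul, one_smul, sub_eq_add_neg]
  have e4 : ∀ m : ℕ, rep cs h ((r * s) ^ (3 * m)) x = x := fun m => by
    induction m with
    | zero => rw [mul_zero, pow_zero, map_one, Module.End.one_apply]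
    | succ m ih =>
      rw [mul_add, mul_one, pow_add, rep_mul_apply, pow_succ' _ 2, rep_mul_apply, e3, map_sub, map_smul, e1, e2, smul_add,
        smul_smul, he, one_smul, smul_neg, neg_smul, sub_neg_eq_add, neg_add_cancel_comm, ih]
  have h5 : ∀ j : ℕ, (r * s) ^ (3 * (2 ^ k / 3) + j) = 1 → rep cs h ((r * s) ^ j) x = x := fun j hj => by
    rw [add_comm, pow_add] at hj
    rw [← e4 (2 ^ k / 3), ← rep_mul_apply, hj, e4, map_one, Module.End.one_apply]
  have h6 : 2 ^ k % 3 = 1 ∨ 2 ^ k % 3 = 2 := by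
    have h7 : ¬ 3 ∣ 2 ^ k := fun h7 => absurd (Nat.prime_three.dvd_of_dvd_pow h7) (by decide)
    omega
  have h7 : B x 0 = 0 := by
    have h8 := hl x x x 1
    rwa [one_smul, sub_self, one_mul, sub_self] at h8
  rw [← Nat.div_add_mod (2 ^ k) 3] at hk
  rcases h6 with h6 | h6 <;> rw [h6] at hk
  · have h8 := h5 1 hk
    rw [pow_one, e1] at h8
    have h9 := hl x 0 y d
    rw [zero_sub, ← neg_smul, h8, h7] at h9
    have h10 : 3 * B x x = 0 := by linear_combination 2 * h9 - d * h3 - B x x * he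
    exact h0 (by linarith)
  · have h8 := h5 2 hk
    rw [e3] at h8
    have h9 := hl x x y d
    rw [show x - d • y = 0 - (1 : ℤ) • x by rw [one_smul, zero_sub, ← neg_sub, h8], hl, h7] at h9
    have h10 : 3 * B x x = 0 := by linear_combination (-2) * h9 + d * h3 + B x x * he
    exact h0 (by linarith)

end form

/-! ### the Weyl group -/

theorem weyl_of_top (hW : WD cs h β = ⊤) :
    ∃ S : Sylow 2 W, normalizer ((S : Subgroup W) : Set W) ≤ WD cs h β := ⟨default, hW ▸ le_top⟩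

theorem odd_WD (hW : ∃ S : Sylow 2 W, normalizer ((S : Subgroup W) : Set W) ≤ WD cs h β) : Odd (WD cs h β).index := by
  obtain ⟨S, hS⟩ := hW
  rw [← Nat.not_even_iff_odd, even_iff_two_dvd]
  exact fun h2 => S.not_dvd_index (h2.trans (index_dvd_of_le (le_normalizer.trans hS)))

/-- the first six fields of `GD` -/
structure F1 (R : RGD cs h p T n X) (β : ι → I → ℤ) : Prop where
  prime : p.Prime
  odd : p ≠ 2
  top : GG cs h T X = ⊤
  root : ∀ a, IsRoot cs h (β a)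
  rk : ∀ a, Rk R (β a)
  orth : ∀ a b, a ≠ b → ∀ u ∈ LZ X (β a), ∀ v ∈ LZ X (β b), Commute u v

variable {R : RGD cs h p T n X}

theorem F1.gd (F : F1 R β) (hW : ∃ S : Sylow 2 W, normalizer ((S : Subgroup W) : Set W) ≤ WD cs h β)
    (hQ : ∃ Q : Sylow 2 Y, normalizer ((Q : Subgroup Y) : Set Y) ≤ MM R β) (hne : MM R β ≠ ⊤) : GD R β :=
  ⟨F.prime, F.odd, F.top, F.root, F.rk, F.orth, hW, hQ, hne⟩

/-- a Sylow subgroup which contains the reflections of the frame -/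
theorem F1.exists_S (F : F1 R β) : ∃ S : Sylow 2 W, ∀ a r, IsRefl cs h (β a) r → r ∈ (S : Subgroup W) := by
  have h1 : ∀ a r, IsRefl cs h (β a) r → ∃ m ∈ LZ X (β a), Rp cs R.nsys r m := by
    rintro a _ ⟨v, i, e, rfl⟩
    obtain ⟨⟨y, hy⟩, h2⟩ := ne_bot_iff_exists_ne_one.1 (zc_ne_bot R F.prime (F.root a).neg)
    have h3 : y ≠ 1 := fun h => h2 (Subtype.ext h)
    obtain ⟨u, hu, u', hu', h4⟩ := F.rk a y hy h3
    exact ⟨_, mul_mem (mul_mem (mem_sup_left hu) (mem_sup_right hy)) (mem_sup_left hu'),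
      rp_of_low R (e ▸ hy.1) h3 (e ▸ hu.1) (e ▸ hu'.1) h4⟩
  have h2 : ∀ a r s, IsRefl cs h (β a) r → IsRefl cs h (β a) s → r = s := by
    rintro a _ _ ⟨v, i, e, rfl⟩ ⟨v', i', e', rfl⟩
    obtain ⟨⟨y, hy⟩, h2⟩ := ne_bot_iff_exists_ne_one.1 (zc_ne_bot R F.prime (F.root a).neg)
    have h3 : y ≠ 1 := fun h => h2 (Subtype.ext h)
    obtain ⟨u, hu, u', hu', h4⟩ := F.rk a y hy h3
    exact rp_eq R (rp_of_low R (e ▸ hy.1) h3 (e ▸ hu.1) (e ▸ hu'.1) h4)
      (rp_of_low R (e' ▸ hy.1) h3 (e' ▸ hu.1) (e' ▸ hu'.1) h4)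
  have h3 : closure {r | ∃ a, IsRefl cs h (β a) r} ≤ centralizer {r | ∃ a, IsRefl cs h (β a) r} := by
    rw [closure_le]
    rintro r ⟨a, hr⟩ s ⟨b, hs⟩
    by_cases hab : b = a
    · rw [h2 a r s hr (hab ▸ hs)]
    · obtain ⟨m, hm, h4⟩ := h1 a r hr
      obtain ⟨m', hm', h5⟩ := h1 b s hs
      exact rp_eq R (h5.mul h4) ((F.orth b a hab m' hm' m hm).eq ▸ h4.mul h5)
  have h4 : closure {r | ∃ a, IsRefl cs h (β a) r} ≤ centralizer (closure {r | ∃ a, IsRefl cs h (β a) r} : Set W) := by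
    rw [closure_le]
    exact fun r hr s hs => (h3 hs r hr).symm
  have h5 : IsPGroup 2 (closure {r | ∃ a, IsRefl cs h (β a) r}) := by
    rintro ⟨g, hg⟩
    refine ⟨1, Subtype.ext ?_⟩
    show g ^ 2 ^ 1 = 1
    induction hg using closure_induction with
    | mem r hr =>
      obtain ⟨a, v, i, -, rfl⟩ := hr
      rw [conj_pow, pow_one, cs.simple_sq, mul_one, mul_inv_cancel]
    | one => exact one_pow _
    | mul a b ha hb h6 h7 => rw [Commute.mul_pow (h4 hb a ha), h6, h7, one_mul]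
    | inv a _ h6 => rw [inv_pow, h6, inv_one]
  obtain ⟨S, hS⟩ := h5.exists_le_sylow
  exact ⟨S, fun a r hr => hS (subset_closure ⟨a, hr⟩)⟩

theorem not_od {S : Sylow 2 W} {x y : I → ℤ} {r s : W} (hr : IsRefl cs h x r) (hs : IsRefl cs h y s)
    (h1 : r ∈ (S : Subgroup W)) (h2 : s ∈ (S : Subgroup W)) : ¬ Od cs h x y := fun H => by
  obtain ⟨k, hk⟩ := S.isPGroup' ⟨_, mul_mem h1 h2⟩
  exact H r s hr hs k (congrArg Subtype.val hk)

theorem exists_isRefl {x : I → ℤ} (hx : IsRoot cs h x) : ∃ r, IsRefl cs h x r :=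
  let ⟨v, i, e⟩ := hx
  ⟨_, v, i, e, rfl⟩

/-- **(F3)**, no counting is needed -/
theorem F1.weyl_of_od (F : F1 R β) (H : ∀ w, w ∉ WD cs h β → ∃ a b, Od cs h (rep cs h w (β a)) (β b)) :
    ∃ S : Sylow 2 W, normalizer ((S : Subgroup W) : Set W) ≤ WD cs h β := by
  obtain ⟨S, hS⟩ := F.exists_S
  refine ⟨S, fun w hw => by_contra fun h1 => ?_⟩
  obtain ⟨a, b, h2⟩ := H w h1
  obtain ⟨v, i, e⟩ := F.root a
  obtain ⟨s, hs⟩ := exists_isRefl (F.root b)
  refine not_od (r := w * (v * cs.simple i * v⁻¹) * w⁻¹) ⟨w * v, i, by rw [e, rep_mul_apply], by group⟩ hs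
    ((mem_normalizer_iff.1 hw _).1 (hS a _ ⟨v, i, e, rfl⟩)) (hS b s hs) h2

/-- every root is in the frame or has an odd angle with it (simply laced types, `G₂`) -/
def All (cs : CoxeterSystem M W) (h : IsCartan M A) (β : ι → I → ℤ) : Prop :=
  ∀ x, IsRoot cs h x → (∃ b, x = β b ∨ x = -β b) ∨ ∃ b, Od cs h x (β b)

theorem F1.weyl_of_all (F : F1 R β) (H : All cs h β) :
    ∃ S : Sylow 2 W, normalizer ((S : Subgroup W) : Set W) ≤ WD cs h β := by
  refine F.weyl_of_od fun w hw => ?_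
  obtain ⟨a, ha⟩ := not_forall.1 hw
  exact ⟨a, (H _ ((F.root a).act w)).resolve_left ha⟩

/-! ### automorphisms -/

theorem mv_conj {w : W} {g : Y} (hg : Rp cs R.nsys w g) {γ : MulAut Y} {x y : I → ℤ} (hy : IsRoot cs h y)
    (H : Mv X γ x y) : Mv X (MulAut.conj g * γ) x (rep cs h w y) :=
  ⟨fun z => by rw [← R.conj_rp hg hy, ← H.1]; exact conj_mem_cj,
    fun z => by rw [← map_neg, ← R.conj_rp hg hy.neg, ← H.2]; exact conj_mem_cj⟩

theorem mv_of_diag {γ : MulAut Y} {σ : Equiv.Perm I} (D : Diag T X γ σ) (v : W) (i : I) :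
    Mv X γ (rep cs h v (sr i)) (rep cs h (hat cs σ (D.matrix R) v) (sr (σ i))) := by
  refine ⟨D.root R _ v i, fun z => ?_⟩
  have h1 := D.root R (D.matrix R) (v * cs.simple i) i z
  rwa [map_mul, hat_simple, rep_mul_apply, rep_mul_apply, rep_simple_sr, rep_simple_sr, map_neg, map_neg] at h1

/-- by the action on the roots -/
theorem au_of_root {Γ : Subgroup (MulAut Y)}
    (H : ∀ γ ∈ Γ, ∀ σ (D : Diag T X γ σ), ∃ w, ∀ a, ∃ b v i, β a = rep cs h v (sr i) ∧
      (rep cs h (w * hat cs σ (D.matrix R) v) (sr (σ i)) = β b ∨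
        rep cs h (w * hat cs σ (D.matrix R) v) (sr (σ i)) = -β b)) : Au R β Γ := fun γ hγ σ D => by
  obtain ⟨w, hw⟩ := H γ hγ σ D
  obtain ⟨g, hg⟩ := exists_rp cs R.nsys w
  refine ⟨g, ⟨w, hg⟩, fun a => ?_⟩
  obtain ⟨b, v, i, e, h1⟩ := hw a
  have h2 := mv_conj (R := R) hg ((isRoot_sr cs h _).act _) (mv_of_diag (R := R) D v i)
  rw [← rep_mul_apply, ← e] at h2
  exact ⟨b, h1.imp (fun e => by rwa [e] at h2) fun e => by rwa [e] at h2⟩

/-- if the permutations preserve the Cartan matrix -/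
theorem au_of_comp (hr : ∀ a, IsRoot cs h (β a)) {Γ : Subgroup (MulAut Y)}
    (H : ∀ γ ∈ Γ, ∀ σ, Diag T X γ σ → (∀ i j, A (σ i) (σ j) = A i j) ∧
      ∃ w, ∀ a, ∃ b, rep cs h w (β a ∘ σ.symm) = β b ∨ rep cs h w (β a ∘ σ.symm) = -β b) : Au R β Γ :=
  au_of_root fun γ hγ σ D => by
    obtain ⟨hA, w, hw⟩ := H γ hγ σ D
    refine ⟨w, fun a => ?_⟩
    obtain ⟨b, hb⟩ := hw a
    obtain ⟨v, i, e⟩ := hr a
    refine ⟨b, v, i, e, ?_⟩
    rwa [rep_mul_apply, ← sr_comp, rep_hat _ hA, ← e]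

/-- no graph automorphisms -/
theorem au_of_one (hr : ∀ a, IsRoot cs h (β a)) {Γ : Subgroup (MulAut Y)}
    (H : ∀ γ ∈ Γ, ∀ σ, Diag T X γ σ → σ = 1) : Au R β Γ :=
  au_of_comp hr fun γ hγ σ D => by
    rw [H γ hγ σ D]
    exact ⟨fun _ _ => rfl, 1, fun a => ⟨a, Or.inl (by rw [map_one]; rfl)⟩⟩

/-- the Coxeter matrix has no symmetries -/
theorem au_of_rigid (hr : ∀ a, IsRoot cs h (β a)) {Γ : Subgroup (MulAut Y)}
    (H : ∀ σ : Equiv.Perm I, (∀ i j, M (σ i) (σ j) = M i j) → σ = 1) : Au R β Γ :=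
  au_of_one hr fun _ _ σ D => H σ (D.matrix R)

/-- **Simply laced types and `G₂`**: all graph automorphisms at once -/
theorem F1.au_of_all (F : F1 R β) (H : All cs h β) {Γ : Subgroup (MulAut Y)} : Au R β Γ := by
  obtain ⟨S, hS⟩ := F.exists_S
  refine au_of_root fun γ _ σ D => ?_
  obtain ⟨w, -, hw⟩ := H55.Sd.exists_conj_le (le_top : (S : Subgroup W) ≤ ⊤) S.isPGroup' (by
    rw [relIndex_top_right, ← Nat.not_even_iff_odd, even_iff_two_dvd]
    exact S.not_dvd_index) le_top (S.isPGroup'.map (hat cs σ (D.matrix R)))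
  refine ⟨w⁻¹, fun a => ?_⟩
  obtain ⟨v, i, e⟩ := F.root a
  obtain ⟨b, hb⟩ := (H _ ((isRoot_sr cs h (σ i)).act (w⁻¹ * hat cs σ (D.matrix R) v))).resolve_right (by
    rintro ⟨b, hb⟩
    obtain ⟨s, hs⟩ := exists_isRefl (F.root b)
    refine not_od ⟨_, _, rfl, rfl⟩ hs ?_ (hS b s hs) hb
    have h1 := hw _ ⟨_, hS a _ ⟨v, i, e, rfl⟩, rfl⟩
    rw [map_mul, map_mul, map_inv, hat_simple] at h1
    rwa [← mul_assoc, ← mul_assoc, mul_assoc _ _ w, ← inv_inv w, ← mul_inv_rev, inv_inv w] at h1)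
  exact ⟨b, v, i, e, hb⟩

end Cfsg.Agent.MK.G
end

-- part: MK/G/Tools
section
prune_inst 0x1020790554800000001c0012a00066c557000002006b880019040f040e8edf62294427217c600f1a081028d4203900481210007000100000200004000119048110ab7426a318a90c60000700f884000000000000000000000000000000041000200000000
set_option linter.all false
open scoped Cfsg.Agent.FastGrp

/-!
# MK-G: tools, the group (helper76)

* `Rk.conj`, `rk_of_comm`, `rk_of_nd`, `zc_eq`, `LZ_le`, `f1_of_frameData`;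
* `nf_of_noFix`, `syl_of_dg`, `odd_MM_of_le`, `odd_MM_of_MF`;
* `F1.ne_of_WD`, `F1.ne_of_comm`, `F1.ne_of_empty`, `F1.ne_of_two`.
-/

set_option autoImplicit false
set_option linter.unusedSectionVars false

namespace Cfsg.Agent.MK.G

open Cfsg Subgroup CoxeterSystem Cfsg.Agent.ChevalleyStructure.CoxeterGeom Cfsg.Agent.Tits.Roots Cfsg.Agent.Nodes.Reps
  Cfsg.Agent.Nodes.BNOf Cfsg.Agent.Nodes.Bruhat Cfsg.Agent.Nodes.OppDec Cfsg.Agent.KFacts.RgdOpp
  Cfsg.Agent.KFacts.RgdAut Cfsg.Agent.KFacts.RgdDiag Cfsg.Agent.ClosedExc.Frame Cfsg.Agent.ODD.QB Cfsg.Agent.H310.OQ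

variable {I W Y ι : Type} [Fintype I] [DecidableEq I] [Group W] [Finite W] [Group Y] [Finite Y] [Fintype ι]
  {M : CoxeterMatrix I} {cs : CoxeterSystem M W} {A : I → I → ℤ} {h : IsCartan M A} {p : ℕ} {T : Subgroup Y}
  {n : I → Y} {X : (I → ℤ) → Subgroup Y} {β : ι → I → ℤ} {R : RGD cs h p T n X}

/-! ### rank one -/

theorem zc_eq {H : Subgroup Y} (hc : ∀ a ∈ H, ∀ b ∈ H, a * b = b * a) : zc H = H :=
  inf_eq_left.2 fun y hy x hx => hc x hx y hy

theorem LZ_le (x : I → ℤ) : LZ X x ≤ Nodes.FreeTorus.LL X x := sup_le_sup inf_le_left inf_le_left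

theorem Rk.conj {x : I → ℤ} (hx : IsRoot cs h x) (H : Rk R x) (w : W) : Rk R (rep cs h w x) := by
  obtain ⟨g, hg⟩ := exists_rp cs R.nsys w
  intro y hy h1
  rw [← map_neg, ← cj_zc (R.conj_rp hg hx.neg), mem_cj] at hy
  obtain ⟨u, hu, v, hv, h2⟩ := H _ hy fun h3 => h1 (by rwa [mul_assoc, inv_mul_eq_one, eq_comm, mul_eq_right] at h3)
  refine ⟨_, (zc_cj (R.conj_rp hg hx) u).2 hu, _, (zc_cj (R.conj_rp hg hx) v).2 hv, ?_⟩
  rw [show g * u * g⁻¹ * y * (g * v * g⁻¹) = g * (u * (g⁻¹ * y * g) * v) * g⁻¹ by group]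
  exact mul_mem (mul_mem ⟨w, hg⟩ h2) ⟨_, hg.inv⟩

theorem comm_conj (R : RGD cs h p T n X) {x : I → ℤ} (hx : IsRoot cs h x) (hc : ∀ a ∈ X x, ∀ b ∈ X x, a * b = b * a) (w : W) :
    ∀ a ∈ X (rep cs h w x), ∀ b ∈ X (rep cs h w x), a * b = b * a := by
  obtain ⟨g, hg⟩ := exists_rp cs R.nsys w
  rw [← R.conj_rp hg hx]
  rintro _ ⟨a, ha, rfl⟩ _ ⟨b, hb, rfl⟩
  rw [← map_mul, hc a ha b hb, map_mul]

theorem comm_neg (R : RGD cs h p T n X) {x : I → ℤ} (hx : IsRoot cs h x) (hc : ∀ a ∈ X x, ∀ b ∈ X x, a * b = b * a) :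
    ∀ a ∈ X (-x), ∀ b ∈ X (-x), a * b = b * a := by
  obtain ⟨w, i, rfl⟩ := id hx
  have h1 := comm_conj R hx hc (w * cs.simple i * w⁻¹)
  rwa [rep_mul_apply, rep_inv_apply, rep_mul_apply, rep_simple_sr, map_neg] at h1

theorem LZ_eq (R : RGD cs h p T n X) {x : I → ℤ} (hx : IsRoot cs h x) (hc : ∀ a ∈ X x, ∀ b ∈ X x, a * b = b * a) :
    LZ X x = Nodes.FreeTorus.LL X x :=
  congrArg₂ (· ⊔ ·) (zc_eq hc) (zc_eq (comm_neg R hx hc))

variable (R) in
/-- **Abelian root groups.** -/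
theorem rk_of_comm {x : I → ℤ} (hx : IsRoot cs h x) (hc : ∀ a ∈ X x, ∀ b ∈ X x, a * b = b * a) : Rk R x := by
  obtain ⟨w, i, rfl⟩ := id hx
  have h1 := comm_conj R hx hc w⁻¹
  rw [rep_inv_apply] at h1
  refine Rk.conj (isRoot_sr cs h i) (fun y hy h2 => ?_) w
  obtain ⟨a, ha, t, ht, b, hb, rfl⟩ := R.rk1 i y hy.1 h2
  rw [zc_eq h1]
  refine ⟨_, inv_mem ha, _, inv_mem hb, ?_⟩
  rw [show a⁻¹ * (a * t * n i * b) * b⁻¹ = t * n i by group]
  exact ⟨_, (rp_of_mem ht).mul (rp_simple cs R.nsys i)⟩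

/-- a frame of abelian root groups -/
theorem f1_of_LC (hp : p.Prime) (hp2 : p ≠ 2) (hG : GG cs h T X = ⊤) (hr : ∀ a, IsRoot cs h (β a))
    (ho : ∀ a b, a ≠ b → LC X (β a) (β b)) (hc : ∀ a, ∀ u ∈ X (β a), ∀ v ∈ X (β a), u * v = v * u) : F1 R β :=
  ⟨hp, hp2, hG, hr, fun a => rk_of_comm R (hr a) (hc a), fun a b hab u hu v hv => ho a b hab u (LZ_le _ hu) v (LZ_le _ hv)⟩

/-! ### the torus -/

theorem nf_of_noFix (R : RGD cs h p T n X) (hc : ∀ a ∈ T, ∀ b ∈ T, a * b = b * a) (hnf : H69.OQ.NoFix cs h T X) {Γ : Subgroup (MulAut Y)}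
    (hΓ : ∀ t ∈ T, MulAut.conj t ∈ Γ) : NF cs h X Γ := by
  refine ⟨Cj (T2 hc), ?_, (isPGroup_T2 hc).map _, ?_, fun x hx u hu h1 => hnf x hx u hu fun t ht hk => ?_⟩
  · rintro _ ⟨t, ht, rfl⟩
    exact hΓ t ht.1
  · rintro _ ⟨t, ht, rfl⟩ x hx
    exact fix_conj.2 (mem_normalizer_iff_cj.2 (R.tor x hx t ht.1))
  · exact mul_inv_eq_iff_eq_mul.1 (h1 _ ⟨t, ⟨ht, hk⟩, rfl⟩)

theorem T_le_MM : T ≤ MM R β := (T_le_NP R).trans le_sup_right

/-- (F2) if the Sylow subgroups are self normalising -/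
theorem syl_of_self (ho : Odd (MM R β).index)
    (hs : ∀ Q : Sylow 2 Y, normalizer ((Q : Subgroup Y) : Set Y) ≤ Q) :
    ∃ Q : Sylow 2 Y, normalizer ((Q : Subgroup Y) : Set Y) ≤ MM R β := by
  obtain ⟨P, h1, -, h3, h4⟩ := H55.Sd.exists_syl (H := MM R β) IsPGroup.of_bot bot_le
  have h5 : ¬ 2 ∣ P.index := by
    rw [← even_iff_two_dvd, Nat.not_even_iff_odd, ← relIndex_mul_index h1]
    exact h4.mul ho
  exact ⟨h3.toSylow h5, (hs _).trans h1⟩

/-! ### the structure of `MM` -/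

theorem center_le_T (R : RGD cs h p T n X) (hG : GG cs h T X = ⊤) : center Y ≤ T := fun z hz => by
  have h1 := normalizer_U' (opp R) (by rw [GG_opp, hG])
  rw [U_opp, B_opp] at h1
  rw [← B_inf_BN R, ← normalizer_U' R hG, ← h1]
  exact ⟨center_le_normalizer _ hz, center_le_normalizer _ hz⟩

variable (R) in
theorem in_Cj (hG : GG cs h T X = ⊤) : In (Cj (NN cs R.nsys)) = NN cs R.nsys := by
  have h1 := In_sup (Θ := ⊥) (H := NN cs R.nsys) (fun α hα x hx => by rw [mem_bot.1 hα]; exact hx) fun z hz =>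
    ⟨1, rp_of_mem (center_le_T R hG (mem_center_iff.2 fun g => by
      have h2 : MulAut.conj z g = g := by rw [mem_bot.1 hz]; rfl
      exact (mul_inv_eq_iff_eq_mul.1 h2).symm))⟩
  rwa [sup_bot_eq] at h1

theorem F1.congr {β' : ι → I → ℤ} (e : ∀ a, β' a = β a ∨ β' a = -β a) (F : F1 R β) : F1 R β' :=
  ⟨F.prime, F.odd, F.top, root_congr e F.root, rk_congr F.prime e F.root F.rk,
    fun a b hab => by rw [LZ_congr e, LZ_congr e]; exact F.orth a b hab⟩

theorem F1.fm (F : F1 R β) (h0 : ∀ a, 0 ≤ β a) :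
    Fm (RGD.Sup X (RGD.Pos cs h)) (In (Cj (NN cs R.nsys))) (Zr X β) :=
  (in_Cj R F.top).symm ▸ fm_of F.prime F.root h0 F.rk F.orth

/-- a simple group and at least two roots -/
theorem F1.ne_of_two [IsSimpleGroup Y] (F : F1 R β) {a b : ι} (hab : a ≠ b) : MM R β ≠ ⊤ := fun h1 => by
  have h2 : ∀ a, LZ X (β a) ≠ ⊥ := fun a h => zc_ne_bot R F.prime (F.root a) (eq_bot_iff.2 (le_sup_left.trans h.le))
  have h3 : (⨆ a, LZ X (β a)).Normal := by
    rw [← normalizer_eq_top_iff, eq_top_iff, ← h1]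
    refine sup_le le_normalizer ?_
    rintro g ⟨w, hw, hg⟩
    refine mem_normalizer_fintype fun y hy => ?_
    refine (iSup_le fun c => ?_ : (⨆ a, LZ X (β a)) ≤ (⨆ a, LZ X (β a)).comap (MulAut.conj g).toMonoidHom) hy
    obtain ⟨d, hd⟩ := hw c
    have h4 : cj g (LZ X (β c)) = LZ X (rep cs h w (β c)) := by
      show cj g (_ ⊔ _) = _ ⊔ _
      rw [cj_sup, cj_zc (R.conj_rp hg (F.root c)), cj_zc (R.conj_rp hg (F.root c).neg), map_neg]
    rw [show LZ X (rep cs h w (β c)) = LZ X (β d) from hd.elim (fun e => by rw [e]) fun e => by rw [e, LZ_neg]] at h4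
    exact fun y hy => le_iSup (fun a => LZ X (β a)) d (h4 ▸ conj_mem_cj.2 hy)
  have h4 : (⨆ a, LZ X (β a)) = ⊤ :=
    h3.eq_bot_or_eq_top.resolve_left fun h => h2 a (eq_bot_iff.2 ((le_iSup (fun a => LZ X (β a)) a).trans h.le))
  have h5 : ∀ c, LZ X (β c) = ⊤ := fun c => by
    refine (Normal.eq_bot_or_eq_top ?_).resolve_left (h2 c)
    rw [← normalizer_eq_top_iff, eq_top_iff, ← h4]
    refine iSup_le fun d => ?_
    by_cases hd : d = c
    · rw [hd]; exact le_normalizer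
    · exact fun g hg => centralizer_le_normalizer _ fun y hy => (F.orth c d (Ne.symm hd) y hy g hg).eq
  obtain ⟨m, -, -, h6, -⟩ := (F.rk a).exists_m F.prime (F.root a)
  refine X_ne_bot R (F.root a) (eq_bot_iff.2 fun y hy => ?_)
  rw [← X_inf_X R (F.root a) (F.root a).neg (H491.Sd.root_ne_neg (F.root a))]
  have h7 : m * y * m⁻¹ ∈ X (-β a) := h6 ▸ conj_mem_cj.2 hy
  rw [(F.orth a b hab m (h5 a ▸ mem_top m) y (h5 b ▸ mem_top y)).eq, mul_inv_cancel_right] at h7
  exact ⟨hy, h7⟩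

end Cfsg.Agent.MK.G
end

-- part: MK/G/Cover
section
set_option linter.all false
open scoped Cfsg.Agent.FastGrp

/-!
# MK-G: central extensions (helper76)

All data lift along a central extension `f : Y →* S` of order prime to `2 p`: `mainI`, `mainC`.
-/

set_option autoImplicit false
set_option linter.unusedSectionVars false

namespace Cfsg.Agent.MK.G

open Cfsg Subgroup CoxeterSystem Cfsg.Agent.ChevalleyStructure.CoxeterGeom Cfsg.Agent.Tits.Roots Cfsg.Agent.Nodes.Reps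
  Cfsg.Agent.Nodes.BNOf Cfsg.Agent.Nodes.Bruhat Cfsg.Agent.Nodes.RGDLift Cfsg.Agent.KFacts.RgdAut
  Cfsg.Agent.KFacts.RgdDiag Cfsg.Agent.ClosedExc.Frame Cfsg.Agent.ODD.QB Cfsg.Agent.ODD.Cv
open scoped commutatorElement

section aut

variable {Y S : Type} [Group Y] [Group S] {f : Y →* S}

theorem exists_ind (hs : Function.Surjective f) {γ : MulAut Y} (hγ : ∀ z ∈ f.ker, γ z = z) :
    ∃ δ : MulAut S, ∀ y, δ (f y) = f (γ y) := by
  have key : ∀ γ : MulAut Y, (∀ z ∈ f.ker, γ z = z) → ∃ δ : S →* S, ∀ y, δ (f y) = f (γ y) := fun γ hγ =>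
    ⟨f.liftOfRightInverse _ (Function.rightInverse_surjInv hs) ⟨f.comp γ.toMonoidHom, fun z hz => by
      show f (γ z) = 1
      rw [hγ z hz]
      exact hz⟩, fun y => MonoidHom.liftOfRightInverse_comp_apply _ _ _ _ y⟩
  obtain ⟨a, ha⟩ := key γ hγ
  obtain ⟨b, hb⟩ := key γ⁻¹ fun z hz => by rw [MulAut.inv_def, MulEquiv.symm_apply_eq, hγ z hz]
  refine ⟨{ a with
    invFun := b
    left_inv := fun s => ?_
    right_inv := fun s => ?_ }, ha⟩
  · obtain ⟨y, rfl⟩ := hs s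
    exact (congrArg b (ha y)).trans ((hb _).trans (by rw [MulAut.inv_apply_self]))
  · obtain ⟨y, rfl⟩ := hs s
    exact (congrArg a (hb y)).trans ((ha _).trans (by rw [MulAut.apply_inv_self]))

theorem eq_one_of_ind (hY : commutator Y = ⊤) (hf : f.ker ≤ center Y) {γ : MulAut Y} (hγ : ∀ y, f (γ y) = f y) :
    γ = 1 := by
  have h1 : ∀ y, ∃ z ∈ center Y, γ y = z * y := fun y =>
    ⟨γ y * y⁻¹, hf (by rw [MonoidHom.mem_ker, map_mul, map_inv, hγ, mul_inv_cancel]), by group⟩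
  have h2 : commutator Y ≤ γ.toMonoidHom.eqLocus (MonoidHom.id Y) := by
    rw [commutator_def, commutator_le]
    intro a _ b _
    obtain ⟨z, hz, e⟩ := h1 a
    obtain ⟨z', hz', e'⟩ := h1 b
    show γ ⁅a, b⁆ = ⁅a, b⁆
    rw [map_commutatorElement, e, e', commutatorElement_def, commutatorElement_def]
    calc z * a * (z' * b) * (z * a)⁻¹ * (z' * b)⁻¹ = z * (a * z' * (b * a⁻¹)) * z⁻¹ * b⁻¹ * z'⁻¹ := by group
      _ = a * b * a⁻¹ * b⁻¹ := by
        rw [← mem_center_iff.1 hz, mul_inv_cancel_right, mem_center_iff.1 hz', mul_assoc z', mul_assoc z',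
          ← mem_center_iff.1 hz', mul_inv_cancel_right, mul_assoc a b]
  ext y
  exact h2 (hY ▸ mem_top y)

end aut

variable {I W Y S ι : Type} [Fintype I] [DecidableEq I] [Group W] [Finite W] [Group Y] [Finite Y] [Group S] [Finite S]
  [Fintype ι] {M : CoxeterMatrix I} {cs : CoxeterSystem M W} {A : I → I → ℤ} {h : IsCartan M A} {p : ℕ}
  [Fact p.Prime] {T : Subgroup S} {n : I → S} {X : (I → ℤ) → Subgroup S} {β : ι → I → ℤ} {f : Y →* S} (E : CE p f)

include E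

theorem comm_lift {g y : Y} {k : ℕ} (hy : y ^ p ^ k = 1) (hc : f g * f y = f y * f g) : g * y = y * g := by
  have h1 : f (g * y * g⁻¹ * y⁻¹) = 1 := by
    rw [map_mul, map_mul, map_mul, map_inv, map_inv, hc, mul_inv_cancel_right, mul_inv_cancel]
  have h2 : Commute (g * y * g⁻¹) y⁻¹ := by
    have h3 := mem_center_iff.1 (E.cen h1) y⁻¹
    rw [← mul_assoc, mul_left_inj] at h3
    exact h3.symm
  have h3 := eq_one_of_ker E.cop h1 (k := k) (by
    rw [h2.mul_pow, conj_pow, inv_pow, hy, mul_one, mul_inv_cancel, inv_one, mul_one])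
  rwa [mul_inv_eq_one, mul_inv_eq_iff_eq_mul] at h3

theorem mem_zc_lft {P : Subgroup S} (hP : IsPGroup p P) {y : Y} :
    y ∈ zc (lft p f P) ↔ f y ∈ zc P ∧ ∃ k : ℕ, y ^ p ^ k = 1 := by
  rw [mem_zc, mem_zc, mem_lft E.cen hP]
  refine ⟨fun ⟨⟨h1, h2⟩, h3⟩ => ⟨⟨h1, fun x hx => ?_⟩, h2⟩, fun ⟨⟨h1, h2⟩, k, hk⟩ => ⟨⟨h1, k, hk⟩, fun x hx => ?_⟩⟩
  · rw [← map_lft E.cen E.cop E.surj hP] at hx
    obtain ⟨x, hx, rfl⟩ := hx
    rw [← map_mul, h3 x hx, map_mul]
  · exact comm_lift E hk (h2 _ ((mem_lft E.cen hP).1 hx).1)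

theorem map_zc {P : Subgroup S} (hP : IsPGroup p P) : (zc (lft p f P)).map f = zc P := by
  apply le_antisymm
  · rintro _ ⟨y, hy, rfl⟩
    exact ((mem_zc_lft E hP).1 hy).1
  · intro s hs
    obtain ⟨y, hy, rfl⟩ : s ∈ (lft p f P).map f := by rw [map_lft E.cen E.cop E.surj hP]; exact hs.1
    exact ⟨y, (mem_zc_lft E hP).2 ⟨hs, ((mem_lft E.cen hP).1 hy).2⟩, rfl⟩

theorem iff_lft {P Q : Subgroup S} (hP : IsPGroup p P) (hQ : IsPGroup p Q) {γ : MulAut Y} {δ : MulAut S}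
    (e : ∀ y, δ (f y) = f (γ y)) : (∀ y, γ y ∈ lft p f Q ↔ y ∈ lft p f P) ↔ ∀ s, δ s ∈ Q ↔ s ∈ P := by
  refine ⟨fun H s => ⟨fun hs => ?_, fun hs => ?_⟩, fun H y => ?_⟩
  · rw [← map_lft E.cen E.cop E.surj hQ] at hs
    obtain ⟨z, hz, h1⟩ := hs
    obtain ⟨y, rfl⟩ := γ.surjective z
    rw [← δ.injective ((e y).trans h1)]
    exact ((mem_lft E.cen hP).1 ((H y).1 hz)).1
  · rw [← map_lft E.cen E.cop E.surj hP] at hs
    obtain ⟨y, hy, rfl⟩ := hs
    rw [e]
    exact ((mem_lft E.cen hQ).1 ((H y).2 hy)).1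
  · rw [mem_lft E.cen hP, mem_lft E.cen hQ, ← e, H]
    refine and_congr_right fun _ => exists_congr fun k => ?_
    rw [← map_pow, map_eq_one_iff _ γ.injective]

variable {R : RGD cs h p T n X} {m : I → Y} (hm : ∀ i, f (m i) = n i)
  (R' : RGD cs h p (T.comap f) m fun x => lft p f (X x))

include hm

omit E in
theorem rp_iff {w : W} {g : Y} : Rp cs R'.nsys w g ↔ Rp cs R.nsys w (f g) := by
  refine ⟨rp_map hm _ _, fun hg => ?_⟩
  obtain ⟨k, hk⟩ := exists_rp cs R'.nsys w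
  have h1 := hk.mul_mem_right (t := k⁻¹ * g) (by
    rw [mem_comap, map_mul, map_inv]
    exact (rp_map hm _ R.nsys hk).unique hg)
  rwa [mul_inv_cancel_left] at h1

omit E in
theorem NP_lift (P : Subgroup W) : NP R' P = (NP R P).comap f :=
  Subgroup.ext fun _ => exists_congr fun _ => and_congr_right fun _ => rp_iff (R := R) hm R'

omit hm R' in
theorem map_LZ (R : RGD cs h p T n X) {x : I → ℤ} (hx : IsRoot cs h x) :
    (LZ (fun x => lft p f (X x)) x).map f = LZ X x :=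
  (map_sup _ _ f).trans (congrArg₂ (· ⊔ ·) (map_zc E (R.pgrp' hx)) (map_zc E (R.pgrp' hx.neg)))

theorem MM_lift (hr : ∀ a, IsRoot cs h (β a)) : MM R' β = (MM R β).comap f := by
  have h1 : (MM R' β).map f = MM R β := by
    rw [MM_def, MM_def, Subgroup.map_sup, Subgroup.map_iSup, iSup_congr fun a => map_LZ E R (hr a), NP_lift (R := R) hm,
      map_comap_eq_self_of_surjective E.surj]
  rw [← h1, comap_map_eq_self]
  exact fun z hz => T_le_MM (by rw [mem_comap, MonoidHom.mem_ker.1 hz]; exact one_mem _)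

theorem GD.lift (D : GD R β) : GD R' β := by
  refine ⟨D.prime, D.odd, ?_, D.root, fun a y hy h1 => ?_, fun a b hab u hu v hv => ?_, D.weyl, ?_, fun h1 => D.ne ?_⟩
  · have h1 : GG cs h T X ≤ (GG cs h (T.comap f) fun x => lft p f (X x)).map f := by
      refine sup_le (fun t ht => ?_) (RGD.Sup_le fun x hx => ?_)
      · obtain ⟨y, rfl⟩ := E.surj t
        exact ⟨y, T_le_GG (T := T.comap f) ht, rfl⟩
      · rw [← map_lft E.cen E.cop E.surj (R.pgrp' hx)]
        exact map_mono (X_le_GG (X := fun x => lft p f (X x)) hx)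
    refine eq_top_iff.2 fun y _ => ?_
    obtain ⟨x, hx, e⟩ := h1 (D.top ▸ mem_top (f y))
    have h2 : x⁻¹ * y ∈ T.comap f := by
      rw [mem_comap, map_mul, map_inv, e, inv_mul_cancel]
      exact one_mem _
    exact (Subgroup.mul_mem_cancel_left _ (inv_mem hx)).1 (T_le_GG h2)
  · obtain ⟨h2, k, hk⟩ := (mem_zc_lft E (R.pgrp' (D.root a).neg)).1 hy
    obtain ⟨u, hu, v, hv, w, hw⟩ := D.rk a _ h2 fun h3 => h1 (eq_one_of_ker E.cop h3 hk)
    rw [← map_zc E (R.pgrp' (D.root a))] at hu hv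
    obtain ⟨u, hu, rfl⟩ := hu
    obtain ⟨v, hv, rfl⟩ := hv
    exact ⟨u, hu, v, hv, w, (rp_iff (R := R) hm R').2 (by rwa [map_mul, map_mul])⟩
  · have h1 : f u ∈ LZ X (β a) := map_LZ E R (D.root a) ▸ mem_map_of_mem f hu
    have h2 : LZ (fun x => lft p f (X x)) (β b) ≤ centralizer {u} := by
      refine sup_le (fun y hy => ?_) fun y hy => ?_
      · obtain ⟨h3, k, hk⟩ := (mem_zc_lft E (R.pgrp' (D.root b))).1 hy
        exact mem_centralizer_singleton_iff.2 (comm_lift E hk (D.orth a b hab _ h1 _ (mem_sup_left h3)).eq).symm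
      · obtain ⟨h3, k, hk⟩ := (mem_zc_lft E (R.pgrp' (D.root b).neg)).1 hy
        exact mem_centralizer_singleton_iff.2 (comm_lift E hk (D.orth a b hab _ h1 _ (mem_sup_right h3)).eq).symm
    exact (mem_centralizer_singleton_iff.1 (h2 hv)).symm
  · obtain ⟨Q, hQ⟩ := D.syl
    obtain ⟨P, rfl⟩ := Sylow.mapSurjective_surjective E.surj 2 Q
    rw [MM_lift (R := R) E hm R' D.root]
    exact ⟨P, fun g hg => hQ (le_normalizer_map f (mem_map_of_mem f hg))⟩
  · rw [MM_lift (R := R) E hm R' D.root] at h1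
    rw [← map_comap_eq_self_of_surjective E.surj (MM R β), h1, map_top_of_surjective _ E.surj]

theorem Au.lift (hr : ∀ a, IsRoot cs h (β a)) {Γ : Subgroup (MulAut Y)} (hΓ : ∀ γ ∈ Γ, ∀ z ∈ center Y, γ z = z)
    (H : Au R β (ind f Γ)) : Au R' β Γ := fun γ hγ σ D => by
  obtain ⟨δ, e⟩ := exists_ind E.surj fun z hz => hΓ γ hγ z (E.cen hz)
  obtain ⟨g, ⟨w, hw⟩, h1⟩ := H δ ⟨γ, hγ, e⟩ σ ⟨fun s => by
      obtain ⟨y, rfl⟩ := E.surj s
      rw [e]
      exact D.tor y,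
    fun i => (iff_lft E (R.pgrp i) (R.pgrp _) e).1 (D.pos i),
    fun i => (iff_lft E (R.pgrp' (isRoot_sr cs h i).neg) (R.pgrp' (isRoot_sr cs h _).neg) e).1 (D.neg i)⟩
  obtain ⟨g, rfl⟩ := E.surj g
  have e' : ∀ y, (MulAut.conj (f g) * δ) (f y) = f ((MulAut.conj g * γ) y) := fun y => by
    rw [MulAut.mul_apply, MulAut.mul_apply, MulAut.conj_apply, MulAut.conj_apply, e, map_mul, map_mul, map_inv]
  have h2 : ∀ x y, IsRoot cs h x → IsRoot cs h y → Mv X (MulAut.conj (f g) * δ) x y →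
      Mv (fun x => lft p f (X x)) (MulAut.conj g * γ) x y := fun x y hx hy H =>
    ⟨(iff_lft E (R.pgrp' hx) (R.pgrp' hy) e').2 H.1, (iff_lft E (R.pgrp' hx.neg) (R.pgrp' hy.neg) e').2 H.2⟩
  exact ⟨g, ⟨w, (rp_iff (R := R) hm R').2 hw⟩, fun a => (h1 a).imp fun b hb =>
    hb.imp (h2 _ _ (hr a) (hr b)) (h2 _ _ (hr a) (hr b).neg)⟩

omit hm R' in
theorem NF.lift (R : RGD cs h p T n X) (hY : commutator Y = ⊤) {Γ : Subgroup (MulAut Y)} (H : NF cs h X (ind f Γ)) :
    NF cs h (fun x => lft p f (X x)) Γ := by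
  obtain ⟨D, h1, h2, h3, h4⟩ := H
  let D' : Subgroup (MulAut Y) :=
    { carrier := {γ | γ ∈ Γ ∧ ∃ δ ∈ D, ∀ y, δ (f y) = f (γ y)}
      one_mem' := ⟨one_mem _, 1, one_mem _, fun _ => rfl⟩
      mul_mem' := fun ⟨a1, a, a2, a3⟩ ⟨b1, b, b2, b3⟩ => ⟨mul_mem a1 b1, a * b, mul_mem a2 b2, fun y => by
        rw [MulAut.mul_apply, b3, a3, MulAut.mul_apply]⟩
      inv_mem' := fun ⟨a1, a, a2, a3⟩ => ⟨inv_mem a1, a⁻¹, inv_mem a2, fun y => a.injective (by
        rw [MulAut.apply_inv_self, a3, MulAut.apply_inv_self])⟩ }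
  refine ⟨D', fun _ hγ => hγ.1, ?_, ?_, fun x hx u hu h5 => ?_⟩
  · rintro ⟨γ, hγ, δ, hδ, e⟩
    obtain ⟨k, hk⟩ := h2 ⟨δ, hδ⟩
    have h5 : ∀ (j : ℕ) y, (δ ^ j) (f y) = f ((γ ^ j) y) := fun j => by
      induction j with
      | zero => exact fun _ => rfl
      | succ j ih => exact fun y => by rw [pow_succ, pow_succ, MulAut.mul_apply, MulAut.mul_apply, e, ih]
    refine ⟨k, Subtype.ext (eq_one_of_ind hY E.cen fun y => ?_)⟩
    have h6 : δ ^ 2 ^ k = 1 := congrArg Subtype.val hk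
    exact (h5 _ y).symm.trans (by rw [h6]; rfl)
  · rintro γ ⟨-, δ, hδ, e⟩ x hx
    exact (iff_lft E (R.pgrp' hx) (R.pgrp' hx) e).2 (h3 δ hδ x hx)
  · obtain ⟨h6, k, hk⟩ := (mem_lft E.cen (R.pgrp' hx)).1 hu
    refine eq_one_of_ker E.cop (h4 x hx _ h6 fun δ hδ => ?_) hk
    obtain ⟨γ, hγ, e⟩ := h1 hδ
    rw [e, h5 γ ⟨hγ, δ, hδ, e⟩]

omit E hm R' in
/-- **The generic theorem for a cover, general form.** -/
theorem mainI (H : Steps) : MainI := by
  intro I W S ι _ _ _ _ _ _ _ M cs A h p T n X R β D Y _ _ f E Γ c hA hnf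
  have : Fact p.Prime := ⟨D.prime⟩
  choose m hm using fun i => E.surj (n i)
  have R' := rgd_lift E.cen E.cop E.surj R hm
  exact gd_of H c (D.lift E hm R') (hA.lift E hm R' D.root c.fix) (hnf.lift E R c.qs.1.commutator_eq_top)

omit E hm R' in
/-- **The generic theorem for a cover.** -/
theorem mainC (H : Steps) : MainC := by
  intro I W S ι _ _ _ _ _ _ _ M cs A h p T n X R β D hA hc hnf Y _ _ f E Γ c
  refine mainI H R β D Y f E Γ c (hA.mono le_top) (nf_of_noFix R hc hnf fun t _ => ?_)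
  obtain ⟨y, rfl⟩ := E.surj t
  exact ⟨_, c.inn y, fun x => by rw [MulAut.conj_apply, MulAut.conj_apply, map_mul, map_mul, map_inv]⟩

end Cfsg.Agent.MK.G
end

-- part: MK/GO/Crd
section
prune_inst 0x30307d0574a20000001c0012a00042a137000090000b88003924074607cff860a94127214a200d080814b64428310068135c0020422000002a000400411d048110ae4606a348a10c60000780b883180c00000000000000000000000000041000200000000
set_option linter.all false
open scoped Cfsg.Agent.FastGrp

/-!
# MK, orthogonal rows: the frame `ε_i ± ε_{i'}` (helper19)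

`pn` (the partner), `fr` (the frame in coordinates), `key`; `weyl_C`, `all_D`.
-/

set_option autoImplicit false
set_option linter.unusedSectionVars false

namespace Cfsg.Agent.MK.GO

open CoxeterSystem Cfsg.Agent.ChevalleyStructure.CoxeterGeom Cfsg.Agent.Tits.Roots Cfsg.Agent.Nodes.Reps
  Cfsg.Agent.Nodes.BNOf Cfsg.Agent.Nodes Cfsg.Agent.MK.G
open Cfsg.Agent.Nodes.TypeC (wt ng wt_ng)

section crd

variable {r : ℕ}

/-- the partner of an index -/
def pn (i : Fin r) : Fin r :=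
  if h : (if (i : ℕ) % 2 = 0 then (i : ℕ) + 1 else i - 1) < r then ⟨_, h⟩ else i

theorem pn_val (i : Fin r) :
    (pn i : ℕ) = if (i : ℕ) % 2 = 0 then (if (i : ℕ) + 1 < r then (i : ℕ) + 1 else i) else i - 1 := by
  have := i.2
  unfold pn
  split_ifs <;> first | rfl | omega

theorem pn_pn (i : Fin r) : pn (pn i) = i := by
  have := i.2
  have h1 := pn_val i
  have h2 := pn_val (pn i)
  apply Fin.ext
  split_ifs at h1 h2 <;> omega

theorem pn_eq_iff {i : Fin r} : pn i = i ↔ (i : ℕ) % 2 = 0 ∧ (i : ℕ) + 1 = r := by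
  have := i.2
  have h1 := pn_val i
  rw [Fin.ext_iff]
  split_ifs at h1 <;> omega

theorem pn_uniq {i j : Fin r} (hi : pn i = i) (hj : pn j = j) : i = j := by
  rw [pn_eq_iff] at hi hj
  exact Fin.ext (by omega)

theorem pn_par {i : Fin r} (hi : pn i ≠ i) : (pn i : ℕ) % 2 = 0 ↔ ¬ (i : ℕ) % 2 = 0 := by
  have h1 := pn_val i
  rw [Ne, Fin.ext_iff] at hi
  split_ifs at h1 <;> omega

/-- the second index -/
def f2 (i : Fin r) : Fin r × Bool := (pn i, decide ((i : ℕ) % 2 = 0))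

/-- the frame -/
def fr (i : Fin r) : Fin r → ℤ := wt (i, true) + wt (f2 i)

theorem f2_self {i : Fin r} (hi : pn i = i) : f2 i = (i, true) :=
  Prod.ext hi (decide_eq_true (pn_eq_iff.1 hi).1)

theorem ok_fr (i : Fin r) : TypeC.Ok (i, true) (f2 i) :=
  (em (pn i = i)).symm.imp Ne.symm fun h => (f2_self h).symm

theorem wt_dot (a : Fin r × Bool) (u : Fin r → ℤ) : wt a ⬝ᵥ u = if a.2 then u a.1 else -u a.1 := by
  rw [wt, single_dotProduct]
  split_ifs <;> simp

theorem wt_wt (a b : Fin r × Bool) :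
    wt a ⬝ᵥ wt b = if a.1 = b.1 then (if a.2 = b.2 then 1 else -1) else 0 := by
  rw [wt_dot, TypeC.wt_apply]
  obtain ⟨i, _ | _⟩ := a <;> obtain ⟨j, _ | _⟩ := b <;> split_ifs <;> simp_all

theorem nrm_two {a b : Fin r × Bool} (h : a.1 ≠ b.1) : (wt a + wt b) ⬝ᵥ (wt a + wt b) = 2 := by
  simp only [wt_wt, h, h.symm, _root_.dotProduct_add, _root_.add_dotProduct, ↓ _root_.reduceIte, _root_.add_zero, _root_.zero_add, _root_.Int.reduceAdd]

theorem nrm_four (a : Fin r × Bool) : (wt a + wt a) ⬝ᵥ (wt a + wt a) = 4 := by simp only [wt_wt, _root_.dotProduct_add, _root_.add_dotProduct, ↓ _root_.reduceIte, _root_.Int.reduceAdd]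

theorem fr_two {i : Fin r} (hi : pn i ≠ i) : fr i ⬝ᵥ fr i = 2 := nrm_two (a := (i, true)) (b := f2 i) hi.symm

theorem fr_four {i : Fin r} (hi : pn i = i) : fr i ⬝ᵥ fr i = 4 := by rw [fr, f2_self hi, nrm_four]

theorem fr_dot {i j : Fin r} (hi : pn i = i) (hj : pn j ≠ j) : fr j ⬝ᵥ fr i = 0 := by
  have h1 : j ≠ i := fun h => hj (h ▸ hi)
  have h2 : pn j ≠ i := fun h => h1 (by rw [← pn_pn j, h, hi])
  simp only [fr, wt_wt, f2, h1, h2, hi, pn_eq_iff.1 hi, _root_.decide_true, _root_.dotProduct_add, _root_.add_dotProduct, ↓ _root_.reduceIte, _root_.add_zero]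

theorem fr_wt {a : Fin r × Bool} (h : pn a.1 ≠ a.1) : fr a.1 ⬝ᵥ (wt a + wt a) ≠ 0 := by
  rw [fr, add_dotProduct, dotProduct_add, dotProduct_add, wt_wt, wt_wt, if_pos rfl, if_neg (show (f2 a.1).1 ≠ a.1 from h)]
  split_ifs <;> decide

theorem key1 {i : Fin r} (hi : pn i ≠ i) (h0 : (i : ℕ) % 2 = 0) (s t : Bool) :
    ∃ j, pn j ≠ j ∧ (wt (i, s) + wt (pn i, t) = fr j ∨ wt (i, s) + wt (pn i, t) = -fr j) := by
  have h1 : fr i = wt (i, true) + wt (pn i, true) := by rw [fr, f2, decide_eq_true h0]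
  have h2 : fr (pn i) = wt (pn i, true) + wt (i, false) := by
    rw [fr, f2, pn_pn, decide_eq_false fun h => (pn_par hi).1 h h0]
  have h3 : pn (pn i) ≠ pn i := by rw [pn_pn]; exact hi.symm
  have h4 : ∀ j : Fin r, wt (j, false) = -wt (j, true) := fun j => wt_ng (j, true)
  cases s <;> cases t
  · exact ⟨i, hi, Or.inr (by rw [h1, h4, h4, neg_add])⟩
  · exact ⟨_, h3, Or.inl (by rw [h2, add_comm])⟩
  · exact ⟨_, h3, Or.inr (by rw [h2, h4, h4]; abel)⟩
  · exact ⟨i, hi, Or.inl h1.symm⟩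

theorem key2 {a b : Fin r × Bool} (h : a.1 ≠ b.1) (h1 : pn a.1 ≠ a.1) (h2 : pn a.1 ≠ b.1) :
    (wt a + wt b) ⬝ᵥ fr a.1 = 1 ∨ (wt a + wt b) ⬝ᵥ fr a.1 = -1 := by
  obtain ⟨i, _ | _⟩ := a <;> simp only [fr, wt_wt, f2, h.symm, h1.symm, h2.symm, _root_.dotProduct_add, _root_.add_dotProduct, ↓ _root_.reduceIte, _root_.Bool.false_eq_true, _root_.Int.reduceNeg, _root_.add_zero, _root_.reduceCtorEq, _root_.or_true, _root_.or_false]

/-- a short root is in the frame or has the angle `π / 3` or `2 π / 3` with a root of the frame -/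
theorem key {a b : Fin r × Bool} (h : a.1 ≠ b.1) :
    (∃ j, pn j ≠ j ∧ (wt a + wt b = fr j ∨ wt a + wt b = -fr j)) ∨
      ∃ j, pn j ≠ j ∧ ((wt a + wt b) ⬝ᵥ fr j = 1 ∨ (wt a + wt b) ⬝ᵥ fr j = -1) := by
  by_cases h1 : pn a.1 = b.1
  · left
    have h2 : pn a.1 ≠ a.1 := by rw [h1]; exact h.symm
    by_cases h0 : (a.1 : ℕ) % 2 = 0
    · have h3 := key1 h2 h0 a.2 b.2
      rwa [h1] at h3
    · have h3 := key1 (i := pn a.1) (by rw [pn_pn]; exact h2.symm) ((pn_par h2).2 h0) b.2 a.2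
      rwa [pn_pn, h1, add_comm] at h3
  · right
    by_cases h2 : pn a.1 = a.1
    · have h3 : pn b.1 ≠ b.1 := fun h4 => h (pn_uniq h2 h4)
      rw [add_comm]
      exact ⟨_, h3, key2 h.symm h3 fun h4 => h1 (by rw [← h4, pn_pn])⟩
    · exact ⟨_, h2, key2 h h2 h1⟩

end crd

variable {W Y : Type} [Group W] [Finite W] [Group Y] [Finite Y] {p : ℕ} {T : Subgroup Y}

section C

open Cfsg.Agent.Nodes.TypeC

variable {r : ℕ} {cs : CoxeterSystem (CoxeterMatrix.B r) W} {n : Fin r → Y} {X : (Fin r → ℤ) → Subgroup Y}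
  {R : RGD cs (isCartan r) p T n X} {β : Fin r → Fin r → ℤ}

theorem subC (x y z : Fin r → ℤ) (c : ℤ) : ee x ⬝ᵥ ee (y - c • z) = ee x ⬝ᵥ ee y - c * (ee x ⬝ᵥ ee z) := by
  rw [sub_eq_add_neg, ee_add, ee_neg, ee_smul, dotProduct_add, dotProduct_neg, dotProduct_smul, sub_eq_add_neg,
    smul_eq_mul]

theorem invC (i : Fin r) (y : Fin r → ℤ) :
    ee (sr i) ⬝ᵥ ee (sr i) * pairing (A r) i y = 2 * (ee (sr i) ⬝ᵥ ee y) := by
  rw [← Cf_ee, ee_sr, bt, nx, Cf]
  split_ifs with h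
  · rw [nrm_two (by simp [Fin.ext_iff]), add_dotProduct, wt_dot, wt_dot]
    simp [sub_eq_add_neg]
  · rw [nrm_four, add_dotProduct, wt_dot]
    simp only [if_true]
    ring

variable (cs) in
theorem exists_C : ∃ β : Fin r → Fin r → ℤ, ∀ i, IsRoot cs (isCartan r) (β i) ∧ ee (β i) = fr i := by
  choose β h using fun i : Fin r => rt_of_ok (cs := cs) (ok_fr i)
  exact ⟨β, h⟩

/-- **types `B`, `C`** -/
theorem weyl_C (F : F1 R β) (hβ : ∀ i, ee (β i) = fr i) :
    ∃ S : Sylow 2 W, Subgroup.normalizer ((S : Subgroup W) : Set W) ≤ WD cs (isCartan r) β := by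
  have hB : ∀ (w : W) x y, ee (rep cs (isCartan r) w x) ⬝ᵥ ee (rep cs (isCartan r) w y) = ee x ⬝ᵥ ee y :=
    B_rep (B := fun x y => ee x ⬝ᵥ ee y) (fun _ _ => dotProduct_comm _ _) subC invC
  have hO : ∀ x y, ee x ⬝ᵥ ee x = 2 → ee y ⬝ᵥ ee y = 2 → (ee x ⬝ᵥ ee y = 1 ∨ ee x ⬝ᵥ ee y = -1) →
      Od cs (isCartan r) x y := fun x y h1 h2 h3 =>
    od_of_B (B := fun x y => ee x ⬝ᵥ ee y) (fun _ _ => dotProduct_comm _ _) subC invC (by simp only [h1, _root_.ne_eq, _root_.OfNat.ofNat_ne_zero, _root_.not_false_eq_true])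
      (by simp only [h1, h2]) (by simp only [h1]; omega)
  have hK : ∀ x, IsRoot cs (isCartan r) x → ee x ⬝ᵥ ee x = 2 → (∃ j, pn j ≠ j ∧ (x = β j ∨ x = -β j)) ∨
      ∃ j, pn j ≠ j ∧ (ee x ⬝ᵥ ee (β j) = 1 ∨ ee x ⬝ᵥ ee (β j) = -1) := fun x hx h1 => by
    obtain ⟨a, b, h2 | rfl, e⟩ := exists_of_isRoot cs hx
    · simp only [hβ, e]
      exact (key h2).imp_left fun h => h.imp fun j hj => ⟨hj.1, hj.2.imp
        (fun h3 => ee_injective (by rw [e, h3, hβ])) fun h3 => ee_injective (by rw [e, h3, ee_neg, hβ])⟩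
    · rw [e, nrm_four] at h1
      exact absurd h1 (by decide)
  refine F.weyl_of_od fun w hw => ?_
  obtain ⟨i, hi⟩ := not_forall.1 hw
  by_cases h1 : pn i = i
  · obtain ⟨a, b, h2 | rfl, e⟩ := exists_of_isRoot cs ((F.root i).act w)
    · have h3 := hB w (β i) (β i)
      rw [e, nrm_two h2, hβ, fr_four h1] at h3
      exact absurd h3 (by decide)
    have h2 : pn a.1 ≠ a.1 := fun h2 => hi ⟨i, by
      obtain ⟨j, s⟩ := a
      obtain rfl : j = i := pn_uniq h2 h1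
      cases s
      · exact Or.inr (ee_injective (by rw [e, ee_neg, hβ, fr, f2_self h1, neg_add, ← wt_ng]; rfl))
      · exact Or.inl (ee_injective (by rw [e, hβ, fr, f2_self h1]))⟩
    have h3 : ee (β a.1) ⬝ᵥ ee (β a.1) = 2 := by rw [hβ, fr_two h2]
    have h4 := hB w (rep cs (isCartan r) w⁻¹ (β a.1)) (β i)
    rw [rep_apply_inv, e, hβ a.1, hβ i] at h4
    rcases hK _ ((F.root a.1).act w⁻¹) (by rw [hB, h3]) with ⟨j, hj, h5⟩ | ⟨j, hj, h5⟩
    · have h6 : fr a.1 ⬝ᵥ (wt a + wt a) = 0 := by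
        rcases h5 with h5 | h5
        · rw [h4, h5, hβ, fr_dot h1 hj]
        · rw [h4, h5, ee_neg, hβ, neg_dotProduct, fr_dot h1 hj, neg_zero]
      exact absurd h6 (fr_wt h2)
    · rw [← hB w, rep_apply_inv, dotProduct_comm] at h5
      exact ⟨j, a.1, hO _ _ (by rw [hB, hβ, fr_two hj]) h3 h5⟩
  · have h3 : ee (rep cs (isCartan r) w (β i)) ⬝ᵥ ee (rep cs (isCartan r) w (β i)) = 2 := by rw [hB, hβ, fr_two h1]
    rcases hK _ ((F.root i).act w) h3 with ⟨j, -, h5⟩ | ⟨j, hj, h5⟩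
    · exact absurd ⟨j, h5⟩ hi
    · exact ⟨i, j, hO _ _ h3 (by rw [hβ, fr_two hj]) h5⟩

end C

section D

open Cfsg.Agent.Nodes.TypeD

variable {r : ℕ} {cs : CoxeterSystem (M r) W} {β : {i : Fin (r + 2) // pn i ≠ i} → Fin (r + 2) → ℤ}

theorem subD (x y z : Fin (r + 2) → ℤ) (c : ℤ) : ee x ⬝ᵥ ee (y - c • z) = ee x ⬝ᵥ ee y - c * (ee x ⬝ᵥ ee z) := by
  rw [sub_eq_add_neg, ee_add, ee_neg, ee_smul, dotProduct_add, dotProduct_neg, dotProduct_smul, sub_eq_add_neg,
    smul_eq_mul]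

theorem invD (i : Fin (r + 2)) (y : Fin (r + 2) → ℤ) :
    ee (sr i) ⬝ᵥ ee (sr i) * pairing (A r) i y = 2 * (ee (sr i) ⬝ᵥ ee y) := by
  rw [← Cf_ee, ee_sr, bt, nrm_two (ok_nx i), add_dotProduct, wt_dot, wt_dot, nx, Cf]
  split_ifs <;> simp_all [sub_eq_add_neg]

variable (cs) in
theorem exists_D : ∃ β : {i : Fin (r + 2) // pn i ≠ i} → Fin (r + 2) → ℤ,
    ∀ i, IsRoot cs (isCartan r) (β i) ∧ ee (β i) = fr i.1 := by
  choose β h using fun i : {i : Fin (r + 2) // pn i ≠ i} => rt_of_ok (cs := cs) (a := (i.1, true)) (b := f2 i.1) i.2.symm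
  exact ⟨β, h⟩

/-- **type `D`** -/
theorem all_D (hβ : ∀ i, ee (β i) = fr i.1) : All cs (isCartan r) β := fun x hx => by
  obtain ⟨a, b, h, e⟩ := exists_of_isRoot cs hx
  refine (key h).imp (fun ⟨j, hj, h1⟩ => ⟨⟨j, hj⟩, h1.imp (fun h3 => ee_injective (by rw [e, h3, hβ]))
    fun h3 => ee_injective (by rw [e, h3, ee_neg, hβ])⟩) fun ⟨j, hj, h1⟩ => ⟨⟨j, hj⟩, ?_⟩
  exact od_of_B (B := fun x y => ee x ⬝ᵥ ee y) (fun _ _ => dotProduct_comm _ _) subD invD (by simp only [e, nrm_two h]; decide)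
    (by simp only [e, hβ, nrm_two h, fr_two hj]) (by simp only [e, hβ, nrm_two h]; omega)

end D

end Cfsg.Agent.MK.GO

private theorem dce_579e5c52abac : _root_.True := by
  try have : _root_.True := by simp only [_root_.Cfsg.Agent.MK.GO.f2.eq_1]
  try have : _root_.True := by simp only [_root_.Cfsg.Agent.Nodes.TypeC.Cf.eq_1]
  try have : _root_.True := by simp only [_root_.Cfsg.Agent.MK.GO.fr.eq_1]
  try have : _root_.True := by simp only [_root_.Cfsg.Agent.Nodes.TypeD.Cf.eq_1]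
  exact _root_.True.intro
end

-- part: MK/G/Count
section
prune_inst 0x20700550a2000000040012000066c547000002006b880019240e04068edf630900272174200a1a0900283400390068115c007000100000200006004119048100ab74863310a10c40000780b887180c00000000000000000000000000041000200000000
set_option linter.all false
open scoped Cfsg.Agent.FastGrp

/-!
# MK-G: the order of the group of the frame (helper76)

* `Fm.card_conj`, `Fm.card_dvd` : `|N'| ∏ (q_a + 1)` divides `2 ^ |ι| |M|`;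
* `F1.card_dvd`, `F1.odd_MM`, `F1.odd_MM'`.
-/

set_option autoImplicit false
set_option linter.unusedSectionVars false

namespace Cfsg.Agent.MK.G

open Cfsg Subgroup Cfsg.Agent.Nodes.Reps Cfsg.Agent.ODD.QB

namespace Fm

variable {X ι : Type} [Group X] [Finite X] [Fintype ι] {Z : ι × Bool → Subgroup X} {U : Subgroup X}
  {Λ : Subgroup (MulAut X)} (F : Fm U (In Λ) Z)

theorem cj_sw {k : X} {a : ι} (h : Sw Z k a) (s : Bool) : cj k (Z (a, s)) = Z (a, !s) := by
  ext y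
  rw [mem_cj, ← h s, show k * (k⁻¹ * y * k) * k⁻¹ = y by group]

include F

theorem ne_poles (a : ι) (s : Bool) : Z (a, !s) ≠ Z (a, s) := fun h =>
  absurd (congrArg Prod.snd (F.inj h)) (by cases s <;> simp)

theorem exists_sw (a : ι) : ∃ m ∈ KK Z a, Sw Z m a := by
  obtain ⟨⟨y, hy⟩, h1⟩ := ne_bot_iff_exists_ne_one.1 (F.ne a)
  obtain ⟨u, hu, v, hv, -, h⟩ := F.low a y hy fun h => h1 (Subtype.ext h)
  exact ⟨_, mul_mem (mul_mem (mem_sup_left hu) (mem_sup_right hy)) (mem_sup_left hv), h⟩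

/-- the number of the poles of a rank one group -/
theorem card_conj (a : ι) :
    Nat.card (Set.range fun g : KK Z a => cj (g : X) (Z (a, true))) = Nat.card (Z (a, true)) + 1 := by
  obtain ⟨m, hm, hs⟩ := F.exists_sw a
  have h0 : Z (a, false) ≠ Z (a, true) := F.ne_poles a true
  have h1 : ∀ u ∈ Z (a, true), cj u (Z (a, false)) ≠ Z (a, true) := fun u hu e => h0 (by
    rw [← cj_inv_cj u (Z (a, false)), e, cj_eq_of_mem (inv_mem hu)])
  let S : Subgroup X → Prop := fun H => H = Z (a, true) ∨ ∃ u ∈ Z (a, true), H = cj u (Z (a, false))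
  have hP : ∀ x ∈ Z (a, true), ∀ H, S H → S (cj x H) := by
    rintro x hx _ (rfl | ⟨u, hu, rfl⟩)
    · exact Or.inl (cj_eq_of_mem hx)
    · exact Or.inr ⟨x * u, mul_mem hx hu, (cj_mul _ _ _).symm⟩
  have hQ : ∀ y ∈ Z (a, false), S (cj y (Z (a, true))) := fun y hy => by
    by_cases h2 : y = 1
    · rw [h2, cj_one]; exact Or.inl rfl
    obtain ⟨c, hc, d, hd, -, h3⟩ := F.low a y hy h2
    refine Or.inr ⟨c⁻¹, inv_mem hc, ?_⟩
    rw [show Z (a, false) = _ from (cj_sw h3 true).symm, cj_mul, cj_mul, cj_inv_cj, cj_eq_of_mem hd]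
  have hK : ∀ k, Sw Z k a → ∀ H, S H → S (cj k H) := by
    rintro k hk _ (rfl | ⟨u, hu, rfl⟩)
    · exact Or.inr ⟨1, one_mem _, by rw [cj_one]; exact cj_sw hk true⟩
    · rw [← cj_mul, show k * u = k * u * k⁻¹ * k by group, cj_mul, cj_sw hk false]
      exact hQ _ ((hk true u).2 hu)
  have hA : ∀ x, x ∈ Z (a, true) ∨ x ∈ Z (a, false) → ∀ H, S H → S (cj x H) := by
    rintro x (hx | hx) H hH
    · exact hP x hx H hH
    by_cases h2 : x = 1
    · rwa [h2, cj_one]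
    obtain ⟨c, hc, d, hd, -, h3⟩ := F.low a x hx h2
    have h4 := hP _ (inv_mem hc) _ (hK _ h3 _ (hP _ (inv_mem hd) H hH))
    rwa [← cj_mul, ← cj_mul, show c⁻¹ * (c * x * d) * d⁻¹ = x by group] at h4
  have hS : ∀ g ∈ Z (a, true) ⊔ Z (a, false), S (cj g (Z (a, true))) := fun g hg => by
    rw [sup_eq_closure] at hg
    induction hg using closure_induction_left with
    | one => rw [cj_one]; exact Or.inl rfl
    | mul_left x hx y _ ih => rw [cj_mul]; exact hA x hx _ ih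
    | inv_mul_cancel x hx y _ ih => rw [cj_mul]; exact hA x⁻¹ (hx.imp inv_mem inv_mem) _ ih
  let e : Option (Z (a, true)) → Set.range fun g : KK Z a => cj (g : X) (Z (a, true)) := fun o =>
    o.elim ⟨Z (a, true), 1, cj_one _⟩ fun u => ⟨cj u (Z (a, false)), ⟨_, mul_mem (mem_sup_left u.2) hm⟩, by
      show cj (u * m) _ = _
      rw [cj_mul, cj_sw hs true]
      rfl⟩
  have he : Function.Bijective e := by
    constructor
    · rintro (_ | u) (_ | v) huv
      · rfl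
      · exact absurd (congrArg Subtype.val huv).symm (h1 v v.2)
      · exact absurd (congrArg Subtype.val huv) (h1 u u.2)
      · have h2 : cj (u : X) (Z (a, false)) = cj (v : X) (Z (a, false)) := congrArg Subtype.val huv
        by_contra h3
        have h4 : m * ((v : X)⁻¹ * u) * m⁻¹ ≠ 1 := fun h4 => h3 (congrArg some (Subtype.ext (by
          rw [mul_inv_eq_one, mul_eq_left, inv_mul_eq_one] at h4
          exact h4.symm)))
        obtain ⟨c, hc, d, hd, -, h5⟩ := F.low a _ ((hs true _).2 (mul_mem (inv_mem v.2) u.2)) h4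
        have h6 := cj_sw h5 true
        have h7 : cj m (Z (a, false)) = Z (a, true) := cj_sw hs false
        have h8 : cj m⁻¹ (Z (a, true)) = Z (a, false) := by rw [← h7, cj_inv_cj]
        rw [cj_mul, cj_mul, cj_eq_of_mem hd, cj_mul, cj_mul, cj_mul, h8, h2, cj_inv_cj, h7, cj_eq_of_mem hc] at h6
        exact h0 h6.symm
    · rintro ⟨_, ⟨g, hg⟩, rfl⟩
      rcases hS g hg with h2 | ⟨u, hu, h2⟩
      · exact ⟨none, Subtype.ext h2.symm⟩
      · exact ⟨some ⟨u, hu⟩, Subtype.ext h2.symm⟩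
  rw [← Nat.card_eq_of_bijective e he, Finite.card_option]

theorem fst_eq {x : X} (hx : x ∈ ⨆ a, KK Z a) {π : Equiv.Perm (ι × Bool)} (h : Acts Z (MulAut.conj x) π) (a : ι) :
    (π (a, true)).1 = a := by
  by_contra h1
  obtain ⟨l, hl, e⟩ := ClosedExc.Prod.exists_local_cj (L := KK Z) (K := fun a => Z (a, true)) F.orth
    (fun a => le_sup_left) hx a
  have h2 : Z (π (a, true)) ≤ KK Z a := fun y hy => by
    have h3 : y ∈ cj x (Z (a, true)) := mem_cj.2 ((h.2 _ _).1 (by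
      rwa [MulAut.conj_apply, show x * (x⁻¹ * y * x) * x⁻¹ = y by group]))
    rw [e] at h3
    obtain ⟨z, hz, rfl⟩ := h3
    exact mul_mem (mul_mem hl (mem_sup_left hz)) (inv_mem hl)
  obtain ⟨m, hm, hs⟩ := F.exists_sw (π (a, true)).1
  refine F.ne_poles (π (a, true)).1 (π (a, true)).2 ?_
  rw [← cj_sw hs, ← mem_normalizer_iff_cj]
  exact centralizer_le_normalizer _ fun y hy => (F.orth a _ (Ne.symm h1) y (h2 hy) m hm).eq

theorem exists_K {x : X} (hx : x ∈ In (Λ ⊓ NS Z)) :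
    ∃ i ∈ (⨆ a, KK Z a) ⊓ In (Λ ⊓ NS Z), ∃ k ∈ In (TH Λ Z), x = i * k := by
  classical
  induction hk : ln Z (MulAut.conj x) generalizing x with
  | zero => exact ⟨1, one_mem _, x, F.mem_TH.2 ⟨hx, hk⟩, (one_mul x).symm⟩
  | succ k ih =>
    obtain ⟨π, h⟩ := hx.2
    rw [ln_eq F.inj h] at hk
    obtain ⟨a, ha⟩ := Set.nonempty_of_ncard_ne_zero (s := Ng π) (by omega)
    obtain ⟨m, hm, hK, h1⟩ := F.exists_m (π (a, true)).1
    have h2 := (Sg.flip h1.1 h.1 (Ng_swap _) rfl).2 ha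
    obtain ⟨i, hi, k, hk', e⟩ := ih (mul_mem hm hx) (by rw [map_mul, ln_eq F.inj (h1.mul h)]; omega)
    exact ⟨m⁻¹ * i, mul_mem (inv_mem ⟨le_iSup (KK Z) _ hK, hm⟩) hi, k, hk', by rw [mul_assoc, ← e, inv_mul_cancel_left]⟩

theorem relIndex_dvd : (In (TH Λ Z)).relIndex (In (Λ ⊓ NS Z)) ∣ 2 ^ Fintype.card ι := by
  classical
  rw [H55.Sd.relIndex_eq_of_mul inf_le_right fun x hx => F.exists_K hx]
  choose π hπ using fun x : ↥((⨆ a, KK Z a) ⊓ In (Λ ⊓ NS Z)) => x.2.2.2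
  have h1 : ∀ (x : ↥((⨆ a, KK Z a) ⊓ In (Λ ⊓ NS Z))) ψ, Acts Z (MulAut.conj (x : X)) ψ → π x = ψ := fun x ψ hψ => by
    ext1 y
    refine F.inj (Subgroup.ext fun z => ?_)
    have h3 := ((hπ x).2 y ((MulAut.conj (x : X))⁻¹ z)).trans (hψ.2 y _).symm
    rwa [MulAut.apply_inv_self] at h3
  let φ : ↥((⨆ a, KK Z a) ⊓ In (Λ ⊓ NS Z)) →* (ι → ℤˣ) :=
    MonoidHom.mk' (fun x a => if a ∈ Ng (π x) then -1 else 1) fun x y => funext fun a => by
      rw [h1 (x * y) (π x * π y) (by rw [coe_mul, map_mul]; exact (hπ x).mul (hπ y)), Pi.mul_apply]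
      simp only [Sg.mem_mul (hπ x).1, F.fst_eq y.2.1 (hπ y)]
      by_cases h2 : a ∈ Ng (π x) <;> by_cases h3 : a ∈ Ng (π y) <;> simp [h2, h3]
  have h2 : φ.ker ≤ (In (TH Λ Z)).subgroupOf _ := fun x hx =>
    ⟨x.2.2.1, π x, hπ x, Set.eq_empty_iff_forall_notMem.2 fun a ha => by
      have h3 : (if a ∈ Ng (π x) then (-1 : ℤˣ) else 1) = 1 := congrFun hx a
      rw [if_pos ha] at h3
      exact absurd h3 (by decide)⟩
  refine (index_dvd_of_le h2).trans ?_
  have h3 := card_subgroup_dvd_card φ.range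
  rwa [← index_ker, Nat.card_pi, Finset.prod_const, Finset.card_univ, show Nat.card ℤˣ = 2 by
    rw [Nat.card_eq_fintype_card, Fintype.card_units_int]] at h3

/-- **The order.** -/
theorem card_dvd : Nat.card (In (Λ ⊓ NS Z)) * ∏ a, (Nat.card (Z (a, true)) + 1) ∣
    2 ^ Fintype.card ι * Nat.card ↥(UD Z ⊔ In (Λ ⊓ NS Z)) := by
  have h0 : In (TH Λ Z) ≤ In (Λ ⊓ NS Z) := comap_mono TH_le
  have h1 := relIndex_mul_relIndex ⊥ _ _ bot_le h0
  rw [relIndex_bot_left, relIndex_bot_left] at h1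
  rw [← h1, mul_comm (Nat.card _), mul_assoc]
  refine mul_dvd_mul F.relIndex_dvd (dvd_trans ?_ (card_dvd_of_le (sup_le F.K_le (h0.trans le_sup_right))))
  have h2 := ClosedExc.Prod.card_sup_mul' (K := ⨆ a, KK Z a) (H := In (TH Λ Z)) fun t ⟨_, π, h, _⟩ =>
    mem_normalizer_fintype fun y hy => (iSup_le fun a y hy => le_iSup (KK Z) _ (Fr.map_KK h a hy) :
      (⨆ a, KK Z a) ≤ (⨆ a, KK Z a).comap (MulAut.conj t).toMonoidHom) hy
  obtain ⟨d, hd⟩ := ClosedExc.Prod.card_dvd (L := KK Z) (K := fun a => Z (a, true)) F.orth (fun a => le_sup_left)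
    (St := (⨆ a, KK Z a) ⊓ In (TH Λ Z)) (by
      rintro t ⟨ht, -, π, h, h3⟩ a
      ext y
      rw [mem_cj, ← h.2, MulAut.conj_apply, show t * (t⁻¹ * y * t) * t⁻¹ = y by group,
        show π (a, true) = (a, true) from Prod.ext (F.fst_eq ht h a) (notMem_Ng.1 (h3 ▸ Set.notMem_empty a))])
  simp only [F.card_conj, ← inf_assoc, inf_idem] at hd
  refine ⟨d, Nat.eq_of_mul_eq_mul_right (Nat.card_pos (α := ↥((⨆ a, KK Z a) ⊓ In (TH Λ Z)))) ?_⟩
  rw [h2, hd]
  ring

end Fm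

open CoxeterSystem Cfsg.Agent.ChevalleyStructure.CoxeterGeom Cfsg.Agent.Tits.Roots Cfsg.Agent.Nodes.BNOf
  Cfsg.Agent.Nodes.Bruhat Cfsg.Agent.ClosedExc.Frame

variable {I W Y ι : Type} [Fintype I] [DecidableEq I] [Group W] [Finite W] [Group Y] [Finite Y] [Fintype ι]
  {M : CoxeterMatrix I} {cs : CoxeterSystem M W} {A : I → I → ℤ} {h : IsCartan M A} {p : ℕ} {T : Subgroup Y}
  {n : I → Y} {X : (I → ℤ) → Subgroup Y} {β : ι → I → ℤ} {R : RGD cs h p T n X}

theorem card_zc_rep (R : RGD cs h p T n X) {x : I → ℤ} (hx : IsRoot cs h x) (w : W) :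
    Nat.card (zc (X (rep cs h w x))) = Nat.card (zc (X x)) := by
  obtain ⟨g, hg⟩ := exists_rp cs R.nsys w
  rw [← cj_zc (R.conj_rp hg hx)]
  exact card_map_of_injective (MulAut.conj g).injective

theorem card_zc_neg (R : RGD cs h p T n X) {x : I → ℤ} (hx : IsRoot cs h x) :
    Nat.card (zc (X (-x))) = Nat.card (zc (X x)) := by
  obtain ⟨w, i, rfl⟩ := id hx
  have h1 := card_zc_rep R hx (w * cs.simple i * w⁻¹)
  rwa [rep_mul_apply, rep_inv_apply, rep_mul_apply, rep_simple_sr, map_neg] at h1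

theorem F1.card_dvd (F : F1 R β) : Nat.card T * Nat.card (WD cs h β) * ∏ a, (Nat.card (zc (X (β a))) + 1) ∣
    2 ^ Fintype.card ι * Nat.card (MM R β) := by
  obtain ⟨β', e, h0⟩ := exists_pos' F.root
  have F' := F.congr e
  have h1 := (F'.fm h0).card_dvd
  rw [MM_eq F.prime F'.root (in_Cj R F.top) (F'.fm h0), in_eq (R := R) F.prime F'.root (F'.fm h0).inj (in_Cj R F.top),
    card_NP,
    MM_congr e, WD_congr e, mul_comm (Nat.card _) (Nat.card T)] at h1
  have h2 : ∀ a, Nat.card (Zr X β' (a, true)) = Nat.card (zc (X (β a))) := fun a => by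
    show Nat.card (zc (X (β' a))) = _
    rcases e a with e | e <;> rw [e]
    rw [card_zc_neg R (F.root a)]
  rw [Finset.prod_congr rfl fun a _ => congrArg (· + 1) (h2 a)] at h1
  exact h1

/-- **The index is odd**, with a subgroup `P` of the stabiliser of the frame -/
theorem F1.odd_MM' (F : F1 R β) {c : ℕ} (hc : c ∣ Nat.card (WD cs h β))
    (hord : ∀ j : ℕ, 2 ^ j ∣ Nat.card Y →
      2 ^ (j + Fintype.card ι) ∣ Nat.card T * c * ∏ a, (Nat.card (zc (X (β a))) + 1)) : Odd (MM R β).index := by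
  rw [← Nat.not_even_iff_odd, even_iff_two_dvd]
  intro h2
  have h3 : 2 ^ ((Nat.card (MM R β)).factorization 2 + 1) ∣ Nat.card Y := by
    rw [← (MM R β).card_mul_index, pow_succ]
    exact mul_dvd_mul (Nat.ordProj_dvd _ 2) h2
  have h4 := ((hord _ h3).trans (mul_dvd_mul (mul_dvd_mul_left _ hc) dvd_rfl)).trans F.card_dvd
  rw [pow_add, mul_comm] at h4
  exact Nat.pow_succ_factorization_not_dvd Nat.card_pos.ne' Nat.prime_two
    (Nat.dvd_of_mul_dvd_mul_left (by positivity) h4)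

/-- **The index is odd.** -/
theorem F1.odd_MM (F : F1 R β) (hW : ∃ S : Sylow 2 W, normalizer ((S : Subgroup W) : Set W) ≤ WD cs h β)
    (hord : ∀ j : ℕ, 2 ^ j ∣ Nat.card Y →
      2 ^ (j + Fintype.card ι) ∣ Nat.card T * Nat.card W * ∏ a, (Nat.card (zc (X (β a))) + 1)) :
    Odd (MM R β).index := by
  refine F.odd_MM' dvd_rfl fun j hj => ?_
  refine (Nat.Coprime.pow_left _ (Nat.coprime_two_left.2 (odd_WD hW))).dvd_of_dvd_mul_right ?_
  have h1 := hord j hj
  rw [← (WD cs h β).card_mul_index] at h1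
  exact h1.trans (dvd_of_eq (by ring))

end Cfsg.Agent.MK.G
end

-- part: MK/GX/Fr
section
set_option linter.all false
open scoped Cfsg.Agent.FastGrp

/-!
# MK, exceptional rows: the data `GD`, `Au` for a frame of abelian root groups (helper9)

`gd_frame`, `au_pm`, `au_G2`.
-/

set_option autoImplicit false
set_option linter.unusedSectionVars false

namespace Cfsg.Agent.MK.GX

open Cfsg CoxeterSystem Cfsg.Agent.ChevalleyStructure.CoxeterGeom Cfsg.Agent.Tits.Roots Cfsg.Agent.Nodes.Reps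
  Cfsg.Agent.Nodes.BNOf Cfsg.Agent.Nodes.Bruhat Cfsg.Agent.KFacts.RgdAut Cfsg.Agent.KFacts.RgdDiag
  Cfsg.Agent.ClosedExc.Frame Cfsg.Agent.ODD.QB Cfsg.Agent.MK.G Cfsg.Agent.GAL.Nrm
open Cfsg.Agent.H491.Sd (MF PM)
open Cfsg.Agent.Nodes.FreeTorus (LL)

variable {I W Y ι : Type} [Fintype I] [DecidableEq I] [Group W] [Finite W] [Group Y] [Finite Y] [Fintype ι]
  {M : CoxeterMatrix I} {cs : CoxeterSystem M W} {A : I → I → ℤ} {h : IsCartan M A} {p : ℕ} {T : Subgroup Y}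
  {n : I → Y} {X : (I → ℤ) → Subgroup Y} {β : ι → I → ℤ} {P : Subgroup W}

/-- abelian root groups -/
def Ab (X : (I → ℤ) → Subgroup Y) : Prop := ∀ i, ∀ a ∈ X (sr i), ∀ b ∈ X (sr i), a * b = b * a

theorem Ab.zc_eq (hab : Ab X) (R : RGD cs h p T n X) {x : I → ℤ} (hx : IsRoot cs h x) : zc (X x) = X x := by
  obtain ⟨w, i, rfl⟩ := hx
  obtain ⟨k, hk⟩ := exists_rp cs R.nsys w
  rw [← cj_zc (R.conj_rp hk (isRoot_sr cs h i)), ← R.conj_rp hk (isRoot_sr cs h i)]
  exact congrArg _ (inf_eq_left.2 fun a ha => Subgroup.mem_centralizer_iff.2 fun b hb => hab i b hb a ha)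

theorem Ab.LZ_eq (hab : Ab X) (R : RGD cs h p T n X) {x : I → ℤ} (hx : IsRoot cs h x) : LZ X x = LL X x := by
  rw [LZ, hab.zc_eq R hx, hab.zc_eq R hx.neg]
  rfl

theorem Ab.rk (hab : Ab X) (R : RGD cs h p T n X) {x : I → ℤ} (hx : IsRoot cs h x) : Rk R x := by
  rw [Rk, hab.zc_eq R hx, hab.zc_eq R hx.neg]
  obtain ⟨w, i, rfl⟩ := hx
  obtain ⟨k, hk⟩ := exists_rp cs R.nsys w
  rw [← map_neg, ← R.conj_rp hk (isRoot_sr cs h i), ← R.conj_rp hk (isRoot_sr cs h i).neg]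
  rintro _ ⟨y, hy, rfl⟩ h1
  obtain ⟨a, ha, t, ht, b, hb, rfl⟩ := R.rk1 i y hy fun e => h1 (by rw [e, map_one])
  refine ⟨_, ⟨_, inv_mem ha, rfl⟩, _, ⟨_, inv_mem hb, rfl⟩, ?_⟩
  rw [← map_mul, ← map_mul, show a⁻¹ * (a * t * n i * b) * b⁻¹ = t * n i by group]
  exact ⟨_, (hk.mul ((rp_of_mem ht).mul (rp_simple cs R.nsys i))).mul hk.inv⟩

/-- the normaliser of a Sylow subgroup -/
theorem syl_of (S : H684.OQ.In p cs h T n X) (hdg : AllDG Y) {L : Subgroup Y} (hT : T ≤ L) (ho : Odd L.index) :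
    ∃ Q : Sylow 2 Y, Subgroup.normalizer ((Q : Subgroup Y) : Set Y) ≤ L := by
  obtain ⟨Q₀, h1, h2, h3, h4⟩ := H55.Sd.exists_syl (H := L) (isPGroup_T2 S.comm) (fun t ht => hT ht.1)
  obtain ⟨Q, rfl⟩ := MK.exists_sylow h3 (by rw [← Subgroup.relIndex_mul_index h1]; exact h4.mul ho)
  refine ⟨Q, fun g hg => ?_⟩
  obtain ⟨a, k, j, hj, h5, h6⟩ := exists_parts g
  have h7 := hj.of_dvd_nat (orderOf_dvd_of_pow_eq_one h6)
  have h8 := hdg Q _ (mul_mem (inv_mem (pow_mem hg a)) hg) h7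
  rw [← mul_inv_cancel_left (g ^ a) g]
  exact mul_mem (h1 (mem_of_pow_mem Q (pow_mem hg a) (k := k) (h5 ▸ one_mem _)))
    (hT (H381.OQ.mem_T_of_cent S.rgd S.top S.nofix (hc := S.comm) S.faith (Subgroup.centralizer_le h2 h8) h7))

/-- **The data of a frame of abelian root groups.** -/
theorem gd_frame (S : H684.OQ.In p cs h T n X) (hp : p.Prime) (hp2 : p ≠ 2) (hab : Ab X) (C : Cmb cs h β)
    (F : FrameData cs h X β P) (ho : Odd (MF S.rgd β P).index) (hdg : AllDG Y)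
    (hs : IsSimpleGroup Y ∧ ¬ IsMulCommutative Y) [Nontrivial ι] : GD S.rgd β := by
  have h0 : ∀ a, LZ X (β a) = LL X (β a) := fun a => hab.LZ_eq S.rgd (F.root a)
  have h1 : MF S.rgd β P ≤ MM S.rgd β := by
    rw [MM_def, iSup_congr h0]
    exact sup_le_sup_left (fun g ⟨w, hw, hg⟩ => ⟨w, F.perm w hw, hg⟩) _
  refine ⟨hp, hp2, S.top, F.root, fun a => hab.rk S.rgd (F.root a), fun a b e => by rw [h0, h0]; exact F.orth a b e,
    C.weyl, syl_of S hdg ((T_le_NP S.rgd).trans le_sup_right) (ho.of_dvd_nat (Subgroup.index_dvd_of_le h1)),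
    fun h2 => hs.2 ?_⟩
  have := hs.1
  rw [MM_def, iSup_congr h0] at h2
  have h3 : ∀ a, LL X (β a) ≠ ⊥ := fun a e => X_ne_bot S.rgd (F.root a) (le_bot_iff.1 (e ▸ le_sup_left))
  have h4 : (⨆ a, LL X (β a)) = ⊤ := by
    refine (Subgroup.Normal.eq_bot_or_eq_top (Subgroup.normalizer_eq_top_iff.1 (top_le_iff.1 (h2 ▸ sup_le
      Subgroup.le_normalizer ?_)))).resolve_left fun e =>
        h3 (Classical.arbitrary ι) (le_bot_iff.1 (e ▸ le_iSup (fun a => LL X (β a)) _))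
    have h5 : ∀ g ∈ NP S.rgd (WD cs h β), cj g (⨆ a, LL X (β a)) ≤ ⨆ a, LL X (β a) := by
      rintro g ⟨w, hw, hg⟩
      rw [cj_iSup]
      refine iSup_le fun a => ?_
      obtain ⟨b, hb⟩ := hw a
      rw [ClosedExc.Rk.rp_cj_LL S.rgd hg (F.root a)]
      refine le_trans (le_of_eq ?_) (le_iSup (fun a => LL X (β a)) b)
      rcases hb with hb | hb
      · rw [hb]
      · rw [hb, Nodes.FreeTorus.LL_neg]
    intro g hg
    rw [mem_normalizer_iff_cj]
    exact le_antisymm (h5 g hg) (by simpa only [cj_cj_inv] using cj_mono g (h5 g⁻¹ (inv_mem hg)))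
  have h5 : ∀ a, LL X (β a) = ⊤ := fun a =>
    (Subgroup.Normal.eq_bot_or_eq_top (Subgroup.normalizer_eq_top_iff.1 (eq_top_iff.2 fun g _ =>
      mem_normalizer_iff_cj.2 (frame_cj_E F (h4 ▸ Subgroup.mem_top g) a)))).resolve_left (h3 a)
  obtain ⟨a, b, e⟩ := exists_pair_ne ι
  exact ⟨⟨fun x y => F.orth a b e x (h5 a ▸ Subgroup.mem_top x) y (h5 b ▸ Subgroup.mem_top y)⟩⟩

theorem au_pm (S : H684.OQ.In p cs h T n X) (hβ : ∀ a, IsRoot cs h (β a))
    (hD : ∀ γ σ, Diag T X γ σ → ∃ g, PM cs h T X (MulAut.conj g * γ)) : Au S.rgd β ⊤ := by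
  intro γ _ σ D
  obtain ⟨g, hg⟩ := hD γ σ D
  have h1 := hg.tor.mul D.tor.inv
  rw [mul_inv_cancel_right] at h1
  refine ⟨g, H491.Sd.exists_rp_of_norm S.rgd S.top (noFix_of S.rgd S.nofix) (fix_conj.1 h1), fun a => ⟨a, ?_⟩⟩
  rcases hg.root with h2 | h2
  · exact Or.inl ⟨h2 _ (hβ a), h2 _ (hβ a).neg⟩
  · exact Or.inr ⟨h2 _ (hβ a), h2 _ (hβ a).neg⟩

theorem pm_one (R : RGD cs h p T n X) {γ : MulAut Y} (D : Diag T X γ 1) : ∃ g, PM cs h T X (MulAut.conj g * γ) :=
  ⟨1, by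
    rw [map_one, one_mul]
    exact ⟨D.tor, Or.inl fun x hx y => D.root_comp R (fun _ _ => rfl) hx y⟩⟩

section g2

variable {cs : CoxeterSystem CoxeterMatrix.G₂ W} {A : Fin 2 → Fin 2 → ℤ} {h : IsCartan CoxeterMatrix.G₂ A}
  {n : Fin 2 → Y} {X : (Fin 2 → ℤ) → Subgroup Y}

/-- **type `G₂`** -/
theorem au_G2 (R : RGD cs h p T n X) {β : Fin 2 → Fin 2 → ℤ} (h0 : β 0 = sr 0)
    (h1 : β 1 = rep cs h (cs.simple 1 * cs.simple 0) (sr 1)) : Au R β ⊤ := by
  intro γ _ σ D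
  have hσ := D.matrix R
  have h2 : ∀ (w : W) (i : Fin 2), Mv X γ (rep cs h w (sr i)) (rep cs h (hat cs σ hσ w) (sr (σ i))) := fun w i => by
    refine ⟨D.root R hσ w i, fun y => ?_⟩
    have h3 := D.root R hσ (w * cs.simple i) i y
    rwa [map_mul, hat_simple, rep_mul_apply, rep_mul_apply, rep_simple_sr, rep_simple_sr, map_neg, map_neg] at h3
  have h3 : ∀ {w g}, Rp cs R.nsys w g → ∀ {x y}, IsRoot cs h y → Mv X γ x y →
      Mv X (MulAut.conj g * γ) x (rep cs h w y) := fun hg x y hy H => by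
    refine ⟨fun z => ?_, fun z => ?_⟩
    · rw [← R.conj_rp hg hy, ← H.1]
      exact conj_mem_cj
    · rw [← map_neg, ← R.conj_rp hg hy.neg, ← H.2]
      exact conj_mem_cj
  have h4 := h2 1 0
  have h5 := h2 (cs.simple 1 * cs.simple 0) 1
  rw [map_one (hat cs σ hσ), map_one, Module.End.one_apply, Module.End.one_apply] at h4
  rw [map_mul (hat cs σ hσ), hat_simple, hat_simple] at h5
  rcases (by decide : ∀ σ : Equiv.Perm (Fin 2), (σ 0 = 0 ∧ σ 1 = 1) ∨ (σ 0 = 1 ∧ σ 1 = 0)) σ with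
    ⟨e0, e1⟩ | ⟨e0, e1⟩
  · rw [e0, ← h0] at h4
    rw [e0, e1, ← h1] at h5
    refine ⟨1, one_mem _, ?_⟩
    rw [map_one, one_mul]
    exact Fin.forall_fin_two.2 ⟨⟨0, Or.inl h4⟩, ⟨1, Or.inl h5⟩⟩
  · obtain ⟨g, hg⟩ := exists_rp cs R.nsys (cs.simple 1 * cs.simple 0)
    rw [e0] at h4
    rw [e0, e1] at h5
    have h6 := h3 hg (isRoot_sr cs h 1) h4
    have h7 := h3 hg ((isRoot_sr cs h 0).act _) h5
    rw [← h1, ← h0] at h6
    rw [← rep_mul_apply, mul_assoc, cs.simple_mul_simple_cancel_left, cs.simple_mul_simple_self, map_one,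
      Module.End.one_apply, ← h1, ← h0] at h7
    exact ⟨g, ⟨_, hg⟩, Fin.forall_fin_two.2 ⟨⟨1, Or.inl h6⟩, ⟨0, Or.inl h7⟩⟩⟩

end g2

end Cfsg.Agent.MK.GX

private theorem dce_da1b11d16f81 : _root_.True := by
  try have : _root_.True := by simp only [_root_.Cfsg.Agent.MK.G.Rk.eq_1]
  exact _root_.True.intro
end

-- part: MK/GA/Cnt
section
set_option linter.all false
open scoped Cfsg.Agent.FastGrp

/-!
# MK-G-A: tools for the data `GD` (helper2)

`odd_of_count`, `syl_dg`, `ne_of_cen`, `ne_of_empty`, `odd_of_empty`.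
-/

set_option autoImplicit false
set_option linter.unusedSectionVars false
set_option maxHeartbeats 400000

namespace Cfsg.Agent.MK.GA

open Cfsg Matrix CoxeterSystem Cfsg.Agent.ChevalleyStructure.CoxeterGeom Cfsg.Agent.Tits.Roots Cfsg.Agent.Nodes.Reps
  Cfsg.Agent.Nodes.BNOf Cfsg.Agent.Nodes.Bruhat Cfsg.Agent.KFacts.RgdAut Cfsg.Agent.KFacts.RgdDiag
  Cfsg.Agent.ClosedExc.Frame Cfsg.Agent.ODD.QB Cfsg.Agent.MK.G Cfsg.Agent.GAL.Nrm

variable {I W Y ι : Type} [Fintype I] [DecidableEq I] [Group W] [Finite W] [Group Y] [Finite Y] [Fintype ι]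
  {M : CoxeterMatrix I} {cs : CoxeterSystem M W} {A : I → I → ℤ} {h : IsCartan M A} {p : ℕ} {T : Subgroup Y}
  {n : I → Y} {X : (I → ℤ) → Subgroup Y} (R : RGD cs h p T n X) {β : ι → I → ℤ}

/-- **The index of the subgroup of the frame, by the order of the group.** -/
theorem odd_of_count (hp : p.Prime) (hG : GG cs h T X = ⊤) (hc : ∀ a ∈ T, ∀ b ∈ T, a * b = b * a)
    (hnf : H69.OQ.NoFix cs h T X) {k : Type} [Field k] [Finite k]
    (hN : ∀ a, ∃ Φ : SpecialLinearGroup (Fin 2) k →* Y, Nd R (β a) Φ)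
    (ho : ∀ a b, a ≠ b → ∀ u ∈ LZ X (β a), ∀ v ∈ LZ X (β b), Commute u v)
    (hσ : ∀ σ : Equiv.Perm ι, ∃ w, ∀ a, rep cs h w (β a) = β (σ a) ∨ rep cs h w (β a) = -β (σ a))
    (hord : ∀ j : ℕ, 2 ^ j ∣ Nat.card Y →
      2 ^ j ∣ Nat.card T * (Nat.card k + 1) ^ Fintype.card ι * (Fintype.card ι).factorial) :
    Odd (MM R β).index := by
  obtain ⟨β', Φ, h1, h0, N⟩ := exists_pos hN
  have h2 : ∀ a, LZ X (β' a) = LZ X (β a) := fun a => (h1 a).elim (fun e => by rw [e]) fun e => by rw [e, LZ_neg]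
  have h1' : ∀ a, β a = β' a ∨ β a = -β' a := fun a => (h1 a).imp Eq.symm fun e => by rw [e, neg_neg]
  have F := fr_of_nd hG hc hnf N h0 fun a b hab => by rw [h2, h2]; exact ho a b hab
  have h3 := F.dvd_card (fun a => (N a).card_conj (h0 a)) fun σ => by
    obtain ⟨w, hw⟩ := hσ σ
    obtain ⟨g, hg⟩ := exists_rp cs R.nsys w
    exact ⟨g, hg.mem_normalizer, acts_rp (R := R) (fun a => (N a).root) F.inj hg fun a =>
      pm_trans (h1 a) (h1 (σ a)) (hw a)⟩
  have h4 : (⨆ a, KK (Zr X β') a) ⊔ (NH T (Zr X β')).comap MulAut.conj ≤ MM R β := by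
    refine sup_le_sup (iSup_mono fun a => (h2 a).le) ?_
    rintro g ⟨hg, π, -, hπ⟩
    obtain ⟨w, hw⟩ := H491.Sd.exists_rp_of_norm R hG (noFix_of R hnf) (fix_conj.1 hg)
    refine ⟨w, fun a => ⟨(π (a, true)).1, pm_trans (h1' a) (h1' _) ?_⟩, hw⟩
    have h5 := hπ (a, true)
    generalize π (a, true) = z at h5
    obtain ⟨b, s⟩ := z
    have h6 : rep cs h w (β' a) = cond s (β' b) (-β' b) :=
      zc_inj R hp ((N a).root.act w) (by cases s; exacts [(N b).root.neg, (N b).root]) (Subgroup.ext fun y => by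
        obtain ⟨y, rfl⟩ := (MulAut.conj g).surjective y
        exact (zc_cj (R.conj_rp hw (N a).root) y).trans (h5 y).symm)
    cases s
    exacts [Or.inr h6, Or.inl h6]
  have h5 := h3.trans (Subgroup.card_dvd_of_le h4)
  generalize MM R β = H at h5
  rw [← Nat.not_even_iff_odd, even_iff_two_dvd]
  intro h6
  refine Nat.pow_succ_factorization_not_dvd (Nat.card_pos (α := H)).ne' Nat.prime_two ((hord _ ?_).trans h5)
  rw [← H.card_mul_index, pow_succ]
  exact mul_dvd_mul (Nat.ordProj_dvd _ 2) h6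

/-- the normaliser of a Sylow subgroup -/
theorem syl_dg (hG : GG cs h T X = ⊤) (hc : ∀ a ∈ T, ∀ b ∈ T, a * b = b * a) (hnf : H69.OQ.NoFix cs h T X)
    (hf : H684.OQ.TWFaithful cs T n R.nsys) (hdg : AllDG Y) (ho : Odd (MM R β).index) :
    ∃ Q : Sylow 2 Y, Subgroup.normalizer ((Q : Subgroup Y) : Set Y) ≤ MM R β := by
  have hT : T ≤ MM R β := (T_le_NP R).trans le_sup_right
  obtain ⟨Q₀, h1, h2, h3, h4⟩ := H55.Sd.exists_syl (H := MM R β) (isPGroup_T2 hc) (fun t ht => hT ht.1)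
  obtain ⟨Q, rfl⟩ := MK.exists_sylow h3 (by rw [← Subgroup.relIndex_mul_index h1]; exact h4.mul ho)
  refine ⟨Q, fun g hg => ?_⟩
  obtain ⟨a, k, j, hj, h5, h6⟩ := exists_parts g
  have h7 := hj.of_dvd_nat (orderOf_dvd_of_pow_eq_one h6)
  have h8 := hdg Q _ (mul_mem (inv_mem (pow_mem hg a)) hg) h7
  rw [← mul_inv_cancel_left (g ^ a) g]
  exact mul_mem (h1 (mem_of_pow_mem Q (pow_mem hg a) (k := k) (h5 ▸ one_mem _)))
    (hT (H381.OQ.mem_T_of_cent R hG hnf (hc := hc) hf (Subgroup.centralizer_le h2 h8) h7))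

include R in
theorem not_comm (hnf : H69.OQ.NoFix cs h T X) (i : I) : ¬ ∀ a b : Y, a * b = b * a := fun h1 =>
  X_ne_bot R (isRoot_sr cs h i) ((Subgroup.eq_bot_iff_forall _).2 fun u hu => hnf _ (isRoot_sr cs h i) u hu
    fun t _ _ => h1 t u)

/-- an element which centralises the rank one groups of the frame -/
theorem ne_of_cen [IsSimpleGroup Y] (hp : p.Prime) (hnf : H69.OQ.NoFix cs h T X) (hr : ∀ a, IsRoot cs h (β a))
    (a : ι) {z : Y} (hz : z ≠ 1) (h0 : ∀ a, ∀ y ∈ LZ X (β a), y * z = z * y) : MM R β ≠ ⊤ := by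
  intro h2
  rw [MM_def] at h2
  have h4 : (⨆ a, LZ X (β a)) = ⊤ := by
    refine (Subgroup.Normal.eq_bot_or_eq_top (Subgroup.normalizer_eq_top_iff.1 (top_le_iff.1 (h2 ▸ sup_le
      Subgroup.le_normalizer ?_)))).resolve_left fun e =>
        zc_ne_bot R hp (hr a) (le_bot_iff.1 (e ▸ le_sup_left.trans (le_iSup (fun a => LZ X (β a)) a)))
    have h5 : ∀ g ∈ NP R (WD cs h β), cj g (⨆ a, LZ X (β a)) ≤ ⨆ a, LZ X (β a) := by
      rintro g ⟨w, hw, hg⟩
      rw [cj_iSup]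
      refine iSup_le fun a => ?_
      obtain ⟨b, hb⟩ := hw a
      have h6 : cj g (LZ X (β a)) = LZ X (rep cs h w (β a)) := by
        rw [LZ, LZ, ← map_neg, ← cj_zc (R.conj_rp hg (hr a)), ← cj_zc (R.conj_rp hg (hr a).neg)]
        exact Subgroup.map_sup _ _ _
      rw [h6]
      refine le_trans (le_of_eq ?_) (le_iSup (fun a => LZ X (β a)) b)
      rcases hb with hb | hb
      · rw [hb]
      · rw [hb, LZ_neg]
    intro g hg
    rw [mem_normalizer_iff_cj]
    exact le_antisymm (h5 g hg) (by simpa only [cj_cj_inv] using cj_mono g (h5 g⁻¹ (inv_mem hg)))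
  have h5 : (⨆ a, LZ X (β a)) ≤ Subgroup.centralizer {z} := iSup_le fun a y hy =>
    Subgroup.mem_centralizer_singleton_iff.2 (h0 a y hy)
  have h6 : z ∈ Subgroup.center Y := Subgroup.mem_center_iff.2 fun g =>
    Subgroup.mem_centralizer_singleton_iff.1 (h5 (h4 ▸ Subgroup.mem_top g))
  obtain ⟨-, i, -⟩ := hr a
  rcases Subgroup.Normal.eq_bot_or_eq_top (inferInstance : (Subgroup.center Y).Normal) with h7 | h7
  · exact hz (Subgroup.mem_bot.1 (h7 ▸ h6))
  · exact not_comm R hnf i fun a b => Subgroup.mem_center_iff.1 (h7 ▸ Subgroup.mem_top b) a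

/-- the empty frame -/
theorem ne_of_empty [IsSimpleGroup Y] [IsEmpty ι] (hc : ∀ a ∈ T, ∀ b ∈ T, a * b = b * a)
    (hnf : H69.OQ.NoFix cs h T X) (i : I) : MM R β ≠ ⊤ := by
  intro h2
  rw [MM_def, iSup_of_empty, bot_sup_eq] at h2
  have h3 : T.Normal := Subgroup.normalizer_eq_top_iff.1 (top_le_iff.1 (h2 ▸ fun g ⟨_, _, hg⟩ => hg.mem_normalizer))
  rcases h3.eq_bot_or_eq_top with h4 | h4
  · exact X_ne_bot R (isRoot_sr cs h i) ((Subgroup.eq_bot_iff_forall _).2 fun u hu => hnf _ (isRoot_sr cs h i) u hu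
      fun t ht _ => by rw [(Subgroup.eq_bot_iff_forall _).1 h4 t ht, one_mul, mul_one])
  · exact not_comm R hnf i fun a b => hc a (h4 ▸ Subgroup.mem_top a) b (h4 ▸ Subgroup.mem_top b)

theorem odd_of_empty [IsEmpty ι] (hG : GG cs h T X = ⊤) (hnf : H69.OQ.NoFix cs h T X)
    (ho : Odd (Subgroup.normalizer (T : Set Y)).index) : Odd (MM R β).index :=
  ho.of_dvd_nat (Subgroup.index_dvd_of_le fun g hg => Subgroup.mem_sup_right (by
    obtain ⟨w, hw⟩ := H491.Sd.exists_rp_of_norm R hG (noFix_of R hnf) hg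
    exact ⟨w, fun a => isEmptyElim a, hw⟩))

end Cfsg.Agent.MK.GA
end

-- part: MK/A/Sym
section
set_option linter.all false
open scoped Cfsg.Agent.FastGrp

/-!
# MK, alternating groups: the number of characters of odd degree of the symmetric groups (helper42)

The values at the `2`-element whose cycle lengths are the binary digits of `n` are `0, ± 1`.

* `Hk`, `FM_hk` : hooks and the Murnaghan-Nakayama rule;
* `ko_step : m < 2 ^ k → ko S_(2 ^ k + m) = 2 ^ k * ko S_m`, `ko_zero`, `ko_pow`.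
-/

set_option autoImplicit false
set_option maxHeartbeats 400000

namespace Cfsg.Agent.MK.A

open Cfsg Finset Equiv Cfsg.Agent.Characters.Core Cfsg.Agent.H614

variable {m : ℕ}

/-- the size of a tuple -/
def Sz (β : Fin m → ℕ) (n : ℕ) : Prop := ∑ i, β i = n + ∑ i : Fin m, (i : ℕ)

/-- a hook of length `r` -/
def Hk (β : Fin m → ℕ) (r : ℕ) (j : Fin m) : Prop := r ≤ β j ∧ β j - r ∉ Set.range β

section hooks

variable {β : Fin m → ℕ} {r n : ℕ} {j k : Fin m}

theorem Hk.inj (hβ : Function.Injective β) (h : Hk β r j) : Function.Injective (dn β j r) := fun a b hab => by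
  by_cases ha : a = j <;> by_cases hb : b = j
  · rw [ha, hb]
  · rw [ha, dn_self, dn_ne β r hb] at hab
    exact absurd ⟨b, hab.symm⟩ h.2
  · rw [hb, dn_self, dn_ne β r ha] at hab
    exact absurd ⟨a, hab⟩ h.2
  · rw [dn_ne β r ha, dn_ne β r hb] at hab
    exact hβ hab

theorem Hk.sz (hβ : Function.Injective β) (hs : Sz β n) (h : Hk β r j) : r ≤ n ∧ Sz (dn β j r) (n - r) := by
  have h1 := sum_dn β j h.1
  have h2 := sum_le_of_injective (h.inj hβ)
  unfold Sz at hs ⊢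
  omega

theorem Hk.dn (hβ : Function.Injective β) (h : Hk β r j) (h' : Hk β r k) (hjk : k ≠ j) : Hk (dn β j r) r k := by
  refine ⟨by rw [dn_ne β r hjk]; exact h'.1, ?_⟩
  rintro ⟨l, hl⟩
  rw [dn_ne β r hjk] at hl
  by_cases e : l = j
  · rw [e, dn_self] at hl
    have h1 := h.1
    have h2 := h'.1
    exact hjk (hβ (by omega))
  · rw [dn_ne β r e] at hl
    exact h'.2 ⟨l, hl⟩

theorem Hk.uniq (hβ : Function.Injective β) (hs : Sz β n) (hn : n < 2 * r) (h : Hk β r j) (h' : Hk β r k) : k = j := by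
  by_contra e
  obtain ⟨h1, h2⟩ := h.sz hβ hs
  have h3 := ((h.dn hβ h' e).sz (h.inj hβ) h2).1
  omega

open Classical in
theorem FM_hk (hr : 0 < r) (s : Multiset ℕ) (β : Fin m → ℕ) :
    FM (r ::ₘ s) β = ∑ j ∈ univ.filter (Hk β r), FM s (dn β j r) := by
  rw [FM_cons, sum_filter]
  refine sum_congr rfl fun j _ => ?_
  by_cases h1 : r ≤ β j
  · rw [if_pos h1]
    split_ifs with h2
    · rfl
    · obtain ⟨l, hl⟩ : β j - r ∈ Set.range β := by
        by_contra h3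
        exact h2 ⟨h1, h3⟩
      have hlj : l ≠ j := fun e => by rw [e] at hl; omega
      exact (FM_alt _).eq_zero two_torsion_int hlj (by rw [dn_ne β r hlj, dn_self, hl])
  · rw [if_neg h1, if_neg fun h => h1 h.1]

theorem FM_none (hr : 0 < r) (s : Multiset ℕ) (h : ∀ j, ¬ Hk β r j) : FM (r ::ₘ s) β = 0 := by
  classical
  rw [FM_hk hr]
  exact sum_eq_zero fun j hj => absurd (mem_filter.1 hj).2 (h j)

theorem FM_one (hr : 0 < r) (s : Multiset ℕ) (hβ : Function.Injective β) (hs : Sz β n) (hn : n < 2 * r)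
    (h : Hk β r j) : FM (r ::ₘ s) β = FM s (dn β j r) := by
  classical
  rw [FM_hk hr, sum_eq_single_of_mem j (mem_filter.2 ⟨mem_univ _, h⟩)]
  exact fun k hk e => absurd (h.uniq hβ hs hn (mem_filter.1 hk).2) e

theorem vac_cases (hβ : Function.Injective β) (hs : Sz β 0) : vac β = 1 ∨ vac β = -1 := by
  have h1 : StrictMono (β ∘ Tuple.sort β) :=
    (Tuple.monotone_sort β).strictMono_of_injective (hβ.comp (Tuple.sort β).injective)
  have h2 : ∑ i, (β ∘ Tuple.sort β) i = 0 + ∑ i : Fin m, (i : ℕ) := (Equiv.sum_comp (Tuple.sort β) β).trans hs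
  have h3 : β ∘ Tuple.sort β = fun i : Fin m => (i : ℕ) := funext fun i =>
    le_antisymm (H615.AltConj.le_of_strictMono h1 h2 i) (strictMono_le h1 i)
  have h4 := vac_alt (Tuple.sort β) β
  rw [h3, vac_eq_pair (fun i : Fin m => (i : ℕ)), pair_self_of_strictMono Fin.val_strictMono, smul_eq_mul] at h4
  exact Int.eq_one_or_neg_one_of_mul_eq_one (by rw [mul_comm]; exact h4.symm)

end hooks

/-- a cycle type of a `2`-element at which all values are `0, ± 1` -/
structure Good (n : ℕ) (s : Multiset ℕ) : Prop where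
  sum : s.sum = n
  pw : ∀ r ∈ s, ∃ i, r = 2 ^ i
  val : ∀ (m : ℕ) (β : Fin m → ℕ), Function.Injective β → Sz β n → FM s β = 0 ∨ FM s β = 1 ∨ FM s β = -1

theorem good_zero : Good 0 0 := ⟨rfl, fun _ h => absurd h (Multiset.notMem_zero _), fun _ _ h1 h2 => Or.inr (vac_cases h1 h2)⟩

theorem Good.step {n k : ℕ} {s : Multiset ℕ} (h : Good n s) (hn : n < 2 ^ k) : Good (2 ^ k + n) (2 ^ k ::ₘ s) := by
  refine ⟨by rw [Multiset.sum_cons, h.sum], fun r hr => ?_, fun m β h1 h2 => ?_⟩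
  · rcases Multiset.mem_cons.1 hr with rfl | hr
    · exact ⟨k, rfl⟩
    · exact h.pw r hr
  · by_cases e : ∃ j, Hk β (2 ^ k) j
    · obtain ⟨j, hj⟩ := e
      have h3 := (hj.sz h1 h2).2
      rw [Nat.add_sub_cancel_left] at h3
      rw [FM_one (by positivity) s h1 h2 (by omega) hj]
      exact h.val m _ (hj.inj h1) h3
    · exact Or.inl (FM_none (by positivity) s fun j hj => e ⟨j, hj⟩)

theorem exists_split {n : ℕ} (hn : n ≠ 0) : ∃ k l, l < 2 ^ k ∧ n = 2 ^ k + l := by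
  have k1 : 2 ^ Nat.log 2 n ≤ n := Nat.pow_log_le_self 2 hn
  have k2 : n < 2 ^ (Nat.log 2 n + 1) := Nat.lt_pow_succ_log_self one_lt_two n
  rw [pow_succ] at k2
  exact ⟨Nat.log 2 n, n - 2 ^ Nat.log 2 n, by omega, by omega⟩

theorem exists_good (n : ℕ) : ∃ s, Good n s := by
  induction n using Nat.strong_induction_on with
  | _ n ih =>
  by_cases hn : n = 0
  · exact ⟨0, hn ▸ good_zero⟩
  obtain ⟨k, l, h1, rfl⟩ := exists_split hn
  obtain ⟨s, hs⟩ := ih l (by have := Nat.two_pow_pos k; omega)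
  exact ⟨_, hs.step h1⟩

section perm

variable {α : Type} [Fintype α] [DecidableEq α]

theorem exists_ty {s : Multiset ℕ} (h1 : s.sum = Fintype.card α) (h2 : ∀ r ∈ s, 0 < r) : ∃ g : Perm α, ty g = s := by
  have h3 := card_partition_eq (α := α) ⟨s, fun hi => h2 _ hi, h1⟩
  obtain ⟨g, hg⟩ := card_pos.1 (Nat.pos_of_ne_zero fun h0 => by
    rw [h0, zero_mul] at h3
    exact (Nat.factorial_ne_zero _) h3.symm)
  exact ⟨g, congrArg Nat.Partition.parts (mem_filter.1 hg).2⟩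

theorem prod_pw {s : Multiset ℕ} (h : ∀ r ∈ s, ∃ i, r = 2 ^ i) : ∃ j, s.prod = 2 ^ j :=
  Multiset.prod_induction (fun x => ∃ j, x = 2 ^ j) s (by
    rintro _ _ ⟨a, rfl⟩ ⟨b, rfl⟩
    exact ⟨a + b, (pow_add 2 a b).symm⟩) ⟨0, rfl⟩ h

theorem pow_of_ty {g : Perm α} (h : ∀ r ∈ ty g, ∃ i, r = 2 ^ i) : ∃ j, g ^ 2 ^ j = 1 := by
  obtain ⟨j, hj⟩ := prod_pw h
  refine ⟨j, orderOf_dvd_iff_pow_eq_one.1 ?_⟩
  rw [← Perm.lcm_cycleType, Multiset.lcm_dvd, ← hj]
  intro c hc
  exact Multiset.dvd_prod (by rw [ty_eq]; exact Multiset.mem_add.2 (Or.inl hc))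

/-- a cycle of even length gives an odd permutation in the centraliser -/
theorem exists_odd_comm {g : Perm α} {r : ℕ} (h : r ∈ ty g) (hr : Even r) :
    ∃ s, s ∉ alternatingGroup α ∧ s * g = g * s := by
  rw [ty_eq, Multiset.mem_add] at h
  rcases h with h | h
  · obtain ⟨c, τ, rfl, h1, h2, h3⟩ := Perm.mem_cycleType_iff.1 h
    refine ⟨c, ?_, by rw [mul_assoc, h1.commute.eq]⟩
    rw [Perm.mem_alternatingGroup, h2.sign, h3, hr.neg_one_pow]
    decide
  · rw [Multiset.eq_of_mem_replicate h] at hr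
    exact absurd hr (by decide)

theorem sgn_def (g : Perm α) : H615.AltConj.sgn g = ((Perm.sign g : ℤˣ) : ℤ) := rfl

theorem mem_alt_of_ty {g : Perm α} (h : Even (Multiset.card (ty g) + Fintype.card α)) : g ∈ alternatingGroup α := by
  have h1 := H615.AltConj.neg_one_pow_card_ty g
  have h2 : (-1 : ℂ) ^ Multiset.card (ty g) * (-1) ^ Fintype.card α = 1 := by rw [← pow_add, h.neg_one_pow]
  rw [h1, mul_right_comm, ← pow_add, (Even.add_self _).neg_one_pow, one_mul, sgn_def] at h2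
  rw [Perm.mem_alternatingGroup]
  rcases Int.units_eq_one_or (Perm.sign g) with h3 | h3
  · exact h3
  · rw [h3] at h2
    norm_num at h2

theorem card_parts_le {n : ℕ} (ν : n.Partition) : Multiset.card ν.parts ≤ n := by
  have h1 := Multiset.card_nsmul_le_sum (s := ν.parts) (a := 1) fun x hx => ν.parts_pos hx
  rwa [ν.parts_sum, smul_eq_mul, mul_one] at h1

/-- the irreducible characters with a property, counted by partitions -/
theorem card_irr_eq (P : (Perm α → ℂ) → Prop) :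
    Nat.card {χ : Perm α → ℂ // IsIrrCharacter (Perm α) χ ∧ P χ} =
      Nat.card {β : Fin (Fintype.card α) → ℕ // (StrictMono β ∧ Sz β (Fintype.card α)) ∧ P (ch α β)} := by
  refine (Nat.card_eq_of_bijective (fun β => ⟨ch α β.1, isIrr_ch β.2.1.1 β.2.1.2, β.2.2⟩) ⟨fun β γ h => ?_, fun χ => ?_⟩).symm
  · exact Subtype.ext (ch_inj β.2.1.1 γ.2.1.1 β.2.1.2 (congrArg Subtype.val h))
  · obtain ⟨β, h1, h2, h3⟩ := irr_eq le_rfl χ.2.1
    exact ⟨⟨β, ⟨h1, h2⟩, h3 ▸ χ.2.2⟩, Subtype.ext h3.symm⟩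

theorem Good.ko {s : Multiset ℕ} (h : Good (Fintype.card α) s) : ko (Perm α) = zz s := by
  classical
  have hpos : ∀ r ∈ s, 0 < r := fun r hr => by
    obtain ⟨i, rfl⟩ := h.pw r hr
    positivity
  obtain ⟨g, hg⟩ := exists_ty h.sum hpos
  obtain ⟨j, hj⟩ := pow_of_ty (g := g) (hg ▸ h.pw)
  have h1 := column_ortho (m := Fintype.card α) le_rfl ⟨s, fun hi => hpos _ hi, h.sum⟩ ⟨s, fun hi => hpos _ hi, h.sum⟩
  rw [if_pos rfl] at h1
  have hm : ∀ ν : (Fintype.card α).Partition, StrictMono (betaOf (Fintype.card α) ν.parts) ∧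
      Sz (betaOf (Fintype.card α) ν.parts) (Fintype.card α) := fun ν =>
    ⟨betaOf_strictMono (card_parts_le ν), by rw [Sz, sum_betaOf (card_parts_le ν), ν.parts_sum]⟩
  have h2 : ∀ ν : (Fintype.card α).Partition, (FM s (betaOf (Fintype.card α) ν.parts) : ℚ) *
      FM s (betaOf (Fintype.card α) ν.parts) =
      if Odd (charDegree (ch α (betaOf (Fintype.card α) ν.parts))) then 1 else 0 := fun ν => by
    rw [if_congr (par (isIrr_isCharacter (isIrr_ch (hm ν).1 (hm ν).2)) hj (ch_apply _ g)) rfl rfl, hg]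
    rcases h.val _ _ (hm ν).1.injective (hm ν).2 with e | e | e <;> rw [e] <;> norm_num
  rw [sum_congr rfl fun ν _ => h2 ν, sum_boole, ← Fintype.card_subtype, ← Nat.card_eq_fintype_card] at h1
  have h3 : Nat.card {ν : (Fintype.card α).Partition // Odd (charDegree (ch α (betaOf (Fintype.card α) ν.parts)))} =
      zz s := Nat.cast_injective (R := ℚ) h1
  rw [← h3, show A.ko (Perm α) = Nat.card {χ : Perm α → ℂ // IsIrrCharacter (Perm α) χ ∧ Odd (charDegree χ)} from rfl,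
    card_irr_eq]
  refine (Nat.card_eq_of_bijective (fun ν => ⟨betaOf _ ν.1.parts, hm ν.1, ν.2⟩) ⟨fun ν μ e => ?_, fun β => ?_⟩).symm
  · exact Subtype.ext (Nat.Partition.ext (betaOf_inj (card_parts_le _) (card_parts_le _)
      (fun h0 => absurd (ν.1.parts_pos h0) (lt_irrefl 0)) (fun h0 => absurd (μ.1.parts_pos h0) (lt_irrefl 0))
      (congrArg Subtype.val e)))
  · obtain ⟨ν, hν⟩ := exists_betaOf le_rfl β.2.1.1 β.2.1.2
    exact ⟨⟨ν, hν ▸ β.2.2⟩, Subtype.ext hν.symm⟩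

/-- **the recursion** -/
theorem ko_step {γ : Type} [Fintype γ] [DecidableEq γ] {k : ℕ} (h : Fintype.card γ < 2 ^ k)
    (hα : Fintype.card α = 2 ^ k + Fintype.card γ) : ko (Perm α) = 2 ^ k * ko (Perm γ) := by
  obtain ⟨s, hs⟩ := exists_good (Fintype.card γ)
  have h1 : s.count (2 ^ k) = 0 := Multiset.count_eq_zero.2 fun hm => by
    have := Multiset.single_le_sum (fun x _ => Nat.zero_le x) _ hm
    rw [hs.sum] at this
    omega
  rw [hs.ko, Good.ko (hα ▸ hs.step h), zz_cons, h1, zero_add, mul_one]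

theorem ko_zero (h : Fintype.card α = 0) : ko (Perm α) = 1 := by
  rw [Good.ko (h ▸ good_zero)]
  rfl

theorem ko_pow {k : ℕ} (h : Fintype.card α = 2 ^ k) : ko (Perm α) = 2 ^ k := by
  rw [ko_step (γ := Fin 0) (k := k) (by rw [Fintype.card_fin]; positivity) (by rw [h]; rfl),
    ko_zero (Fintype.card_fin 0), mul_one]

end perm

end Cfsg.Agent.MK.A

private theorem dce_4f4cbfc25bb5 : _root_.True := by
  try have : _root_.True := by simp only [_root_.Cfsg.Agent.MK.A.Sz.eq_1]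
  exact _root_.True.intro
end

-- part: MK/A/Alt
section
set_option linter.all false
open scoped Cfsg.Agent.FastGrp

/-!
# MK, alternating groups: self-conjugate partitions of degree `2 mod 4` (helper42)

* `nv_zero` : there are none for `n = 2 ^ k + l`, `2 ≤ l < 2 ^ k`;
* `nv_pow` : there are `2 ^ k` of them for `n = 2 ^ (k + 2) + ε`, `ε ≤ 1`;
* `ko_alt_gen`, `ko_alt_pow` : the number of characters of odd degree of the alternating groups.
-/

set_option autoImplicit false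
set_option maxHeartbeats 400000

namespace Cfsg.Agent.MK.A

open Finset hiding diag mem_diag
open Cfsg Equiv Cfsg.Agent.Characters.Core Cfsg.Agent.H614 Cfsg.Agent.H615.AltRefl Cfsg.Agent.H29.AltSelf
open Cfsg.Agent.ODD.Alt (mem_diag hook_cases)

variable {m : ℕ} {β γ : Fin m → ℕ} {r n : ℕ} {j k : Fin m}

theorem mirror (h : _root_.Cfsg.Agent.H615.AltRefl.IsRefl β β) (hr : r % 2 = 0) (hj : Hk β r j) : ∃ k, k ≠ j ∧ Hk β r k := by
  have h1 := h.lt j
  have h2 := hj.1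
  obtain ⟨k, hk⟩ : m + m - 1 - (β j - r) ∈ Set.range β := by
    by_contra h4
    exact hj.2 ((h.iff _ (by omega)).2 h4)
  refine ⟨k, fun e => by rw [e] at hk; omega, by omega, ?_⟩
  rw [show β k - r = m + m - 1 - β j by omega]
  exact (h.iff _ h1).1 ⟨j, rfl⟩

theorem FM_ones_ne (hβ : Function.Injective β) (hs : Sz β n) : FM (Multiset.replicate n 1) β ≠ 0 := fun h0 => by
  have h1 : StrictMono (β ∘ Tuple.sort β) :=
    (Tuple.monotone_sort β).strictMono_of_injective (hβ.comp (Tuple.sort β).injective)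
  have h2 := FM_ones_pos n h1 ((Equiv.sum_comp (Tuple.sort β) β).trans hs)
  rw [FM_alt, h0, smul_zero] at h2
  exact lt_irrefl _ h2

theorem FM_small {ε : ℕ} (hε : ε ≤ 1) (hβ : Function.Injective β) (hs : Sz β ε) :
    Odd (FM (Multiset.replicate ε 1) β) := by
  have h1 : Good ε (Multiset.replicate ε 1) := by
    interval_cases ε
    · exact good_zero
    · exact good_zero.step (k := 0) one_pos
  rcases h1.val m β hβ hs with e | e | e
  · exact absurd e (FM_ones_ne hβ hs)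
  · rw [e]; decide
  · rw [e]; decide

theorem FM_two {ε : ℕ} (hε : ε ≤ 1) (h : _root_.Cfsg.Agent.H615.AltRefl.IsRefl β β) (hs : Sz β (r + r + ε)) (hr : r % 2 = 0) (h2 : 2 ≤ r)
    (hj : Hk β r j) : ∃ z : ℤ, Odd z ∧ FM (r ::ₘ r ::ₘ Multiset.replicate ε 1) β = 2 * z := by
  classical
  obtain ⟨k, hkj, hk⟩ := mirror h hr hj
  have key : ∀ {a b : Fin m}, Hk β r a → Hk β r b → b ≠ a →
      Function.Injective (dn (dn β a r) b r) ∧ Sz (dn (dn β a r) b r) ε ∧
      FM (r ::ₘ Multiset.replicate ε 1) (dn β a r) = FM (Multiset.replicate ε 1) (dn (dn β a r) b r) := fun ha hb e => by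
    have k1 := (ha.sz h.inj hs).2
    have k2 := ha.dn h.inj hb e
    have k3 := (k2.sz (ha.inj h.inj) k1).2
    rw [show r + r + ε - r - r = ε by omega] at k3
    exact ⟨k2.inj (ha.inj h.inj), k3, FM_one (by omega) _ (ha.inj h.inj) k1 (by omega) k2⟩
  have h3 : univ.filter (Hk β r) = {j, k} := by
    ext l
    simp only [mem_filter, mem_univ, true_and, mem_insert, mem_singleton]
    refine ⟨fun hl => ?_, by rintro (rfl | rfl) <;> assumption⟩
    by_contra e
    push Not at e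
    obtain ⟨k1, k2, -⟩ := key hj hk hkj
    have k3 := (((hj.dn h.inj hk hkj).dn (hj.inj h.inj) (hj.dn h.inj hl e.1) e.2).sz k1 k2).1
    omega
  have h4 : dn (dn β k r) j r = dn (dn β j r) k r := by
    funext l
    by_cases e1 : l = j
    · rw [e1, dn_self, dn_ne _ r hkj.symm, dn_ne _ r hkj.symm, dn_self]
    by_cases e2 : l = k
    · rw [e2, dn_self, dn_ne _ r hkj, dn_ne _ r hkj, dn_self]
    · rw [dn_ne _ r e1, dn_ne _ r e2, dn_ne _ r e2, dn_ne _ r e1]
  obtain ⟨k1, k2, k3⟩ := key hj hk hkj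
  refine ⟨_, FM_small hε k1 k2, ?_⟩
  rw [FM_hk (by omega), h3, sum_pair hkj.symm, k3, (key hk hj hkj.symm).2.2, h4, two_mul]

theorem diag_iff {x : ℕ} : 2 * x + 1 ∈ diag β ↔ m + x ∈ Set.range β := by
  rw [mem_diag]
  exact ⟨fun ⟨i, h1, h2⟩ => ⟨i, by omega⟩, fun ⟨i, h⟩ => ⟨i, by omega, by omega⟩⟩

theorem diag_inj (hβ : StrictMono β) (hγ : StrictMono γ) (h : _root_.Cfsg.Agent.H615.AltRefl.IsRefl β β) (h' : _root_.Cfsg.Agent.H615.AltRefl.IsRefl γ γ) (e : diag β = diag γ) :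
    β = γ := by
  have key : ∀ {β γ : Fin m → ℕ}, _root_.Cfsg.Agent.H615.AltRefl.IsRefl β β → _root_.Cfsg.Agent.H615.AltRefl.IsRefl γ γ → diag β = diag γ → Set.range β ⊆ Set.range γ :=
    fun {β γ} h h' e b hb => by
      have h1 : b < m + m := by
        obtain ⟨i, rfl⟩ := hb
        exact h.lt i
      by_cases h2 : m ≤ b
      · rw [show b = m + (b - m) by omega, ← diag_iff] at hb ⊢
        rwa [← e]
      · rw [h.iff _ h1, show m + m - 1 - b = m + (m - 1 - b) by omega, ← diag_iff] at hb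
        rw [h'.iff _ h1, show m + m - 1 - b = m + (m - 1 - b) by omega, ← diag_iff]
        rwa [← e]
  exact (hβ.range_inj hγ).1 ((key h h' e).antisymm (key h' h e.symm))

theorem exists_diag_eq {D : Finset ℕ} (ho : ∀ d ∈ D, d % 2 = 1) (hl : ∀ d ∈ D, d < m + m) :
    ∃ β : Fin m → ℕ, StrictMono β ∧ _root_.Cfsg.Agent.H615.AltRefl.IsRefl β β ∧ diag β = D ∧ Sz β (∑ d ∈ D, d) := by
  classical
  obtain ⟨P, hP⟩ : ∃ P : ℕ → Prop, ∀ b, P b ↔ if m ≤ b then 2 * (b - m) + 1 ∈ D else 2 * (m - 1 - b) + 1 ∉ D :=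
    ⟨_, fun _ => Iff.rfl⟩
  have h1 : ∀ b < m + m, P b ↔ ¬ P (m + m - 1 - b) := fun b hb => by
    rw [hP, hP]
    by_cases e : m ≤ b
    · rw [if_pos e, if_neg (by omega), not_not, show m - 1 - (m + m - 1 - b) = b - m by omega]
    · rw [if_neg e, if_pos (by omega), show m + m - 1 - b - m = m - 1 - b by omega]
  have h2 : ((range (m + m)).filter P).card = m := by
    have k1 := card_filter_add_card_filter_not (s := range (m + m)) P
    have k2 : ((range (m + m)).filter P).card = ((range (m + m)).filter fun b => ¬ P b).card := by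
      refine card_nbij' (fun b => m + m - 1 - b) (fun b => m + m - 1 - b) (fun b hb => ?_) (fun b hb => ?_)
        (fun b hb => ?_) fun b hb => ?_
      all_goals simp only [coe_filter, mem_range, Set.mem_ofPred_eq] at hb ⊢
      · exact ⟨by omega, (h1 b hb.1).1 hb.2⟩
      · exact ⟨by omega, by_contra fun e => hb.2 ((h1 b hb.1).2 e)⟩
      · omega
      · omega
    rw [card_range] at k1
    omega
  have h3 : ∀ b, b ∈ Set.range (((range (m + m)).filter P).orderEmbOfFin h2) ↔ b < m + m ∧ P b := fun b => by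
    rw [range_orderEmbOfFin, mem_coe, mem_filter, mem_range]
  have h4 := (((range (m + m)).filter P).orderEmbOfFin h2).strictMono
  generalize ⇑(((range (m + m)).filter P).orderEmbOfFin h2) = β at h3 h4
  have h5 : _root_.Cfsg.Agent.H615.AltRefl.IsRefl β β := ⟨h4.injective, h4.injective, fun i => ((h3 _).1 ⟨i, rfl⟩).1, fun i => ((h3 _).1 ⟨i, rfl⟩).1,
    fun b hb => by
      rw [h3, h3, h1 b hb]
      exact ⟨fun h h' => h.2 h'.2, fun h => ⟨hb, fun h' => h ⟨by omega, h'⟩⟩⟩⟩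
  have h6 : diag β = D := by
    ext d
    refine ⟨fun hd => ?_, fun hd => ?_⟩
    · have k1 := odd_of_mem_diag hd
      rw [show d = 2 * (d / 2) + 1 by omega] at hd ⊢
      rw [diag_iff, h3, hP, if_pos (Nat.le_add_right _ _), Nat.add_sub_cancel_left] at hd
      exact hd.2
    · have k1 := ho d hd
      have k2 := hl d hd
      rw [show d = 2 * (d / 2) + 1 by omega] at hd ⊢
      rw [diag_iff, h3, hP, if_pos (Nat.le_add_right _ _), Nat.add_sub_cancel_left]
      exact ⟨by omega, hd⟩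
  obtain ⟨n, hn⟩ := Nat.exists_eq_add_of_le' (sum_le_of_injective h4.injective)
  refine ⟨β, h4, h5, h6, ?_⟩
  rw [← h6, diag_sum h5 hn]
  exact hn

theorem small {E : Finset ℕ} (ho : ∀ d ∈ E, d % 2 = 1) {ε : ℕ} (hε : ε ≤ 1) (hs : ∑ d ∈ E, d = ε) (x : ℕ) :
    x ∈ E ↔ ε = 1 ∧ x = 1 := by
  have h1 : ∀ x ∈ E, ε = 1 ∧ x = 1 := fun x hx => by
    have k1 := single_le_sum (f := fun d => d) (fun _ _ => Nat.zero_le _) hx
    have k2 := ho x hx
    omega
  refine ⟨h1 x, fun h => by_contra fun hx => ?_⟩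
  rw [sum_eq_zero fun y hy => absurd ((h1 y hy).2.trans h.2.symm ▸ hy) hx] at hs
  omega

/-- the diagonal hook lengths -/
def Ds (ε u t : ℕ) : Finset ℕ :=
  if ε = 1 ∧ t = 0 then {4 * u + 1} else {2 * t + 1, 4 * u - (2 * t + 1)} ∪ if ε = 1 then {1} else ∅

theorem mem_Ds {ε u t d : ℕ} : d ∈ Ds ε u t ↔ ((ε = 1 ∧ t = 0) ∧ d = 4 * u + 1) ∨
    (¬ (ε = 1 ∧ t = 0) ∧ (d = 2 * t + 1 ∨ d = 4 * u - (2 * t + 1) ∨ (ε = 1 ∧ d = 1))) := by
  unfold Ds
  by_cases h1 : ε = 1 <;> by_cases h2 : t = 0 <;> simp only [h1, h2, or_comm, or_left_comm, _root_.and_self, ↓ _root_.reduceIte, _root_.Finset.mem_singleton, _root_.true_and, _root_.not_true_eq_false, _root_.MulZeroClass.mul_zero, _root_.zero_add, _root_.or_comm, _root_.or_self_left, _root_.false_and, _root_.false_or, _root_.and_false, _root_.Finset.insert_union, _root_.Finset.singleton_union, _root_.Finset.mem_insert, _root_.or_left_comm, _root_.not_false_eq_true, _root_.and_true, _root_.Finset.union_empty]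

theorem sum_Ds {ε u t : ℕ} (hε : ε ≤ 1) (ht : t < u) : ∑ d ∈ Ds ε u t, d = 4 * u + ε := by
  unfold Ds
  split_ifs with h1 h2
  · rw [sum_singleton, h1.1]
  · rw [sum_union (by simp only [_root_.Finset.disjoint_singleton_right, _root_.Finset.mem_insert, _root_.Nat.right_eq_add, _root_.mul_eq_zero, _root_.OfNat.ofNat_ne_zero, _root_.false_or, _root_.Finset.mem_singleton, _root_.not_or]; omega), sum_pair (by omega), sum_singleton]
    omega
  · rw [union_empty, sum_pair (by omega)]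
    omega

theorem card_self {ε u : ℕ} (hε : ε ≤ 1) (hu : 0 < u) (hm : 4 * u + ε ≤ m) :
    Nat.card {β : Fin m → ℕ // (StrictMono β ∧ Sz β (4 * u + ε)) ∧ _root_.Cfsg.Agent.H615.AltRefl.IsRefl β β ∧ ∃ j, Hk β (2 * u) j} = u := by
  have h1 : ∀ t : Fin u, ∃ β : {β : Fin m → ℕ // (StrictMono β ∧ Sz β (4 * u + ε)) ∧ _root_.Cfsg.Agent.H615.AltRefl.IsRefl β β ∧ ∃ j, Hk β (2 * u) j},
      diag β.1 = Ds ε u t := fun t => by
    have ht := t.2
    obtain ⟨β, k1, k2, k3, k4⟩ := exists_diag_eq (m := m) (D := Ds ε u t) (fun d hd => by rw [mem_Ds] at hd; omega)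
      fun d hd => by rw [mem_Ds] at hd; omega
    rw [sum_Ds hε ht] at k4
    refine ⟨⟨β, ⟨k1, k4⟩, k2, ?_⟩, k3⟩
    by_cases e : ε = 1 ∧ (t : ℕ) = 0
    · obtain ⟨j, hj⟩ := diag_iff.1 (show 2 * (2 * u) + 1 ∈ diag β by rw [k3, mem_Ds]; (clear * - e; solve | lia | omega))
      refine ⟨j, by omega, fun h => ?_⟩
      rw [show β j - 2 * u = m + 0 by omega, ← diag_iff, k3, mem_Ds] at h
      omega
    · obtain ⟨j, hj⟩ := diag_iff.1 (show 2 * (t : ℕ) + 1 ∈ diag β by rw [k3, mem_Ds]; (clear * - e; solve | lia | omega))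
      refine ⟨j, by omega, fun h => (k2.iff _ (by omega)).1 h ?_⟩
      rw [show m + m - 1 - (β j - 2 * u) = m + (2 * u - 1 - t) by omega, ← diag_iff, k3, mem_Ds]
      omega
  choose f hf using h1
  refine (Nat.card_eq_of_bijective f ⟨fun s t e => Fin.ext ?_, fun β => ?_⟩).symm.trans (Nat.card_fin u)
  · have k1 : Ds ε u s = Ds ε u t := by rw [← hf, ← hf, e]
    have k2 : ∀ d, d ∈ Ds ε u s ↔ d ∈ Ds ε u t := fun d => by rw [k1]
    have k3 := k2 (4 * u + 1)
    have k4 := k2 (4 * u - (2 * s + 1))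
    have := s.2
    have := t.2
    simp only [mem_Ds, and_true, true_or, or_true] at k3 k4
    (clear * - k3 k4; solve | lia | omega)
  · obtain ⟨β, ⟨k1, k2⟩, k3, j, hj⟩ := β
    suffices H : ∃ t : Fin u, diag β = Ds ε u t by
      obtain ⟨t, ht⟩ := H
      exact ⟨t, Subtype.ext (diag_inj (f t).2.1.1 k1 (f t).2.2.1 k3 ((hf t).trans ht.symm))⟩
    obtain ⟨z, hz, e⟩ := FM_two hε k3 (r := 2 * u) (by rwa [show 2 * u + 2 * u + ε = 4 * u + ε by omega]) (by omega)
      (by omega) hj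
    have k4 := diag_sum k3 k2
    have k5 : ∀ S ⊆ diag β, ∀ δ ≤ 1, ∑ d ∈ S, d + δ = 4 * u + ε → ∀ x, x ∈ diag β \ S ↔ δ = 1 ∧ x = 1 :=
      fun S hS δ hδ h => small (fun d hd => odd_of_mem_diag (mem_sdiff.1 hd).1) hδ (by
        have := sum_sdiff (f := fun d => d) hS
        omega)
    have k6 : ∀ d ∈ diag β, ∀ d' ∈ diag β, d < d' → d + d' = 2 * (2 * u) → ∃ t : Fin u, diag β = Ds ε u t :=
      fun d hd d' hd' h1 h2 => by
        have o1 := odd_of_mem_diag hd
        have o2 := k5 {d, d'} (insert_subset hd (singleton_subset_iff.2 hd')) ε hε (by rw [sum_pair h1.ne]; omega)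
        simp only [mem_sdiff, mem_insert, mem_singleton] at o2
        have o3 := o2 1
        refine ⟨⟨d / 2, by omega⟩, Finset.ext fun x => ?_⟩
        have o4 := o2 x
        rw [mem_Ds]
        simp only
        by_cases hx : x ∈ diag β
        · simp only [hx, true_and, true_iff] at o4 ⊢
          by_cases h1' : 1 ∈ diag β <;> simp only [h1', true_and, false_and, and_true, false_iff] at o3 <;> (clear * - hε h1 h2 o1 o4 o3; (solve | lia | omega))
        · have x1 : x ≠ d := fun e => hx (e ▸ hd)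
          have x2 : x ≠ d' := fun e => hx (e ▸ hd')
          simp only [hx, false_and, false_iff] at o4 ⊢
          by_cases h1' : 1 ∈ diag β <;> simp only [h1', true_and, false_and, and_true, false_iff] at o3 <;> (clear * - h1 h2 o1 x1 x2 o4 o3; solve | lia | omega)
    rcases hook_cases k3 (r := 2 * u) (by omega) (by omega) (s := 2 * u ::ₘ Multiset.replicate ε 1) (by
      rw [e]
      have := Int.odd_iff.1 hz
      omega) with ⟨d, hd, h1⟩ | ⟨d, hd, d', hd', h1, h2⟩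
    · have o1 := single_le_sum (f := fun d => d) (fun _ _ => Nat.zero_le _) hd
      have o2 := k5 {d} (singleton_subset_iff.2 hd) 0 zero_le_one (by rw [sum_singleton]; omega)
      refine ⟨⟨0, hu⟩, Finset.ext fun x => ?_⟩
      have o4 := o2 x
      rw [mem_Ds]
      simp only [mem_sdiff, mem_singleton, zero_ne_one, false_and, iff_false, and_true] at o4 ⊢
      by_cases hx : x ∈ diag β
      · simp only [hx, true_and, true_iff] at o4 ⊢
        omega
      · have x1 : x ≠ d := fun e => hx (e ▸ hd)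
        simp only [hx, false_iff]
        omega
    · rcases lt_or_gt_of_ne h1 with h | h
      · exact k6 d hd d' hd' h h2
      · exact k6 d' hd' d hd h (by omega)

theorem vanish_of_refl {α : Type} [Fintype α] [DecidableEq α] (hβ : StrictMono β) (hs : Sz β (Fintype.card α))
    (h : _root_.Cfsg.Agent.H615.AltRefl.IsRefl β β) (g : Perm α) (hg : g ∉ alternatingGroup α) : ch α β g = 0 := by
  have h1 := H615.AltConj.ch_refl h hβ hβ hs g
  rcases Int.units_eq_one_or (Perm.sign g) with e | e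
  · exact absurd (Perm.mem_alternatingGroup.2 e) hg
  · rw [sgn_def, e] at h1
    generalize ch α β g = c at h1 ⊢
    push_cast at h1
    linear_combination h1 / 2

theorem index_alt (hn : 2 ≤ n) : (alternatingGroup (Fin n)).index = 2 :=
  have : Nontrivial (Fin n) := Fin.nontrivial_iff_two_le.2 hn
  alternatingGroup.index_eq_two

theorem not_vn {k l : ℕ} (h1 : 2 ≤ l) (h2 : l < 2 ^ k) (χ : Perm (Fin (2 ^ k + l)) → ℂ) :
    ¬ Vn (alternatingGroup (Fin (2 ^ k + l))) χ := fun h => by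
  have hc := Fintype.card_fin (2 ^ k + l)
  obtain ⟨β, hβ, hs, rfl⟩ := irr_eq (m := 2 ^ k + l) hc.le h.1
  rw [hc] at hs
  have hr := isRefl_of_vanish hβ hs le_rfl h.2.1
  have he : 2 ^ k % 2 = 0 := by
    rcases k with _ | k
    · omega
    · omega
  have hp : ∀ r ∈ 2 ^ k ::ₘ 2 ::ₘ Multiset.replicate (l - 2) 1, ∃ i, r = 2 ^ i := fun r hr => by
    simp only [Multiset.mem_cons, Multiset.mem_replicate] at hr
    rcases hr with rfl | rfl | ⟨-, rfl⟩
    exacts [⟨k, rfl⟩, ⟨1, rfl⟩, ⟨0, rfl⟩]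
  obtain ⟨y, hy⟩ := exists_ty (α := Fin (2 ^ k + l)) (s := 2 ^ k ::ₘ 2 ::ₘ Multiset.replicate (l - 2) 1)
    (by simp only [_root_.Multiset.sum_cons, _root_.Multiset.sum_replicate, _root_.smul_eq_mul, _root_.mul_one, _root_.Fintype.card_fin, _root_.Nat.add_left_cancel_iff]; omega) fun r hr => by
      obtain ⟨i, rfl⟩ := hp r hr
      positivity
  obtain ⟨j, hj⟩ := pow_of_ty (g := y) (hy ▸ hp)
  obtain ⟨s, s1, s2⟩ := exists_odd_comm (g := y) (r := 2) (by rw [hy]; simp) even_two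
  refine van_zero (index_alt (by omega)) h (mem_alt_of_ty ?_) s1 s2 hj ?_
  · rw [hy, hc, Nat.even_iff]
    simp only [Multiset.card_cons, Multiset.card_replicate]
    (clear * - h1 he; omega)
  · rw [ch_apply, hy, FM_none (by positivity), Int.cast_zero]
    intro a ha
    obtain ⟨b, hb, hb'⟩ := mirror hr he ha
    exact hb (ha.uniq hβ.injective hs (by omega) hb')

theorem nv_zero {k l : ℕ} (h1 : 2 ≤ l) (h2 : l < 2 ^ k) : nv (alternatingGroup (Fin (2 ^ k + l))) = 0 :=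
  have : IsEmpty {χ // Vn (alternatingGroup (Fin (2 ^ k + l))) χ} := ⟨fun χ => not_vn h1 h2 χ.1 χ.2⟩
  Nat.card_of_isEmpty

theorem nv_pow {k ε : ℕ} (hε : ε ≤ 1) (hn : n = 4 * 2 ^ k + ε) : nv (alternatingGroup (Fin n)) = 2 ^ k := by
  have hc := Fintype.card_fin n
  have h0 := Nat.two_pow_pos k
  have hp : ∀ r ∈ 2 * 2 ^ k ::ₘ 2 * 2 ^ k ::ₘ Multiset.replicate ε 1, ∃ i, r = 2 ^ i := fun r hr => by
    simp only [Multiset.mem_cons, Multiset.mem_replicate] at hr
    rcases hr with rfl | rfl | ⟨-, rfl⟩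
    exacts [⟨k + 1, (pow_succ' 2 k).symm⟩, ⟨k + 1, (pow_succ' 2 k).symm⟩, ⟨0, rfl⟩]
  obtain ⟨y, hy⟩ := exists_ty (α := Fin n) (s := 2 * 2 ^ k ::ₘ 2 * 2 ^ k ::ₘ Multiset.replicate ε 1)
    (by simp only [_root_.Multiset.sum_cons, _root_.Multiset.sum_replicate, _root_.smul_eq_mul, _root_.mul_one, _root_.Fintype.card_fin]; omega) fun r hr => by
      obtain ⟨i, rfl⟩ := hp r hr
      positivity
  obtain ⟨j, hj⟩ := pow_of_ty (g := y) (hy ▸ hp)
  obtain ⟨s, s1, s2⟩ := exists_odd_comm (g := y) (r := 2 * 2 ^ k) (by rw [hy]; simp) (even_two_mul _)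
  have hy' : y ∈ alternatingGroup (Fin n) := mem_alt_of_ty (by
    rw [hy, hc, Nat.even_iff]
    simp only [Multiset.card_cons, Multiset.card_replicate]
    omega)
  have hi := index_alt (n := n) (by omega)
  rw [← card_self (m := n) hε h0 hn.ge, ← hn]
  have hz : ∀ {β : Fin n → ℕ}, Sz β n → Sz β (Fintype.card (Fin n)) := fun h => hc.symm ▸ h
  have key : ∀ β : {β : Fin n → ℕ // (StrictMono β ∧ Sz β n) ∧ _root_.Cfsg.Agent.H615.AltRefl.IsRefl β β ∧ ∃ j, Hk β (2 * 2 ^ k) j},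
      Vn (alternatingGroup (Fin n)) (ch (Fin n) β.1) := by
    rintro ⟨β, ⟨k1, k2⟩, k3, a, ha⟩
    have k4 := vanish_of_refl (α := Fin n) k1 (hz k2) k3
    obtain ⟨z, hz', e⟩ := FM_two hε k3 (r := 2 * 2 ^ k) (by rwa [show 2 * 2 ^ k + 2 * 2 ^ k + ε = n by omega])
      (by omega) (by omega) ha
    exact ⟨isIrr_ch k1 (hz k2), k4, (van_iff hi (isIrr_ch k1 (hz k2)) k4 hy' s1 s2 hj (by rw [ch_apply, hy, e])).2 hz'⟩
  refine (Nat.card_eq_of_bijective (fun β => (⟨_, key β⟩ : {χ // Vn (alternatingGroup (Fin n)) χ}))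
    ⟨fun β γ h => ?_, fun χ => ?_⟩).symm
  · exact Subtype.ext (ch_inj β.2.1.1 γ.2.1.1 (hz β.2.1.2) (congrArg Subtype.val h))
  · obtain ⟨χ, h⟩ := χ
    obtain ⟨β, hβ, hs, rfl⟩ := irr_eq (m := n) hc.le h.1
    rw [hc] at hs
    refine ⟨⟨β, ⟨hβ, hs⟩, isRefl_of_vanish hβ hs le_rfl h.2.1, by_contra fun e => ?_⟩, rfl⟩
    refine van_zero hi h hy' s1 s2 hj ?_
    rw [ch_apply, hy, FM_none (by omega) _ fun a ha => e ⟨a, ha⟩, Int.cast_zero]

/-- **the general case** -/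
theorem ko_alt_gen {k l : ℕ} (h1 : 2 ≤ l) (h2 : l < 2 ^ k) :
    2 * ko (alternatingGroup (Fin (2 ^ k + l))) = ko (Perm (Fin (2 ^ k + l))) := by
  rw [idx2 (index_alt (by omega)), nv_zero h1 h2, mul_zero, add_zero]

/-- **the degrees `2 ^ k` and `2 ^ k + 1`** -/
theorem ko_alt_pow {k ε : ℕ} (hε : ε ≤ 1) (hn : n = 2 ^ (k + 2) + ε) : ko (alternatingGroup (Fin n)) = 2 ^ (k + 2) := by
  have h0 := Nat.two_pow_pos k
  have h3 : 2 ^ (k + 2) = 4 * 2 ^ k := by ring
  have h1 := idx2 (index_alt (n := n) (by omega))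
  have h2 : ko (Perm (Fin ε)) = 1 := by
    interval_cases ε
    · exact ko_zero (Fintype.card_fin 0)
    · exact ko_pow (k := 0) (Fintype.card_fin 1)
  rw [nv_pow (k := k) hε (by omega), ko_step (γ := Fin ε) (k := k + 2) (by rw [Fintype.card_fin]; omega)
    (by rw [Fintype.card_fin, Fintype.card_fin, hn]), h2] at h1
  omega

end Cfsg.Agent.MK.A
end

-- part: MK/Sp2/BGen
section
set_option linter.all false
open scoped Cfsg.Agent.FastGrp

/-!
# MK, `Sp_{2n}(2)`: induced sign characters (helper43)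

* `Sn H φ` : `φ` is a sign character of `H`;  `Cp H K φ β x` : compatible elements;
* `inner_cnt` : the scalar product of two induced sign characters is the number of compatible double cosets;
* `mf_sn` : Gelfand's trick;  `mf_add`, `eq_of_le` : multiplicities;  `mn_three` : means on a group of type `V . S₃`.
-/

set_option autoImplicit false
set_option maxHeartbeats 400000
set_option linter.unusedSectionVars false

open scoped ComplexConjugate

namespace Cfsg.Agent.MK.Sp2.B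

open Cfsg Cfsg.Agent.Characters Cfsg.Agent.Characters.Core
open Cfsg.Agent.OddOrderCharacters.Clifford (classInner_indFun)

variable {G : Type} [Group G] [Finite G] {H K : Subgroup G} {φ β : G → ℂ}

/-- a sign character -/
structure Sn (H : Subgroup G) (φ : G → ℂ) : Prop where
  mul : ∀ u ∈ H, ∀ v ∈ H, φ (u * v) = φ u * φ v
  sq : ∀ u ∈ H, φ u = 1 ∨ φ u = -1

namespace Sn

variable (s : Sn H φ)
include s

theorem self {u : G} (hu : u ∈ H) : φ u * φ u = 1 := by rcases s.sq u hu with h | h <;> simp [h]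

theorem star {u : G} (hu : u ∈ H) : conj (φ u) = φ u := by rcases s.sq u hu with h | h <;> simp [h]

theorem one : φ 1 = 1 := by rw [← s.self H.one_mem, ← s.mul _ H.one_mem _ H.one_mem, mul_one]

theorem inv {u : G} (hu : u ∈ H) : φ u⁻¹ = φ u := by
  have h1 := s.mul _ (H.inv_mem hu) _ hu
  rw [inv_mul_cancel, s.one] at h1
  rw [← mul_one (φ u⁻¹), ← s.self hu, ← mul_assoc, ← h1, one_mul]

theorem cl : Cl H φ := fun x hx y hy => by
  rw [s.mul _ (H.mul_mem hy hx) _ (H.inv_mem hy), s.mul _ hy _ hx, s.inv hy, mul_right_comm, s.self hy, one_mul]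

theorem times (s' : Sn H β) : Sn H fun x => φ x * β x :=
  ⟨fun u hu v hv => by rw [s.mul u hu v hv, s'.mul u hu v hv]; ring, fun u hu => by
    rcases s.sq u hu with h | h <;> rcases s'.sq u hu with h' | h' <;> simp [h, h']⟩

/-- the homomorphism -/
noncomputable def hom : H →* ℂˣ := MonoidHom.toHomUnits
  { toFun := fun u => φ u, map_one' := s.one, map_mul' := fun u v => s.mul u u.2 v v.2 }

theorem isChar [Fintype G] : IsCharacter G (ii H φ) := Brauer.isCharacter_indFun H (Linear.isCharacter_hom s.hom)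

end Sn

/-- compatible elements -/
def Cp (H K : Subgroup G) (φ β : G → ℂ) (x : G) : Prop := ∀ q ∈ H, x⁻¹ * q * x ∈ K → φ q = β (x⁻¹ * q * x)

theorem term_one (s' : Sn K β) {x : G} (h : Cp H K φ β x) :
    (mn (dd H K x) fun q => φ q * conj (β (x⁻¹ * q * x))) = 1 := by
  rw [← mn_const (dd H K x) 1]
  exact mn_congr fun q hq => by rw [h q (mem_dd.1 hq).1 (mem_dd.1 hq).2, s'.star (mem_dd.1 hq).2, s'.self (mem_dd.1 hq).2]

theorem term_zero (s : Sn H φ) (s' : Sn K β) {x : G} (h : ¬ Cp H K φ β x) :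
    (mn (dd H K x) fun q => φ q * conj (β (x⁻¹ * q * x))) = 0 := by
  simp only [Cp, not_forall] at h
  obtain ⟨a, h1, h2, h3⟩ := h
  refine mn_sign (a := a) (mem_dd.2 ⟨h1, h2⟩) fun q hq => ?_
  obtain ⟨h4, h5⟩ := mem_dd.1 hq
  rw [show x⁻¹ * (q * a) * x = (x⁻¹ * q * x) * (x⁻¹ * a * x) by group, s.mul _ h4 _ h1, s'.mul _ h5 _ h2, map_mul,
    s'.star h2]
  rcases s.sq a h1 with h6 | h6 <;> rcases s'.sq _ h2 with h7 | h7 <;> rw [h6, h7] at h3 ⊢
  · exact absurd rfl h3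
  · ring
  · ring
  · exact absurd rfl h3

variable [Fintype G]

theorem inner_cnt (s : Sn H φ) (s' : Sn K β) {ι : Type*} [Finite ι] (r : ι → G)
    (hdis : ∀ i j, ∀ a ∈ H, ∀ b ∈ K, r j = a * r i * b → i = j) (hcov : ∀ x, ∃ i, ∃ a ∈ H, ∃ b ∈ K, x = a * r i * b) :
    classInner (ii H φ) (ii K β) = Nat.card {i // Cp H K φ β (r i)} := by
  classical
  have := Fintype.ofFinite ι
  rw [inner_ii_ii s.cl s'.cl r hdis hcov, Nat.card_eq_fintype_card, Fintype.card_subtype, Finset.card_filter, Nat.cast_sum]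
  refine Finset.sum_congr rfl fun i _ => ?_
  split_ifs with h
  · rw [term_one s' h, Nat.cast_one]
  · rw [term_zero s s' h, Nat.cast_zero]

/-- **Gelfand's trick** -/
theorem mf_sn (s : Sn H φ) (h : ∀ g, ∃ a ∈ H, ∃ m, ∃ b ∈ H, g = a * m * b ∧ (Cp H H φ φ m → ∃ c ∈ H, m⁻¹ = c * m * c))
    {χ : G → ℂ} (hχ : IsIrrCharacter G χ) : classInner (ii H φ) χ = 0 ∨ classInner (ii H φ) χ = 1 := by
  have := Fintype.ofFinite H
  have h1 := H466.T3.Gelfand.mult_le_one H.subtype s.hom (fun g => g⁻¹) (Equiv.inv H) (fun x y => mul_inv_rev x y)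
    (fun _ => rfl) (fun a => Units.ext (s.inv a.2)) (fun g => by
      obtain ⟨a, ha, m, b, hb, rfl, h1⟩ := h g
      by_cases h2 : Cp H H φ φ m
      · obtain ⟨c, hc, h3⟩ := h1 h2
        have h4 : b⁻¹ * c * a⁻¹ ∈ H := H.mul_mem (H.mul_mem (H.inv_mem hb) hc) (H.inv_mem ha)
        refine Or.inl ⟨⟨_, h4⟩, ⟨_, h4⟩, ?_, Units.ext (s.self h4)⟩
        show (a * m * b)⁻¹ = (b⁻¹ * c * a⁻¹) * (a * m * b) * (b⁻¹ * c * a⁻¹)
        rw [mul_inv_rev, mul_inv_rev, h3]
        group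
      · simp only [Cp, not_forall] at h2
        obtain ⟨q, h3, h4, h5⟩ := h2
        refine Or.inr ⟨⟨a * q * a⁻¹, H.mul_mem (H.mul_mem ha h3) (H.inv_mem ha)⟩,
          ⟨b⁻¹ * (m⁻¹ * q * m) * b⁻¹⁻¹, H.mul_mem (H.mul_mem (H.inv_mem hb) h4) (H.inv_mem (H.inv_mem hb))⟩, ?_,
          fun e => h5 ?_⟩
        · show a * q * a⁻¹ * (a * m * b) = a * m * b * (b⁻¹ * (m⁻¹ * q * m) * b⁻¹⁻¹)
          group
        · rw [← s.cl q h3 a ha, ← s.cl _ h4 _ (H.inv_mem hb)]
          exact congrArg Units.val e) hχ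
  rw [ii, classInner_indFun _ _ _ (isIrr_isClassFunction hχ), ← classInner_conj_symm]
  rcases h1 with h1 | h1
  · exact Or.inl ((congrArg conj h1).trans (map_zero _))
  · exact Or.inr ((congrArg conj h1).trans (map_one _))

theorem mf_add {X X' : G → ℂ} (hX : IsClassFunction G X) (hX' : IsClassFunction G X')
    (h1 : ∀ χ, IsIrrCharacter G χ → classInner X χ = 0 ∨ classInner X χ = 1)
    (h2 : ∀ χ, IsIrrCharacter G χ → classInner X' χ = 0 ∨ classInner X' χ = 1) (h3 : classInner X X' = 0) (χ : G → ℂ)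
    (hχ : IsIrrCharacter G χ) : classInner (X + X') χ = 0 ∨ classInner (X + X') χ = 1 := by
  classical
  have : Finite (IrrCharacter G) := finite_irr
  have := Fintype.ofFinite (IrrCharacter G)
  have h4 : ∀ θ : IrrCharacter G, ∃ y : ℕ, classInner X θ * conj (classInner X' θ) = y := fun θ => by
    rcases h1 θ θ.2 with h5 | h5 <;> rcases h2 θ θ.2 with h6 | h6 <;> rw [h5, h6]
    exacts [⟨0, by simp⟩, ⟨0, by simp⟩, ⟨0, by simp⟩, ⟨1, by simp⟩]
  choose y hy using h4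
  rw [classInner_eq_sum hX hX', Finset.sum_congr rfl fun θ _ => hy θ] at h3
  have h5 : ∑ θ, y θ = 0 := by exact_mod_cast h3
  have h6 := hy ⟨χ, hχ⟩
  rw [Finset.sum_eq_zero_iff.1 h5 _ (Finset.mem_univ _)] at h6
  change classInner X χ * conj (classInner X' χ) = _ at h6
  rw [classInner_add_left]
  rcases h1 χ hχ with h7 | h7 <;> rcases h2 χ hχ with h8 | h8 <;> rw [h7, h8] at h6 ⊢ <;> simp at h6 ⊢

theorem eq_of_le {Γ X : G → ℂ} (hΓ : IsCharacter G Γ) (hX : IsClassFunction G X)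
    (h2 : ∀ χ, IsIrrCharacter G χ → classInner X χ = 0 ∨ classInner X χ = 1) {N N' : ℕ} (h3 : classInner Γ Γ = N)
    (h4 : classInner X Γ = N') (h5 : N ≤ N') : classInner Γ X = classInner Γ Γ := by
  classical
  have : Finite (IrrCharacter G) := finite_irr
  have := Fintype.ofFinite (IrrCharacter G)
  choose a ha using fun θ : IrrCharacter G => classInner_isNat hΓ (isIrr_isCharacter θ.2)
  have hy : ∀ θ : IrrCharacter G, ∃ y : ℕ, y ≤ 1 ∧ classInner X θ = y := fun θ => by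
    rcases h2 θ θ.2 with h4 | h4
    · exact ⟨0, zero_le_one, by simp [h4]⟩
    · exact ⟨1, le_rfl, by simp [h4]⟩
  choose y hy1 hy using hy
  have hc := isCharacter_isClassFunction hΓ
  rw [← classInner_conj_symm, h4, h3, map_natCast]
  rw [classInner_eq_sum hX hc] at h4
  rw [classInner_eq_sum hc hc] at h3
  simp only [ha, hy, map_natCast] at h3 h4
  have h6 : ∑ θ, a θ * a θ = N := by exact_mod_cast h3
  have h7 : ∑ θ, y θ * a θ = N' := by exact_mod_cast h4
  have h8 : ∑ θ, y θ * a θ ≤ ∑ θ, a θ * a θ := Finset.sum_le_sum fun θ _ => by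
    have := hy1 θ
    rcases Nat.eq_zero_or_pos (a θ) with h | h
    · simp [h]
    · exact Nat.mul_le_mul_right _ (by omega)
  rw [show N' = N by omega]

omit [Fintype G]

theorem mn_pair {A : Subgroup G} {t : G} (ht : t ≠ 1) (hA : ∀ x, x ∈ A ↔ x = 1 ∨ x = t) (F : G → ℂ) :
    mn A F = (F 1 + F t) / 2 := by
  classical
  have := Fintype.ofFinite A
  have h1 : (Finset.univ : Finset A) = {1, ⟨t, (hA t).2 (Or.inr rfl)⟩} := by
    ext x
    simp only [Finset.mem_univ, Finset.mem_insert, Finset.mem_singleton, true_iff, Subtype.ext_iff]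
    exact (hA x).1 x.2
  have h2 : (1 : A) ≠ ⟨t, (hA t).2 (Or.inr rfl)⟩ := fun e => ht (congrArg Subtype.val e).symm
  rw [mn_eq, Nat.card_eq_fintype_card, Fintype.card, h1, Finset.card_pair h2, Finset.sum_pair h2]
  simp only [OneMemClass.coe_one, Nat.cast_ofNat]
  ring

/-- a class function of `P = U ∪ U s U` which vanishes on the even part -/
theorem mn_three {P U V A : Subgroup G} {s t g : G} {F : G → ℂ} (hF : Cl P F) (hU : U ≤ P) (hV : V ≤ U) (hA : A ≤ U)
    (ht : t ≠ 1) (hA' : ∀ x, x ∈ A ↔ x = 1 ∨ x = t) (hAV : ∀ x ∈ U, ∃ a ∈ A, ∃ v ∈ V, x = a * v) (hs : s ∈ P)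
    (hP : ∀ x ∈ P, x ∈ U ∨ ∃ u ∈ U, ∃ u' ∈ U, x = u * s * u') (hN : P ≤ Subgroup.normalizer (V : Set G)) (hg : g ∈ P)
    (hst : s = g⁻¹ * t * g) (h1 : ∀ v ∈ V, F v = 0) (h2 : ∀ v ∈ V, F (s * t * v) = 0) : mn P F = mn U F := by
  have h3 : ∀ x, (mn U fun u => F (x * u)) = (av V F x + av V F (x * t)) / 2 := fun x => by
    rw [mn_prod hA hV hAV, mn_pair ht hA']
    simp only [av, one_mul, mul_assoc]
  have h4 : av V F s = av V F t := by
    unfold av
    rw [← mn_cj (H := V) (K := V) (g := g) fun v => by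
      have := Subgroup.mem_normalizer_iff.1 (hN (P.inv_mem hg)) v
      rwa [inv_inv] at this]
    refine mn_congr fun v hv => ?_
    rw [← hF (t * v) (P.mul_mem (hU (hA ((hA' t).2 (Or.inr rfl)))) (hU (hV hv))) _ (P.inv_mem hg), hst]
    congr 1
    group
  have h5 : (mn U fun u => F (s * u)) = mn U F := by
    have h6 := h3 1
    simp only [one_mul] at h6
    rw [h3, h6, h4, show av V F (s * t) = 0 from mn_zero h2, show av V F 1 = 0 from mn_zero fun v hv => by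
      rw [one_mul, h1 v hv], add_comm]
  rw [mn_sub hU, ← mn_const P (mn U F)]
  refine mn_congr fun x hx => ?_
  rcases hP x hx with h6 | ⟨u, hu, u', hu', rfl⟩
  · exact mn_left h6 F
  · rw [← h5, ← mn_right hu fun y => F (s * y), ← mn_left hu' fun y => F (s * (y * u))]
    refine mn_congr fun y hy => ?_
    rw [← hF _ (P.mul_mem hs (hU (U.mul_mem (U.mul_mem hu' hy) hu))) u (hU hu)]
    congr 1
    group

end Cfsg.Agent.MK.Sp2.B

private theorem dce_1f004340edf1 : _root_.True := by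
  try have : _root_.True := by simp only [_root_.Cfsg.Agent.MK.Sp2.B.Cp.eq_1]
  exact _root_.True.intro
end

-- part: MK/Sp2/BRgd
section
set_option linter.all false
open scoped Cfsg.Agent.FastGrp

/-!
# MK, `Sp_{2n}(2)`: root group data with trivial torus (helper43)

* `nw R w` : the representative of `w`;  `cov`, `dis` : Bruhat decomposition;  `covP`, `disP`, `mem_U_of_P` : the double
  cosets of `P_i` and `U`;
* `sn_of_sg`, `sg_times`, `sg_prod` : sign characters of `U`;  `cp_iff` : compatibility in terms of roots;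
* `mn_P` : means on `P_i`.
-/

set_option autoImplicit false
set_option maxHeartbeats 400000
set_option linter.unusedSectionVars false

open scoped ComplexConjugate

namespace Cfsg.Agent.MK.Sp2.B

open CoxeterSystem Cfsg Cfsg.Agent.ChevalleyStructure.CoxeterGeom Cfsg.Agent.Tits.Roots Cfsg.Agent.Tits.Core
  Cfsg.Agent.Nodes.Reps Cfsg.Agent.Nodes.BNOf Cfsg.Agent.Nodes.StabComb Cfsg.Agent.Nodes.Bruhat Cfsg.Agent.Nodes.LeviDec

variable {I W Y : Type} [Fintype I] [DecidableEq I] [Group W] [Finite W] [Group Y] [Finite Y] {M : CoxeterMatrix I}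
  {cs : CoxeterSystem M W} {A : I → I → ℤ} {h : IsCartan M A} {n : I → Y} {X : (I → ℤ) → Subgroup Y}
  {S S' S'' : Set (I → ℤ)} {l l' : Y → ℂ}

theorem sup_ind {S : Set (I → ℤ)} {C : Y → Prop} {g : Y} (hg : g ∈ RGD.Sup X S) (h1 : ∀ x ∈ S, ∀ u ∈ X x, C u) (h2 : C 1)
    (h3 : ∀ u v, C u → C v → C (u * v)) : C g :=
  Subgroup.iSup_induction _ (C := C) hg (fun z u hu => h1 z.1 z.2 u hu) h2 h3

theorem X_le_UU {x : I → ℤ} (hx : IsRoot cs h x) (h0 : 0 ≤ x) : X x ≤ UU cs h X := RGD.le_Sup (S := RGD.Pos cs h) ⟨hx, h0⟩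

theorem sg_val (s : Sg cs h X S l) {x : I → ℤ} (hx : x ∈ RGD.Pos cs h) {u : Y} (hu : u ∈ X x) : l u = 1 ∨ l u = -1 := by
  by_cases h1 : x ∈ S
  · by_cases h2 : u = 1
    · exact Or.inl (h2 ▸ s.one)
    · exact Or.inr (s.neg x hx h1 u hu h2)
  · exact Or.inl (s.pos x hx h1 u hu)

theorem sn_of_sg (s : Sg cs h X S l) : Sn (UU cs h X) l := ⟨s.mul, fun u hu =>
  (sup_ind (C := fun u => u ∈ UU cs h X ∧ (l u = 1 ∨ l u = -1)) hu
    (fun x hx u hu => ⟨X_le_UU hx.1 hx.2 hu, sg_val s hx hu⟩) ⟨one_mem _, Or.inl s.one⟩ fun u v hu hv =>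
      ⟨mul_mem hu.1 hv.1, by
        rw [s.mul u hu.1 v hv.1]
        rcases hu.2 with h1 | h1 <;> rcases hv.2 with h2 | h2 <;> simp [h1, h2]⟩).2⟩

theorem sg_times (s : Sg cs h X S l) (s' : Sg cs h X S' l')
    (hS : ∀ x ∈ RGD.Pos cs h, (x ∈ S'' ↔ x ∈ S ∨ x ∈ S') ∧ ¬ (x ∈ S ∧ x ∈ S')) : Sg cs h X S'' fun u => l u * l' u where
  one := by rw [s.one, s'.one, mul_one]
  mul u hu v hv := by rw [s.mul u hu v hv, s'.mul u hu v hv]; ring
  neg x hx h1 u hu h2 := by
    rcases (hS x hx).1.1 h1 with h3 | h3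
    · rw [s.neg x hx h3 u hu h2, s'.pos x hx (fun h4 => (hS x hx).2 ⟨h3, h4⟩) u hu, mul_one]
    · rw [s'.neg x hx h3 u hu h2, s.pos x hx (fun h4 => (hS x hx).2 ⟨h4, h3⟩) u hu, one_mul]
  pos x hx h1 u hu := by
    rw [s.pos x hx (fun h2 => h1 ((hS x hx).1.2 (Or.inl h2))) u hu,
      s'.pos x hx (fun h2 => h1 ((hS x hx).1.2 (Or.inr h2))) u hu, mul_one]

theorem sr_inj' {i j : I} (e : (sr i : I → ℤ) = sr j) : i = j := by
  by_contra h1
  have := congrFun e i
  simp [sr, h1] at this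

theorem sg_prod {ψ : I → Y → ℂ} (s : ∀ i, Sg cs h X {sr i} (ψ i)) (J : Finset I)
    (hS : ∀ x ∈ RGD.Pos cs h, x ∈ S ↔ ∃ i ∈ J, x = sr i) : Sg cs h X S fun u => ∏ i ∈ J, ψ i u where
  one := Finset.prod_eq_one fun i _ => (s i).one
  mul u hu v hv := by rw [← Finset.prod_mul_distrib]; exact Finset.prod_congr rfl fun i _ => (s i).mul u hu v hv
  neg x hx h1 u hu h2 := by
    obtain ⟨i, hi, rfl⟩ := (hS x hx).1 h1
    rw [Finset.prod_eq_single_of_mem i hi fun j _ hj => (s j).pos _ hx (fun e => hj (sr_inj' e).symm) u hu]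
    exact (s i).neg _ hx rfl u hu h2
  pos x hx h1 u hu := Finset.prod_eq_one fun i hi => (s i).pos x hx (fun e => h1 ((hS x hx).2 ⟨i, hi, e⟩)) u hu

variable (R : RGD cs h 2 ⊥ n X)

/-- the representative -/
noncomputable def nw (w : W) : Y := (exists_rp cs R.nsys w).choose

theorem rp_nw (w : W) : Rp cs R.nsys w (nw R w) := (exists_rp cs R.nsys w).choose_spec

theorem eq_nw {w : W} {g : Y} (hg : Rp cs R.nsys w g) : g = nw R w :=
  inv_mul_eq_one.1 (Subgroup.mem_bot.1 (hg.unique (rp_nw R w)))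

theorem nw_mul (v w : W) : nw R (v * w) = nw R v * nw R w := (eq_nw R ((rp_nw R v).mul (rp_nw R w))).symm

theorem nw_inv (w : W) : nw R w⁻¹ = (nw R w)⁻¹ := (eq_nw R (rp_nw R w).inv).symm

theorem nw_simple (i : I) : nw R (cs.simple i) = n i := (eq_nw R (rp_simple cs R.nsys i)).symm

theorem nw_one : nw R 1 = 1 := (eq_nw R rp_one).symm

theorem mem_B_iff {g : Y} : g ∈ RGD.B cs h ⊥ X ↔ g ∈ UU cs h X := by rw [RGD.B, bot_sup_eq]

theorem cell_iff {w : W} {g : Y} : Cell R.nsys cs h X w g ↔ ∃ a ∈ UU cs h X, ∃ b ∈ UU cs h X, g = a * nw R w * b :=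
  ⟨fun ⟨a, ha, _, hk, b, hb, e⟩ => ⟨a, mem_B_iff.1 ha, b, mem_B_iff.1 hb, eq_nw R hk ▸ e⟩,
    fun ⟨a, ha, b, hb, e⟩ => ⟨a, mem_B_iff.2 ha, _, rp_nw R w, b, mem_B_iff.2 hb, e⟩⟩

theorem cov (hG : GG cs h ⊥ X = ⊤) (g : Y) : ∃ w, ∃ a ∈ UU cs h X, ∃ b ∈ UU cs h X, g = a * nw R w * b := by
  obtain ⟨w, hw⟩ := (mem_GG R (g := g)).1 (hG ▸ Subgroup.mem_top g)
  exact ⟨w, (cell_iff R).1 hw⟩

theorem dis (v w : W) (a : Y) (ha : a ∈ UU cs h X) (b : Y) (hb : b ∈ UU cs h X) (e : nw R w = a * nw R v * b) : v = w :=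
  Cell.unique R ((cell_iff R).2 ⟨a, ha, b, hb, e⟩) (cell_of_rp (rp_nw R w))

theorem U_le_P (J : Set I) : UU cs h X ≤ PJ cs h ⊥ X J := fun _ hg => B_le_PJ (mem_B_iff.2 hg)

include R

theorem n_mem_P (i : I) : n i ∈ PJ cs h ⊥ X {i} := LJ_le_PJ (n_mem_LJ R rfl)

theorem n_sq (i : I) : n i * n i = 1 := Subgroup.mem_bot.1 (R.sq_mem_T i)

theorem mem_P {i : I} {g : Y} (hg : g ∈ PJ cs h ⊥ X {i}) :
    g ∈ UU cs h X ∨ ∃ a ∈ UU cs h X, ∃ b ∈ UU cs h X, g = a * n i * b := by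
  obtain ⟨w, h1, h2⟩ := (mem_PJ_iff_cell R).1 hg
  rcases KFacts.RgdDiag.mem_WJ_singleton h1 with rfl | rfl
  · exact Or.inl (mem_B_iff.1 h2.mem_of_one)
  · exact Or.inr (nw_simple R i ▸ (cell_iff R).1 h2)

omit R in
theorem neg_act (i : I) (w : W) : rep cs h (cs.simple i * w)⁻¹ (sr i) = -rep cs h w⁻¹ (sr i) := by
  rw [mul_inv_rev, inv_simple, rep_mul_apply, rep_simple_sr, map_neg]

theorem covP (hG : GG cs h ⊥ X = ⊤) (i : I) (g : Y) : ∃ w : {w : W // 0 ≤ rep cs h w⁻¹ (sr i)}, ∃ a ∈ PJ cs h ⊥ X {i},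
    ∃ b ∈ UU cs h X, g = a * nw R w * b := by
  obtain ⟨w, a, ha, b, hb, rfl⟩ := cov R hG g
  rcases ((isRoot_sr cs h i).act w⁻¹).pos_or_neg with h1 | h1
  · exact ⟨⟨w, h1⟩, a, U_le_P _ ha, b, hb, rfl⟩
  · refine ⟨⟨cs.simple i * w, by rwa [neg_act, neg_nonneg]⟩, a * n i, mul_mem (U_le_P _ ha) (n_mem_P R i), b, hb, ?_⟩
    rw [nw_mul, nw_simple, mul_assoc a (n i), ← mul_assoc (n i), n_sq R, one_mul]

theorem cell_P {i : I} {w : W} (hw : 0 ≤ rep cs h w⁻¹ (sr i)) {a : Y} (ha : a ∈ PJ cs h ⊥ X {i}) (ha' : a ∉ UU cs h X) :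
    Cell R.nsys cs h X (cs.simple i * w) (a * nw R w) := by
  rcases mem_P R ha with h1 | h1
  · exact absurd h1 ha'
  rcases Cell.simple_mul R ((cell_iff R).2 (nw_simple R i ▸ h1)) (cell_of_rp (rp_nw R w)) with h2 | ⟨h2, -⟩
  · exact h2
  · refine absurd (nonpos_of_lt cs h w⁻¹ i ?_) (((isRoot_sr cs h i).act w⁻¹).not_pos_neg hw)
    rwa [← cs.length_inv, mul_inv_rev, inv_inv, inv_simple, cs.length_inv]

theorem disP (i : I) (v w : {w : W // 0 ≤ rep cs h w⁻¹ (sr i)}) (a : Y) (ha : a ∈ PJ cs h ⊥ X {i}) (b : Y)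
    (hb : b ∈ UU cs h X) (e : nw R w = a * nw R v * b) : v = w := by
  by_cases h1 : a ∈ UU cs h X
  · exact Subtype.ext (dis R _ _ a h1 b hb e)
  have h2 := Cell.unique R ((cell_P R v.2 ha h1).mul_right (mem_B_iff.2 hb)) (e ▸ cell_of_rp (rp_nw R w))
  have h3 := w.2
  rw [← h2, neg_act, neg_nonneg] at h3
  exact absurd h3 (((isRoot_sr cs h i).act _).not_pos_neg v.2)

theorem mem_U_of_P {i : I} {w : W} (hw : 0 ≤ rep cs h w⁻¹ (sr i)) {q : Y} (hq : q ∈ PJ cs h ⊥ X {i})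
    (hq' : (nw R w)⁻¹ * q * nw R w ∈ UU cs h X) : q ∈ UU cs h X := by
  by_contra h1
  have h2 := Cell.unique R (cell_P R hw hq h1) ((cell_iff R).2 ⟨1, one_mem _, _, hq', by group⟩ : Cell _ cs h X w _)
  exact KFacts.RgdDiag.simple_ne_one i (mul_eq_right.1 h2)

theorem cp_iff (s : Sg cs h X S l) (s' : Sg cs h X S' l') (w : W) : Cp (UU cs h X) (UU cs h X) l l' (nw R w) ↔
    ∀ x, IsRoot cs h x → 0 ≤ x → 0 ≤ rep cs h w⁻¹ x → (x ∈ S ↔ rep cs h w⁻¹ x ∈ S') := by
  have h0 : ∀ {u : Y}, u ≠ 1 → (nw R w)⁻¹ * u * nw R w ≠ 1 := fun {u} hu e => hu (by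
    rwa [mul_assoc, inv_mul_eq_one, eq_comm, mul_eq_right] at e)
  constructor
  · intro c x hx h1 h2
    obtain ⟨⟨u, hu⟩, h3⟩ := Subgroup.ne_bot_iff_exists_ne_one.1 (X_ne_bot R hx)
    have h4 : u ≠ 1 := fun e => h3 (Subtype.ext e)
    have h5 := R.conj_mem' (rp_nw R w) hx hu
    have h6 := c u (X_le_UU hx h1 hu) (X_le_UU (hx.act _) h2 h5)
    constructor
    · intro h7
      by_contra h8
      rw [s.neg x ⟨hx, h1⟩ h7 u hu h4, s'.pos _ ⟨hx.act _, h2⟩ h8 _ h5] at h6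
      norm_num at h6
    · intro h7
      by_contra h8
      rw [s.pos x ⟨hx, h1⟩ h8 u hu, s'.neg _ ⟨hx.act _, h2⟩ h7 _ h5 (h0 h4)] at h6
      norm_num at h6
  · intro c q hq hq'
    refine (sup_ind (C := fun u => u ∈ UU cs h X ∧ (nw R w)⁻¹ * u * nw R w ∈ UU cs h X ∧
      l u = l' ((nw R w)⁻¹ * u * nw R w)) (Nodes.Slope.mem_of_conj_mem_B R (rp_nw R w) hq (mem_B_iff.2 hq'))
      (fun x ⟨hx, h1, h2⟩ u hu => ?_) ⟨one_mem _, by simp, by simp [s.one, s'.one]⟩ fun u v hu hv => ?_).2.2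
    · have h5 := R.conj_mem' (rp_nw R w) hx hu
      refine ⟨X_le_UU hx h1 hu, X_le_UU (hx.act _) h2 h5, ?_⟩
      by_cases h3 : u = 1
      · simp [h3, s.one, s'.one]
      by_cases h4 : x ∈ S
      · rw [s.neg x ⟨hx, h1⟩ h4 u hu h3, s'.neg _ ⟨hx.act _, h2⟩ ((c x hx h1 h2).1 h4) _ h5 (h0 h3)]
      · rw [s.pos x ⟨hx, h1⟩ h4 u hu, s'.pos _ ⟨hx.act _, h2⟩ (mt (c x hx h1 h2).2 h4) _ h5]
    · rw [show (nw R w)⁻¹ * (u * v) * nw R w = ((nw R w)⁻¹ * u * nw R w) * ((nw R w)⁻¹ * v * nw R w) by group]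
      exact ⟨mul_mem hu.1 hv.1, mul_mem hu.2.1 hv.2.1, by rw [s.mul _ hu.1 _ hv.1, s'.mul _ hu.2.1 _ hv.2.1, hu.2.2, hv.2.2]⟩

theorem n_not_mem (i : I) : n i ∉ UU cs h X := fun hn =>
  KFacts.RgdDiag.simple_ne_one i (R.eq_one_of_mem_B (rp_simple cs R.nsys i) (mem_B_iff.2 hn))

/-- the root group of order two and the braid relation -/
theorem exists_t {i : I} (s : Sg cs h X {sr i} l) :
    ∃ t, t ≠ 1 ∧ (∀ x, x ∈ X (sr i) ↔ x = 1 ∨ x = t) ∧ n i = (n i * t)⁻¹ * t * (n i * t) := by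
  have hr := isRoot_sr cs h i
  have hp : sr i ∈ RGD.Pos cs h := ⟨hr, sr_nonneg i⟩
  obtain ⟨t, ht, h1⟩ := exists_ne_one R i
  have h2 : ∀ x ∈ X (sr i), x ≠ 1 → x * t = 1 := fun x hx h3 => by
    by_contra h4
    have h5 := s.neg _ hp rfl _ (mul_mem hx ht) h4
    rw [s.mul _ (X_le_UU hr hp.2 hx) _ (X_le_UU hr hp.2 ht), s.neg _ hp rfl _ hx h3, s.neg _ hp rfl _ ht h1] at h5
    norm_num at h5
  have h3 := h2 t ht h1
  have h4 : ∀ x, x ∈ X (sr i) ↔ x = 1 ∨ x = t := fun x => ⟨fun hx => by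
    by_cases h5 : x = 1
    · exact Or.inl h5
    · exact Or.inr (mul_right_cancel ((h2 x hx h5).trans h3.symm)), by rintro (rfl | rfl); exacts [one_mem _, ht]⟩
  refine ⟨t, h1, h4, ?_⟩
  have h5 := R.conj_mem (rp_simple cs R.nsys i) hr ht
  rw [rep_simple_sr] at h5
  obtain ⟨a, ha, z, hz, b, hb, e⟩ := R.rk1 i _ h5 fun e => h1 (by rwa [mul_inv_eq_one, mul_eq_left] at e)
  obtain rfl := Subgroup.mem_bot.1 hz
  have h6 := n_sq R i
  have h7 := n_not_mem R i
  have h8 : t ∈ UU cs h X := X_le_UU hr hp.2 ht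
  rw [mul_one, inv_eq_of_mul_eq_one_right h6] at e
  rcases (h4 a).1 ha with rfl | rfl <;> rcases (h4 b).1 hb with rfl | rfl
  · rw [one_mul, mul_one, mul_assoc, mul_eq_left] at e
    exact absurd (by rw [← inv_eq_of_mul_eq_one_right e]; exact inv_mem h8) h7
  · rw [one_mul, mul_eq_left] at e
    exact absurd (e ▸ one_mem _) h7
  · rw [mul_one, mul_left_inj, mul_eq_right] at e
    exact absurd (e ▸ one_mem _) h7
  · rw [mul_inv_rev, inv_eq_of_mul_eq_one_right h6, inv_eq_of_mul_eq_one_right h3]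
    calc n i = b * (b * n i * b) * b := by rw [← mul_assoc, ← mul_assoc, h3, one_mul, mul_assoc, h3, mul_one]
      _ = b * (n i * b * n i) * b := by rw [e]
      _ = _ := by group

/-- the means on `P_i` of the functions which vanish on the even part -/
theorem mn_P {i : I} (s : Sg cs h X {sr i} l) {σ F : Y → ℂ} (s' : Sn (PJ cs h ⊥ X {i}) σ) (hσ : ∀ u ∈ UU cs h X, σ u = l u)
    (hF : Cl (PJ cs h ⊥ X {i}) F) (h0 : ∀ x ∈ PJ cs h ⊥ X {i}, σ x = 1 → F x = 0) :
    mn (PJ cs h ⊥ X {i}) F = mn (UU cs h X) F := by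
  obtain ⟨t, h1, h2, h3⟩ := exists_t R s
  have h4 : X (sr i) ≤ UU cs h X := X_le_UU (isRoot_sr cs h i) (sr_nonneg i)
  have h5 : t ∈ PJ cs h ⊥ X {i} := U_le_P _ (h4 ((h2 t).2 (Or.inr rfl)))
  have h6 := n_mem_P R i
  have h7 : ∀ v ∈ VJ cs h X {i}, σ v = 1 := fun v hv => by
    rw [hσ v (VJ_le_U _ hv)]
    refine (sup_ind (C := fun u => u ∈ UU cs h X ∧ l u = 1) hv (fun x hx u hu => ⟨X_le_UU hx.1 hx.2.1 hu,
      s.pos x ⟨hx.1, hx.2.1⟩ (fun e => ?_) u hu⟩) ⟨one_mem _, s.one⟩ fun u v hu hv =>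
        ⟨mul_mem hu.1 hv.1, by rw [s.mul _ hu.1 _ hv.1, hu.2, hv.2, mul_one]⟩).2
    obtain ⟨-, -, j, h8, h9⟩ := hx
    obtain rfl : x = sr i := e
    rw [sr, Pi.single_eq_of_ne h8] at h9
    exact lt_irrefl _ h9
  refine mn_three hF (U_le_P _) (VJ_le_U {i}) h4 h1 h2 (fun x hx => ?_) h6 (fun x => mem_P R) (PJ_le_normalizer_VJ R _)
    (mul_mem h6 h5) h3 (fun v hv => h0 v (VJ_le_PJ hv) (h7 v hv)) fun v hv =>
      h0 _ (mul_mem (mul_mem h6 h5) (VJ_le_PJ hv)) ?_
  · rw [← KFacts.RgdDiag.UJ_singleton (cs := cs) (h := h) (X := X)]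
    exact (mem_U_iff R).1 hx
  · have h8 := s'.cl t h5 _ (inv_mem (mul_mem h6 h5))
    rw [inv_inv, ← h3] at h8
    rw [s'.mul _ (mul_mem h6 h5) _ (VJ_le_PJ hv), h7 v hv, mul_one, s'.mul _ h6 _ h5, h8, s'.self h5]

end Cfsg.Agent.MK.Sp2.B

private theorem dce_4a3bc15f680b : _root_.True := by
  try have : _root_.True := by simp only [_root_.Cfsg.Agent.MK.Sp2.UU.congr_simp]
  try have : _root_.True := by simp only [_root_.Cfsg.Agent.MK.Sp2.B.nw.congr_simp]
  try have : _root_.True := by simp only [_root_.Cfsg.Agent.Nodes.BNOf.RGD.B.eq_1]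
  exact _root_.True.intro
end

-- part: MK/S2/Cov2
section
prune_inst 0x30207d0474a20000000000000000646467000192002b880018200e400f8f7341094027007e800d0208c482c000318068135c0070421000002a00020000000401102816040140b008400001003887180000000000000000000000000000041000200000000
set_option linter.all false
open scoped Cfsg.Agent.FastGrp

/-!
# MK, triple covers: the last test (helper83)

A row of full norm comes from a character which vanishes over the elements of order divisible by three; then the square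
of the row is a generalized character of the quotient.
-/

set_option autoImplicit false
set_option maxHeartbeats 400000

namespace Cfsg.Agent.MK.S2

open Cfsg Subgroup Cfsg.Agent.TAB.Eng Cfsg.Agent.TAB.Use Cfsg.Agent.TAB.ON Cfsg.Agent.Characters
open Cfsg.Agent.Characters.Core Cfsg.Agent.H86.TI Cfsg.Agent.H407.TI
open scoped ComplexConjugate

variable {X G : Type} [Group X] [Group G] {φ : X →* G} {D : Dat}

theorem sq_virt [Finite X] (h : Ext (center X) φ) {T : TD G D} (hm : T.Mass) {m : center X →* ℂˣ} {χ : X → ℂ}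
    (hχ : IsIrrCharacter X χ) (ho : Over (center X) m χ) {x : ℕ → ℤ} (hx0 : ∀ t, 3 ∣ D.ord t → x t = 0)
    (hx : ∀ y : X, ¬ 3 ∣ orderOf y → χ y = x (T.ty (φ y)))
    (hn : ∑ t ∈ Finset.range D.n, (D.cnt t : ℤ) * x t ^ 2 = D.N) : Virt T fun t => x t ^ 2 := by
  classical
  have : Finite G := Finite.of_surjective φ h.surj
  have := Fintype.ofFinite X
  have := Fintype.ofFinite G
  have h8 : ∀ y : X, (x (T.ty (φ y)) : ℝ) ^ 2 ≤ Complex.normSq (χ y) := fun y => by
    by_cases h9 : 3 ∣ orderOf (φ y)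
    · rw [hx0 _ (T.ord _ ▸ h9), Int.cast_zero, zero_pow two_ne_zero]
      exact Complex.normSq_nonneg _
    · obtain ⟨y', h10, h11⟩ := h.exists_lift _ h9 (pow_orderOf_eq_one (φ y))
      have h12 : y * y'⁻¹ ∈ center X := h.mem_iff.2 (by rw [map_mul, map_inv, h10, mul_inv_cancel])
      have h13 := ho ⟨_, h12⟩ y'
      have h7 : ((m ⟨_, h12⟩ : ℂˣ) : ℂ) ^ 3 = 1 := by
        rw [← Units.val_pow_eq_pow_val, ← map_pow, show (⟨_, h12⟩ : center X) ^ 3 = 1 from Subtype.ext (h.cube h12),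
          map_one, Units.val_one]
      have h14 := congrArg Complex.normSq h7
      rw [map_pow, map_one, pow_eq_one_iff_of_nonneg (Complex.normSq_nonneg _) (by norm_num)] at h14
      rw [show ((⟨_, h12⟩ : center X) : X) * y' = y from inv_mul_cancel_right _ _,
        hx y' fun e => h9 (e.trans (orderOf_dvd_of_pow_eq_one h11)), h10] at h13
      rw [h13, map_mul, h14, one_mul, Complex.normSq_intCast, pow_two]
  have hc := isIrr_isCharacter hχ
  have h9 := classInner_irr_self hχ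
  rw [classInner_def, inv_mul_eq_one₀ card_ne_zero_complex] at h9
  simp only [Complex.mul_conj] at h9
  have h10 : ∑ y, Complex.normSq (χ y) = Nat.card X := by exact_mod_cast h9.symm
  have h12 := H829.GowDesc.sum_comp_surj φ h.surj fun g => ((x (T.ty g) : ℂ)) ^ 2
  rw [sum_mass hm fun t => ((x t : ℂ)) ^ 2, h.ker, h.card] at h12
  simp only [nsmul_eq_mul] at h12
  have h13 : ∑ y, x (T.ty (φ y)) ^ 2 = 3 * ∑ t ∈ Finset.range D.n, (D.cnt t : ℤ) * x t ^ 2 := by exact_mod_cast h12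
  have h14 : ∑ y, (x (T.ty (φ y)) : ℝ) ^ 2 = ∑ y, Complex.normSq (χ y) := by
    rw [h10, h.card_E, hm.1]
    rw [hn] at h13
    exact_mod_cast h13
  have h15 := (Finset.sum_eq_sum_iff_of_le fun y (_ : y ∈ Finset.univ) => h8 y).1 h14
  refine H55.PQ.gen_descend φ h.surj (Brauer.isGeneralizedCharacter_mul (Brauer.isGeneralizedCharacter_of_isCharacter hc)
    (Brauer.isGeneralizedCharacter_of_isCharacter (isCharacter_conj hc))) fun y => ?_
  rw [Pi.mul_apply, Complex.mul_conj, ← h15 y (Finset.mem_univ y)]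
  norm_cast

theorem dvd_of_virt [Finite G] {T : TD G D} (hm : T.Mass) {f g : ℕ → ℤ} (hf : Virt T f) (hg : Virt T g) :
    (D.N : ℤ) ∣ ∑ t ∈ Finset.range D.n, D.cnt t * (f t * g t) := by
  have := Fintype.ofFinite G
  have := finite_irr (G := G)
  have := Fintype.ofFinite (IrrCharacter G)
  have h15 := H447.CTab.inner_sum_mu hf hg
  rw [classInner_def, hm.1, inv_mul_eq_iff_eq_mul₀ (hm.1 ▸ card_ne_zero_complex), Finset.sum_congr rfl
    (g := fun y => ((f (T.ty y) * g (T.ty y) : ℤ) : ℂ)) fun y _ => by rw [map_intCast, Int.cast_mul],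
    sum_mass hm fun t => ((f t * g t : ℤ) : ℂ)] at h15
  simp only [nsmul_eq_mul] at h15
  exact ⟨_, by exact_mod_cast h15⟩

/-- **the count from the rows**, with the last test -/
theorem kk_of_row2 [Finite X] (hφ : Function.Surjective φ) (hk : φ.ker = center X) (h3 : Nat.card (center X) = 3)
    (hp : _root_.commutator X = ⊤) {T : TD G D} (hm : T.Mass) (hr : Rat T) (hI : Inh T) {u a c : ℕ} (h1 : One T u)
    (ha : D.ord u = 2 ^ (a + 1)) (hc : D.cnt u * c = D.N) (h8 : c ≤ 8)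
    (hno : ∀ x, RowOK T x → (∑ t ∈ Finset.range D.n, (D.cnt t : ℤ) * x t ^ 2 = D.N → Virt T fun t => x t ^ 2) →
      x u ≠ 2 ∧ x u ≠ -2) {l : X → ℂ} {m : center X →* ℂˣ} (hl : Fa (center X) l)
    (hlm : ∀ z : center X, l z = m z) : kk ⊤ (center X) l = c := by
  have : Finite G := Finite.of_surjective φ hφ
  have h : Ext (center X) φ := ⟨hφ, hk, le_rfl, h3⟩
  obtain ⟨g, hg, -⟩ := id h1
  have h2 : ¬ 3 ∣ 2 ^ (a + 1) := fun e => absurd (Nat.prime_three.dvd_of_dvd_pow e) (by norm_num)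
  have h4 : orderOf g = 2 ^ (a + 1) := by rw [T.ord, hg, ha]
  obtain ⟨U, rfl, hU⟩ := h.exists_lift g h2 (h4 ▸ pow_orderOf_eq_one g)
  have h5 : m ≠ 1 := fun e => by
    have h6 : center X = ⊥ := eq_bot_iff.2 fun z hz => hl z hz (by rw [hlm ⟨z, hz⟩, e]; rfl)
    rw [h6, card_bot] at h3
    omega
  refine col_count h hU (fun e => ?_) (fun j hj => ?_) ?_ h8 hlm fun χ hχ ho hσ => ?_
  · rw [e, orderOf_one, pow_succ] at h4
    omega
  · refine h.isConj_of h2 h2 hU (by rw [← pow_mul, mul_comm, pow_mul, hU, one_pow]) ?_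
    rw [map_pow]
    refine h1.conj hm hg ?_
    have h6 := T.pow (φ U) 1
    rw [pow_one, Dat.pwf, Nat.gcd_one_left] at h6
    rw [T.pow, Dat.pwf, ← T.ord, hj.coprime_dvd_right (orderOf_map_dvd φ U), ← h6, hg]
  · have h6 := h1.card hm hg
    have h7 : 0 < D.N := hm.1 ▸ Nat.card_pos
    exact Nat.eq_of_mul_eq_mul_left (Nat.pos_of_ne_zero fun e => by rw [e, zero_mul] at hc; omega) (h6.trans hc.symm)
  · obtain ⟨x, hx, h6⟩ := exists_row h hp hm hr hI h5 hχ ho hσ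
    rw [h6 U fun e => h2 (e.trans (orderOf_dvd_of_pow_eq_one hU)), hg]
    exact_mod_cast hno x hx (sq_virt h hm hχ ho hx.sing h6)

/-- the search with the test `lf` at the leaves -/
noncomputable def go2 (D : Dat) (Ts : List (ℕ × List ℤ)) (e : ℕ) (lf : List ℤ → Bool) (o : List ℕ) :
    List ℕ → List ℤ → ℕ → Bool :=
  List.rec (fun _ A _ => lf A) (fun t _ ih P => node (tests D.n Ts t P) (D.cnt t) (Nat.beq t e) (ih (t :: P))) o

/-- the same with the tests evaluated first -/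
noncomputable def srch2 (D : Dat) (Ts : List (ℕ × List ℤ)) (e : ℕ) (lf : List ℤ → Bool) (o : List ℕ) :
    List ℕ → ((List ℤ → ℕ → Bool) → Bool) → Bool :=
  List.rec (fun _ k => k fun A _ => lf A) (fun t _ ih P k => frcT (tests D.n Ts t P) fun ts => frc (D.cnt t) fun c =>
    ih (t :: P) fun f => k (node ts c (Nat.beq t e) f)) o

theorem srch2_eq (D : Dat) (Ts : List (ℕ × List ℤ)) (e : ℕ) (lf : List ℤ → Bool) (o P : List ℕ)
    (k : (List ℤ → ℕ → Bool) → Bool) : srch2 D Ts e lf o P k = k (go2 D Ts e lf o P) := by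
  induction o generalizing P k with
  | nil => rfl
  | cons t o ih =>
    exact (frcT_eq (tests D.n Ts t P) fun ts => frc (D.cnt t) fun c => srch2 D Ts e lf o (t :: P) fun f =>
      k (node ts c (Nat.beq t e) f)).trans ((frc_eq (D.cnt t) fun c => srch2 D Ts e lf o (t :: P) fun f =>
        k (node (tests D.n Ts t P) c (Nat.beq t e) f)).trans (ih _ _))

theorem sum_supp {f : ℕ → ℤ} {P : List ℕ} (h1 : P.Nodup) (h2 : ∀ s ∈ P, s < D.n) (h3 : ∀ s < D.n, s ∉ P → f s = 0) :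
    ∑ s ∈ Finset.range D.n, f s = (P.map f).sum := by
  rw [← Finset.sum_subset (s₁ := P.toFinset) (fun s hs => Finset.mem_range.2 (h2 s (List.mem_toFinset.1 hs)))
    fun s hs hs' => h3 s (Finset.mem_range.1 hs) fun h => hs' (List.mem_toFinset.2 h), List.sum_toFinset _ h1]

theorem go2_spec {Ts : List (ℕ × List ℤ)} {e : ℕ} {lf : List ℤ → Bool} {x : ℕ → ℤ} (he : x e ≠ 0) (hc : D.cnt e ≠ 0)
    (hT : ∀ t ∈ Ts, (t.1 : ℤ) ∣ ∑ s ∈ Finset.range D.n, nth t.2 s * x s) {o P : List ℕ} (h1 : (o ++ P).Nodup)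
    (h2 : ∀ s ∈ o ++ P, s < D.n) {B : ℕ} (h3 : (o.map fun s => D.cnt s * ((x s).natAbs * (x s).natAbs)).sum ≤ B)
    (h : go2 D Ts e lf o P (P.map x) B = true) : lf ((o.reverse ++ P).map x) = true := by
  induction o generalizing P B with
  | nil => exact h
  | cons t o ih =>
    rw [List.map_cons, List.sum_cons] at h3
    have h4 := node_spec (show node (tests D.n Ts t P) (D.cnt t) (Nat.beq t e) (go2 D Ts e lf o (t :: P)) (P.map x) B =
      true from h) (v := x t) (by omega)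
    have h5 : (o ++ t :: P).Nodup := List.nodup_middle.2 h1
    have h6 : ∀ s ∈ o ++ t :: P, s < D.n := fun s hs => h2 s (List.perm_middle.subset hs)
    have h7 : allL (fun t' => Nat.beq ((dotL t'.2 (x t :: P.map x)).natAbs % t'.1) 0) (tests D.n Ts t P) = true := by
      refine allL_of fun y hy => ?_
      obtain ⟨w, hw, rfl⟩ := List.mem_map.1 hy
      rw [List.mem_filter, Bool.and_eq_true] at hw
      have h8 := hT w hw.1
      rw [sum_supp (List.nodup_append.1 h5).2.1 (fun s hs => h6 s (List.mem_append_right _ hs)) fun s hs hs' => by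
        rw [(of_decide_eq_true (allL_spec hw.2.2 s (List.mem_range.2 hs))).resolve_left hs', zero_mul], ← dotL_map] at h8
      rw [Nat.beq_eq]
      exact Nat.mod_eq_zero_of_dvd (Int.natCast_dvd.1 h8)
    have h8 : (Nat.beq t e && Nat.beq (D.cnt t * ((x t).natAbs * (x t).natAbs)) 0) = false := by
      rw [Bool.and_eq_false_imp, Nat.beq_eq]
      rintro rfl
      rw [← Bool.not_eq_true, Nat.beq_eq]
      simp [he, hc]
    rw [List.reverse_cons, List.append_assoc]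
    exact ih h5 h6 (by omega) (h4 h8 h7)

/-- the test at the leaves : the norm is full and the square has a scalar product which is not an integer -/
noncomputable def leaf (D : Dat) (rows : List (List ℤ)) (P : List ℕ) (A : List ℤ) : Bool :=
  decide (dotL (P.map fun s => (D.cnt s : ℤ)) (A.map fun v => v * v) = D.N) &&
    !allL (fun r => decide ((D.N : ℤ) ∣ dotL (P.map fun s => D.cnt s * nth r s) (A.map fun v => v * v))) rows

/-- **the check** : as `okS`, but `u :: o` must contain all the types of order prime to three -/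
noncomputable def okS2 (D : Dat) (u e : ℕ) (ps : List ℕ) (rows : List (List ℤ)) (L : List (List (ℤ × ℕ)))
    (o : List ℕ) : Bool :=
  decide ((∀ s < D.n, D.ord s = 1 → s = e) ∧ D.cnt e ≠ 0 ∧ (o ++ [u]).Nodup ∧ (∀ s ∈ o ++ [u], s < D.n) ∧
    ∀ s < D.n, s ∉ o ++ [u] → 3 ∣ D.ord s) &&
  allL (fun c => allL (fun t => decide (3 ∣ D.ord t → nth (comb rows c) t = 0)) (List.range D.n)) L &&
  frcT (allT D e ps (L.map (comb rows))) fun Ts => srch2 D Ts e (leaf D rows (o.reverse ++ [u])) o [u] fun f =>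
    frc (D.N - D.cnt u * 4) fun B => f [2] B && f [-2] B

theorem tests_ok {T : TD G D} (hI : Inh T) {rows : List (List ℤ)} (hv : ∀ r ∈ rows, Virt T (nth r)) {ps : List ℕ}
    (hps : ∀ p ∈ ps, p.Prime) {L : List (List (ℤ × ℕ))}
    (h5 : allL (fun c => allL (fun t => decide (3 ∣ D.ord t → nth (comb rows c) t = 0)) (List.range D.n)) L = true)
    {x : ℕ → ℤ} (hx : RowOK T x) : ∀ t ∈ allT D (T.ty 1) ps (L.map (comb rows)),
      (t.1 : ℤ) ∣ ∑ s ∈ Finset.range D.n, nth t.2 s * x s := by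
  have h9 : ∀ f : ℕ → ℤ, ∑ s ∈ Finset.range D.n, nth ((List.range D.n).map f) s * x s =
      ∑ s ∈ Finset.range D.n, f s * x s := fun f =>
    Finset.sum_congr rfl fun s hs => by rw [nth_map_range f (Finset.mem_range.1 hs)]
  intro t ht
  simp only [allT, List.mem_cons, List.mem_append, List.mem_flatMap, List.mem_map, List.mem_filter, List.mem_range,
    decide_eq_true_eq] at ht
  rcases ht with rfl | ⟨t, ⟨h10, h11⟩, p, hp, rfl⟩ | ⟨_, ⟨c, hc, rfl⟩, rfl⟩
  · simpa [h9, T.lt] using hx.three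
  · obtain ⟨g, rfl⟩ := hI t h10
    have h12 := hx.pw _ h10 h11 p (hps p hp)
    rw [← T.pow] at h12 ⊢
    simpa [h9, sub_mul, T.lt] using h12
  · rw [h9]
    simpa only [mul_assoc, mul_comm (x _)] using hx.int _ (Virt.comb hv c) fun t ht =>
      of_decide_eq_true (allL_spec (allL_spec h5 c hc) t (List.mem_range.2 ht))

theorem no_of_chk2 [Finite G] {T : TD G D} (hm : T.Mass) (hI : Inh T) {rows : List (List ℤ)}
    (hv : ∀ r ∈ rows, Virt T (nth r)) {u e : ℕ} {ps : List ℕ} (hps : ∀ p ∈ ps, p.Prime) {L : List (List (ℤ × ℕ))}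
    {o : List ℕ} (h : okS2 D u e ps rows L o = true) (x : ℕ → ℤ) (hx : RowOK T x)
    (hs : ∑ t ∈ Finset.range D.n, (D.cnt t : ℤ) * x t ^ 2 = D.N → Virt T fun t => x t ^ 2) : x u ≠ 2 ∧ x u ≠ -2 := by
  simp only [okS2, frcT_eq, srch2_eq, frc_eq, Bool.and_eq_true, decide_eq_true_eq] at h
  obtain ⟨⟨⟨h1, h2, h3, h4, h0⟩, h5⟩, h6, h7⟩ := h
  obtain rfl : T.ty 1 = e := h1 _ (T.lt 1) (by rw [← T.ord, orderOf_one])
  have hP : (o.reverse ++ [u]).Perm (o ++ [u]) := (List.reverse_perm o).append_right _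
  have h8 : ∀ f : ℕ → ℤ, dotL ((o.reverse ++ [u]).map f) (((o.reverse ++ [u]).map x).map fun v => v * v) =
      ∑ t ∈ Finset.range D.n, f t * x t ^ 2 := fun f => by
    rw [List.map_map, dotL_map, sum_supp (hP.nodup_iff.2 h3) (fun s hs => h4 s (hP.subset hs)) fun s hs hs' => by
      rw [hx.sing s (h0 s hs fun h => hs' (hP.symm.subset h)), zero_pow two_ne_zero, mul_zero]]
    simp only [Function.comp, pow_two]
  have h9 : x u * x u = 4 → go2 D (allT D (T.ty 1) ps (L.map (comb rows))) (T.ty 1) (leaf D rows (o.reverse ++ [u])) o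
      [u] [x u] (D.N - D.cnt u * 4) ≠ true := fun h10 h11 => by
    have h12 := go2_spec hx.pos.ne' h2 (tests_ok hI hv hps h5 hx) h3 h4 (by
      have h11 : ((o ++ [u]).map fun s => D.cnt s * ((x s).natAbs * (x s).natAbs)).sum ≤ D.N := by
        rw [← List.sum_toFinset _ h3]
        refine (Finset.sum_le_sum_of_subset fun s hs => Finset.mem_range.2 (h4 s (List.mem_toFinset.1 hs))).trans ?_
        have h12 := hx.nrm
        simp only [pow_two, ← Int.natAbs_mul_self] at h12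
        exact_mod_cast h12
      rw [List.map_append, List.sum_append, List.map_singleton, List.sum_singleton, ← Int.natAbs_mul (x u), h10] at h11
      exact Nat.le_sub_of_add_le h11) h11
    rw [leaf, Bool.and_eq_true, decide_eq_true_eq, h8] at h12
    have h13 := hs h12.1
    rw [allL_of fun r hr => decide_eq_true (by
      rw [h8]
      simpa only [mul_assoc] using dvd_of_virt hm (hv r hr) h13)] at h12
    cases h12.2
  exact ⟨fun h10 => h9 (by rw [h10]; rfl) (h10 ▸ h6), fun h10 => h9 (by rw [h10]; rfl) (h10 ▸ h7)⟩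

/-- **the number of the characters of odd degree of a triple cover over a faithful central character** -/
theorem kk_of_chk2 [Finite X] (hφ : Function.Surjective φ) (hk : φ.ker = center X) (h3 : Nat.card (center X) = 3)
    (hp : _root_.commutator X = ⊤) {T : TD G D} (hm : T.Mass) (hr : Rat T) (hI : Inh T) {u a c : ℕ} (h1 : One T u)
    (ha : D.ord u = 2 ^ (a + 1)) (hc : D.cnt u * c = D.N) (h8 : c ≤ 8) {rows : List (List ℤ)}
    (hv : ∀ r ∈ rows, Virt T (nth r)) {e : ℕ} {ps : List ℕ} (hps : ∀ p ∈ ps, p.Prime) {L : List (List (ℤ × ℕ))}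
    {o : List ℕ} (h : okS2 D u e ps rows L o = true) {l : X → ℂ} {m : center X →* ℂˣ} (hl : Fa (center X) l)
    (hlm : ∀ z : center X, l z = m z) : kk ⊤ (center X) l = c :=
  haveI : Finite G := Finite.of_surjective φ hφ
  kk_of_row2 hφ hk h3 hp hm hr hI h1 ha hc h8 (no_of_chk2 hm hI hv hps h) hl hlm

end Cfsg.Agent.MK.S2

private theorem dce_6aa74a707eb9 : _root_.True := by
  try have : _root_.True := by simp only [_root_.Cfsg.Agent.MK.S2.leaf.eq_1]
  try have : _root_.True := by simp only [_root_.Cfsg.Agent.MK.S2.okS2.eq_1]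
  exact _root_.True.intro
end

-- part: MK/S7/L1
section
set_option linter.all false

/-!
# `Fi₂₄` : generators of a Sylow `2`-subgroup on 256 points (helper96, MK; generated by notes/MK/s7gen)
-/

set_option autoImplicit false
set_option maxRecDepth 100000
set_option Elab.async false

namespace Cfsg.Agent.MK.S7.Q24

open Cfsg.Agent.TAB.PE Cfsg.Agent.TAB.CE Cfsg.Agent.TAB.F24C Cfsg.Agent.MK.S.Pc
open Cfsg.Agent.Fischer.Fi24Rep (rho)
open Cfsg.Spor

/-- data -/
noncomputable def L : ℕ := 0x4acaf4acab4aca74aca34ac8f4ac8b4ac874ac834ac7e4ac7a4ac764ac724ac5e4ac5a4ac564ac524abed4abe94abe54abe14abcd4abc94abc54abc14abbe4abba4abb64abb24ab9e4ab9a4ab964ab924a8e74a8e54a8e34a8e14a8c74a8c54a8c34a8c14a8be4a8bc4a8ba4a8b84a89e4a89c4a89a4a8984a87e4a87c4a87a4a8784a8674a8654a8634a8614a85e4a85c4a85a4a8584a8474a8454a8434a8414a1be4a1ba4a1b64a1b24a1ae4a1aa4a1a64a1a24a19e4a19a4a1964a1924a18e4a18a4a1864a1824a0bd4a0b94a0b54a0b14a0ad4a0a94a0a54a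0a14a09d4a0994a0954a0914a08d4a0894a0854a08148b3f48b3d48b3b48b3948b2f48b2d48b2b48b2948b1f48b1d48b1b48b1948b0f48b0d48b0b48b0948a7748a7548a7348a7148a6748a6548a6348a6148a5748a5548a5348a5148a4748a4548a4348a41484f7484f6484f3484f2484e7484e6484e3484e2484d7484d6484d3484d2484c7484c6484c3484c2484b5484b4484b1484b0484a5484a4484a1484a0484954849448491484904848548484484814848046bed46bec46be946be846be546be446be146be046bcd46bcc46bc946bc846bc546bc446bc146bc0469fd469fc469f9469f8469f5469f4469f1469f0469dd469dc469d9469d8469d5469d4469d1469d045eaf45eae45ead45eac45eab45eaa45ea945ea845e8f45e8e45e8d45e8c45e8b45e8a45e8945e8845d7f45d7e45d7d45d7c45d7b45d7a45d7945d7845d5f45d5e45d5d45d5c45d5b45d5a45d5945d583c97d3c97c3c9793c9783c9753c9743c9713c9703c96d3c96c3c9693c9683c9653c9643c9613c9603c95d3c95c3c9593c9583c9553c9543c9513c9503c94d3c94c3c9493c9483c9453c9443c9413c940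

/-- data -/
noncomputable def T0 : ℕ := 0xfb0fa0f90f80ff0fe0fd0fc0f30f20f10f00f70f60f50f40eb0ea0e90e80ef0ee0ed0ec0e30e20e10e00e70e60e50e40db0da0d90d80df0de0dd0dc0d30d20d10d00d70d60d50d40c70c60c50c40c30c20c10c00cf0ce0cd0cc0cb0ca0c90c80b70b60b50b40b30b20b10b00bf0be0bd0bc0bb0ba0b90b80a70a60a50a40a30a20a10a00af0ae0ad0ac0ab0aa0a90a809709609509409309209109009f09e09d09c09b09a09909808708608508408308208108008f08e08d08c08b08a08908807707607507407307207107007f07e07d07c07b07a07907806706606506406306206106006f06e06d06c06b06a06906805705605505405305205105005f05e05d05c05b05a05905804704604504404304204104004f04e04d04c04b04a04904803703603503403303203103003f03e03d03c03b03a03903802702602502402302202102002f02e02d02c02b02a02902800f00e00d00c00b00a00900800700600500400300200100001f01e01d01c01b01a019018017016015014013012011010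

/-- data -/
noncomputable def T1 : ℕ := 0x4c05505904005a04304f05604e05705b04205804104d05404505c05004905304a04605f05e04704b05204805105d0440b10b50ae0aa0a80ac0b70b30bb0bf0a40a00a20a60bd0b90bc0b80a30a70b40b00ab0af0a50a10ba0be0ad0a90b20b60f30e50f40e20eb0fc0ec0fb0e80ff0ef0f80f00e60f70e10f20e40f50e30ea0fd0ed0fa0e90fe0ee0f90f10e70f60e000100901d01501b01300700f00a00201601e01001800c00401101900d00500b00301701f01a01200600e00000801c01409c09709109a08a08108708c08308808e08509509e09809308b08008608d09d09609009b09409f09909208208908f0840c80c50db0d10de0d40c10cc0d00da0c40c90cd0c00d50df0cf0c20d70dd0d20d80c60cb0dc0d60c30ce0ca0c70d90d307c06707806306b07006f07406e07506a07107906207d06606107a06507e07606d07206907306807706c06407f06007b03002502003503d02802d03802903c03902c02403103402102f03a03f02a02203703202703602302603303b02e02b03e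

/-- data -/
noncomputable def T2 : ℕ := 0x3d03502402c03603e02f02703a03202302b03103902802003803002102903303b02a02203703f02e02603c03402502d04505f04d05705604c05e04405d04705504f04e05404605c04b05104305905204805a04005804205004a04105b04905300101101b00b01e00e00401401800800201200701701d00d00601601c00c01900900301301f00f00501500001001a00a07606807e06006707906f07106b07506307d07a06407206c06107f06907707006e07806607c06207406a06d07306507b0a90b50a10bd0bc0a00b40a80ae0b20a60ba0bb0a70b30af0b10ad0b90a50a40b80ac0b00b60aa0be0a20a30bf0ab0b70e50f90e10fd0fc0e00f80e40f60eb0f20ef0ee0f30ea0f70f00ed0f40e90e80f50ec0f10e30ff0e70fb0fa0e60fe0e20d00d70c70cc0d40d30cf0c40c20c90de0d90ca0c10da0dd0c80c30d80df0c00cb0dc0db0d60d10cd0c60d20d50c50ce08609508e09d09008309808b08809b08009309e08d09608508109208909a09708409f08c08f09c08709409908a091082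

/-- data -/
noncomputable def T3 : ℕ := 0x3b02802e03d03002302503603c02f02903a03702402203103202102703403902a02c03f02603503302002d03e03802b04704305b05f05405004804c05505104904d04604205a05e05705304b04f04e04a05205604404005805c05d05904104506f06207407907e07306506807207f06906406306e07807507707a06c06106606b07d07006a06707107c07b07606006d01401001a01e00b00f00500100d00900300701201601c01800800c00600201701301901d01101501f01b00e00a0000040a80b40b80a40bd0a10ad0b10af0b30bf0a30ba0a60aa0b60b00ac0a00bc0a50b90b50a90b70ab0a70bb0a20be0b20ae0cd0c60d30d40c00cb0d90de0d80df0c10ca0d20d50cc0c70dd0da0c80c30d70d00c50ce0c40cf0d60d10c90c20dc0db0e00fc0e20fe0e90f40eb0f60f30ee0f10ec0fb0e70f90e50e10fd0e30ff0e80f50ea0f70f20ef0f00ed0fa0e60f80e409208108709409908a08c09f09c08f08909a09708408209109508608009309e08d08b09809b08808e09d090083085096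

/-- data -/
noncomputable def T4 : ℕ := 0x9408b09008f08e09108a09509908609d08208309c08709808009f08409b09a08509e08109208d09608908809708c09302d02003203f03103c02e02302802503703a03403902b02603b03602402903003d02f02202702a03803502c02103303e00800300000b00c00700400f01d01601501e01901201101a01401f01c01701001b01801300100a00900200500e00d0060ff0f80e50e20fd0fa0e70e00f20f50e90ee0f00f70eb0ec0ed0ea0f60f10ef0e80f40f30e10e60fb0fc0e30e40f90fe05504f04305905104b04705d05204804405e05604c04005a04105b05704d04505f05304904605c05004a04205805404e06e07007c06206a07407806606907707b06506d07307f06107a06406807607e06006c07207d06306f07107906706b0750db0cb0c10dd0c40d30d50ce0d20c50cf0d40ca0da0dc0c00c20de0d80c80d60cd0c70d00cc0d70d10c60df0c30c90d90b40ae0ad0b70b00aa0a90b30b60ac0af0b50b20a80ab0b10a20b80bb0a10a60bc0bf0a50a00ba0b90a30a40be0bd0a7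

/-- data -/
noncomputable def T5 : ℕ := 0xb00900a00800500700400601b01901a01801501701401601301101201001d01f01c01e00100300000200f00d00e00c0e90e30e80e20e00ea0e10eb0f50fe0f40ff0fd0f60fc0f70f80f30f90f20e70ed0e60ec0f00fb0f10fa0ee0e40ef0e505405605505704404604504704804a04904b05805a05905b05c05e05d05f04c04e04d04f0400420410430500520510530b10bc0b00bd0ba0b70bb0b60a10ac0a00ad0aa0a70ab0a60bf0b20be0b30b40b90b50b80af0a20ae0a30a40a90a50a80cb0c60c90c40d00da0d20d80de0d40dc0d60ce0c30cc0c10d10db0d30d90ca0c70c80c50cf0c20cd0c00df0d50dd0d702603302203702703202303603502003102403402103002503c02903802d03d02803902c02f03a02b03e02e03b02a03f08008b09909208208909b09009509e08c08709709c08e08509a09108308809809308108a08f08409609d08d08609409f07506e07706c07406f07606d07e06507c06707f06407d06607806307a06107906207b06007306807106a07206907006b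

/-- data -/
noncomputable def T6 : ℕ := 0x6207007c06e06f07d07106306a07807406606707507906b06407607a06806907b07706507e06c06007207306106d07f01800201300901600c01d00701e00401500f01000a01b00100b01100001a01200801900300501f00e01401c00601700d0ae0b70b40ad0a30ba0b90a00be0a70a40bd0b30aa0a90b00a60bf0bc0a50ab0b20b10a80b60af0ac0b50bb0a20a10b808309509c08a09a08c08509309608008909f08f09909008608409209b08d09d08b08209409108708e09808809e0970810e80ef0f30f40e20e50f80ff0e10e60fb0fc0eb0ec0f00f70f20f50e90ee0f90fe0e30e40fa0fd0e00e70f10f60ea0ed04a05f05c04905004504605305604304005504c05905a04f04405105204705e04b04805d05804d04e05b04205705404102702a03e03303803502102c03403902d02002b02603203f03b03602202f02402903d03002802503103c03703a02e0230dd0cb0ce0d30c10db0d50c40d10cc0c90df0c60d70d90c30c80de0d00cd0d80c20c70d60cf0d20dc0ca0d40c50c00da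

/-- data -/
noncomputable def T7 : ℕ := 0xd10de0c60c20c50c10d20dd0d80d70c80cc0cb0cf0db0d40d90d60c90cd0ca0ce0da0d50df0d00c30c70c00c40dc0d30fc0e50e30fa0eb0f30f50ed0ec0f40f20ea0fb0e20e40fd0e80f00f60ee0e90f10f70ef0ff0e60e00f90fe0e70e10f805605b04c04105705a04d04004f04205505804e04305405905105c04b04605005d04a04704804505205f04904405305e03202b03502c03302a03402d02203b02503c02303a02403d03602f03102803702e03002902603f02103802703e02003900a00200d00500b00300c00401601e01101901701f01001801401c01301b01501d01201a00800000f00700900100e0060bc0b80b20b60a60a20a80ac0a30a70ad0a90b90bd0b70b30af0ab0a10a50b50b10bb0bf0b00b40be0ba0aa0ae0a40a009109508708308108509709309c09808a08e08c08809a09e09909d08f08b08908d09f09b09409008208608408009209606206607a07e07c07806406006306707b07f07d07906506107507106d06906b06f07307707407006c06806a06e072076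

/-- data -/
noncomputable def T8 : ℕ := 0x1301100000201d01f00e00c00300101001200d00f01e01c01901b00a00801701500400600b00901801a00500701601407506e07706c07806307a06107906207b06007406f07606d07e06507c06706607d06407f07306807106a06b07006907205c05e05205004304104d04f04004204e04c05f05d05105305405605a05804b04904504704804a04604405705505905b03c02903802d02603302203702f03a02b03e03502003102403b02e03f02a02103402503002803d02c0390320270360230c30c40c10c60d20de0d00dc0da0d60d80d40cc0cb0ce0c90d50d90d70db0c80cf0ca0cd0c70c00c50c20dd0d10df0d30be0b30bf0b20ad0a00ac0a10ae0a30af0a20bd0b00bc0b10b50b80b40b90a60ab0a70aa0a50a80a40a90b60bb0b70ba09e08709508c09c08509708e08b09208009908909008209b08409d08f09608609f08d09409108809a08309308a0980810f10fa0f00fb0e40ee0e50ef0e10eb0e00ea0f40ff0f50fe0f90f20f80f30ed0e70ec0e60e80e20e90e30fc0f70fd0f6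

/-- data -/
noncomputable def T9 : ℕ := 0x6d06f06606406506706e06c06006206b06906806a06306107b07907007207307107807a07407607f07d07c07e07707501001d01201f00000d00200f00800500a00701801501a01701401901601b01301e01101c00400900600b00300e00100c0b20b30b90b80bf0be0b40b50ba0bb0b10b00b70b60bc0bd0a20a30a90a80af0ae0a40a50aa0ab0a10a00a70a60ac0ad09b08709908508209e08009c09308f09108d08a09608809408b09708909509208e09008c08309f08109d09a0860980840fe0f90ff0f80f50f20f40f30fa0fd0fb0fc0f10f60f00f70e50e20e40e30ef0e80ee0e90e10e60e00e70eb0ec0ea0ed04005504205705004505204704805d04a05f05804d05a04f04405104605305404105604304c05904e05b05c04905e04b02902402702a02d02002302e02102c02f02202502802b02603903403703a03d03003303e03103c03f03203503803b0360c10db0c30d90d60c70d40c50c60d70c40d50da0c00d80c20c90df0cb0dd0d20cf0d00cd0ce0d30cc0d10de0c80dc0ca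

/-- data -/
noncomputable def T10 : ℕ := 0x6607407d06f06b07907006206e07c07506706307107806a06507707e06c06807a07306107f06d06407607206006907b01400701f00c01a00901100201b00801000301500601e00d00e01d00501601700401c00f00001300b01801900a01200102503a03002f02803703d02203602902303c03b02402e03102d03203802702003f03502a03e02102b03403302c02603904204c05405a05705904104f05e05004804604b04505d05305105f04704904404a05205c04d04305b05505805604e0400ea0e00f10fa0ed0e70f60fd0e30e90f90f20e40ee0fe0f50f00fb0eb0e10f70fc0ec0e60f80f30e20e80ff0f40e50ef09308a08c09509808108709e08609f09908008d09409208b08509c09a08308e09709108809008908f09609b08208409d0a30ae0b00bd0ba0b70a90a40b30be0a00ad0aa0a70b90b40b50b80a60ab0ac0a10bf0b20a50a80b60bb0bc0b10af0a20cc0cb0df0d30c10c60d50d90d10dd0c90ce0db0d70c40c30d20de0ca0cd0d80d40c70c00cf0c80dc0d00c20c50d60da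

/-- data -/
noncomputable def T11 : ℕ := 0x7607407807a07e07c07007207b07907507707307107d07f06506706b06906d06f06306106a06806406606206006c06e01d01901f01b00d00900f00b00c00800e00a01c01801e01a01001401201601701301501100000400200600700300500102702302502102a02e02802c02f02b02d02902202602002403403003603203903d03b03f03c03803e03a03103503303705205605005404704304504105a05e05805c04f04b04d04905f05b05d05904a04e04804c0570530550510420460400440e70ed0e60ec0e00ea0e10eb0e30e90e20e80e40ee0e50ef0fc0f70fd0f60fb0f00fa0f10f80f30f90f20ff0f40fe0f508509c08709e08409d08609f08d09408f09608c09508e09709908009b08209808109a08309108809308a09008909208b0b90b40bb0b60b80b50ba0b70b10bc0b30be0b00bd0b20bf0a60ab0a40a90a70aa0a50a80ae0a30ac0a10af0a20ad0a00d60da0d40d80d70db0d50d90c70c00c50c20c60c10c40c30d20de0d00dc0d30df0d10dd0cf0c80cd0ca0ce0c90cc0cb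

/-- data -/
noncomputable def T12 : ℕ := 0x7707506c06e07f07d06406607a07806106307207006906b07107306a06807907b06206007e07c06506707607406d06f00201100001301200101000300401700601501400701600501800b01a00901f00c01d00e00801b00a01900f01c00d01e02802c03d03903203602702302002403503103a03e02f02b03b03f02e02a02102503403003303702602202902d03c03805705905505b04804604a04405f05105d05304004e04204c05a05405805604504b04704905205c05005e04d04304f0410e00fc0e10fd0f00ed0f10ec0e40f80e50f90f40e90f50e80fb0e70fa0e60ea0f70eb0f60ff0e30fe0e20ee0f30ef0f208a09908809b08109208309008209108009308909a08b09809c08f09e08d09708409508609408709608509f08c09d08e0a70bb0b40a80a60ba0b50a90af0b30bc0a00ae0b20bd0a10b80a40ab0b70b90a50aa0b60b00ac0a30bf0b10ad0a20be0da0dd0d80df0d00d70d20d50cc0c70ce0c50c10ca0c30c80de0d90dc0db0d40d30d60d10c40cf0c60cd0c90c20cb0c0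

/-- data -/
noncomputable def T13 : ℕ := 0xe90e80fd0fc0ed0ec0f90f80e00e10f50f40e40e50f10f00ef0ee0fb0fa0eb0ea0ff0fe0e70e60f20f30e30e20f60f70d40de0d60dc0d00da0d20d80d70dd0d50df0d30d90d10db0cf0c20cd0c00cb0c60c90c40c70ca0c50c80c30ce0c10cc0bf0be0ac0ad0aa0ab0b90b80b70b60a40a50a20a30b10b00af0ae0bc0bd0ba0bb0a90a80a70a60b40b50b20b30a10a009509e09709c09b09009909209d09609f09409309809109a08508e08708c08b08008908208d08608f08408308808108a06a07e06807c07b06f07906d06207606007407306707106507a06e07806c06b07f06907d07206607006406307706107505f05405d05605105a05305805705c05505e05905205b05004504e04704c04b04004904204d04604f04404304804104a02803e03d02b02c03a03902f02003603502302403203102703802e02d03b03c02a02903f03002602503303402202103701f00901d00b00c01a00e01800001600201401300501100700f01900d01b01c00a01e008010006012004003015001017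

/-- data -/
noncomputable def T14 : ℕ := 0xf10f00f30f20f50f40f70f60f90f80fb0fa0fd0fc0ff0fe0e00e10e20e30e40e50e60e70e80e90ea0eb0ec0ed0ee0ef0c30c20c10c00cb0ca0c90c80cc0cd0ce0cf0c40c50c60c70d40d50d60d70db0da0d90d80d00d10d20d30df0de0dd0dc0a50a40a70a60a10a00a30a20ad0ac0af0ae0a90a80ab0aa0b50b40b70b60b10b00b30b20bd0bc0bf0be0b90b80bb0ba08308208108008708608508408b08a08908808f08e08d08c09309209109009709609509409b09a09909809f09e09d09c06106006306206506406706606906806b06a06d06c06f06e07107007307207507407707607907807b07a07d07c07f07e04504404704604104004304204d04c04f04e04904804b04a05505405705605105005305205d05c05f05e05905805b05a03103003303203503403703603903803b03a03d03c03f03e02102002302202502402702602902802b02a02d02c02f02e01201301001101601701401501a01b01801901e01f01c01d00200300000100600700400500a00b00800900e00f00c00d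

/-- data -/
noncomputable def T15 : ℕ := 0xe30e20f60f70e70e60f20f30ea0eb0fe0ff0ee0ef0fa0fb0e50e40f00f10e10e00f40f50ed0ec0f90f80e90e80fd0fc0c50c80c70ca0cd0c00cf0c20c60cb0c40c90ce0c30cc0c10d20d80d00da0dd0d70df0d50d60dc0d40de0d90d30db0d10ac0ad0bf0be0b90b80aa0ab0a40a50b70b60b10b00a20a30bc0bd0af0ae0a90a80ba0bb0b40b50a70a60a10a00b20b308308808108a08d08608f08408b08008908208508e08708c09309809109a09d09609f09409b09009909209509e09709c06b07f06907d07a06e07806c06307706107507206607006407b06f07906d06a07e06807c07306707106506207606007404504e04704c04b04004904204d04604f04404304804104a05f05405d05605105a05305805705c05505e05905205b05003d02b02803e03902f02c03a03502302003603102702403202d03b03802e02903f03c02a02503303002602103703402201700101500300401200601000801e00a01c01b00d01900f00701100501301400201600001800e01a00c00b01d00901f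

/-- data -/
noncomputable def T16 : ℕ := 0xec0ed0ee0ef0e80e90ea0eb0e50e40e70e60e10e00e30e20fc0fd0fe0ff0f80f90fa0fb0f50f40f70f60f10f00f30f20c80c90ca0cb0c00c10c20c30c70c60c50c40cf0ce0cd0cc0d30d20d10d00dc0dd0de0df0d70d60d50d40d80d90da0db0b90b80bb0ba0bd0bc0bf0be0b10b00b30b20b50b40b70b60a90a80ab0aa0ad0ac0af0ae0a10a00a30a20a50a40a70a609009109209309409509609709809909a09b09c09d09e09f08008108208308408508608708808908a08b08c08d08e08f06006106206306406506606706806906a06b06c06d06e06f07007107207307407507607707807907a07b07c07d07e07f04404504604704004104204304c04d04e04f04804904a04b05405505605705005105205305c05d05e05f05805905a05b03003103203303403503603703803903a03b03c03d03e03f02002102202302402502602702802902a02b02c02d02e02f01301201101001701601501401b01a01901801f01e01d01c00300200100000700600500400b00a00900800f00e00d00c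

/-- data -/
noncomputable def T17 : ℕ := 0xff0fe0fd0fc0fb0fa0f90f80f70f60f50f40f30f20f10f00ef0ee0ed0ec0eb0ea0e90e80e70e60e50e40e30e20e10e00df0de0dd0dc0db0da0d90d80d70d60d50d40d30d20d10d00cf0ce0cd0cc0cb0ca0c90c80c70c60c50c40c30c20c10c00ae0af0ac0ad0aa0ab0a80a90a60a70a40a50a20a30a00a10be0bf0bc0bd0ba0bb0b80b90b60b70b40b50b20b30b00b109509409709609109009309209d09c09f09e09909809b09a08508408708608108008308208d08c08f08e08908808b08a06a06b06806906e06f06c06d06206306006106606706406507a07b07807907e07f07c07d07207307007107607707407505f05e05d05c05b05a05905805705605505405305205105004f04e04d04c04b04a04904804704604504404304204104003f03e03d03c03b03a03903803703603503403303203103002f02e02d02c02b02a02902802702602502402302202102000800900a00b00c00d00e00f00000100200300400500600701801901a01b01c01d01e01f010011012013014015016017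

/-- data -/
noncomputable def T18 : ℕ := 0xe90e80eb0ea0ed0ec0ef0ee0e00e10e20e30e40e50e60e70f90f80fb0fa0fd0fc0ff0fe0f00f10f20f30f40f50f60f70df0de0dd0dc0db0da0d90d80d70d60d50d40d30d20d10d00cf0ce0cd0cc0cb0ca0c90c80c70c60c50c40c30c20c10c00bf0be0bd0bc0bb0ba0b90b80b70b60b50b40b30b20b10b00af0ae0ad0ac0ab0aa0a90a80a70a60a50a40a30a20a10a009509409709609109009309209d09c09f09e09909809b09a08508408708608108008308208d08c08f08e08908808b08a06a06b06806906e06f06c06d06206306006106606706406507a07b07807907e07f07c07d07207307007107607707407505505405705605105005305205d05c05f05e05905805b05a04504404704604104004304204d04c04f04e04904804b04a03f03e03d03c03b03a03903803703603503403303203103002f02e02d02c02b02a02902802702602502402302202102001f01e01d01c01b01a01901801701601501401301201101000f00e00d00c00b00a009008007006005004003002001000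

/-- data -/
noncomputable def T19 : ℕ := 0xf30f20f10f00f70f60f50f40fb0fa0f90f80ff0fe0fd0fc0e20e30e00e10e60e70e40e50ea0eb0e80e90ee0ef0ec0ed0ce0cf0cc0cd0c60c70c40c50c10c00c30c20c90c80cb0ca0de0df0dc0dd0d10d00d30d20da0db0d80d90d50d40d70d60a70a60a50a40a30a20a10a00af0ae0ad0ac0ab0aa0a90a80b70b60b50b40b30b20b10b00bf0be0bd0bc0bb0ba0b90b808808908a08b08c08d08e08f08008108208308408508608709809909a09b09c09d09e09f09009109209309409509609707a07b07807907e07f07c07d07207307007107607707407506a06b06806906e06f06c06d06206306006106606706406504104004304204504404704604904804b04a04d04c04f04e05105005305205505405705605905805b05a05d05c05f05e02402502602702002102202302c02d02e02f02802902a02b03403503603703003103203303c03d03e03f03803903a03b01601701401501201301001101e01f01c01d01a01b01801900600700400500200300000100e00f00c00d00a00b008009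

/-- data -/
noncomputable def T20 : ℕ := 0xe90e80eb0ea0ed0ec0ef0ee0e00e10e20e30e40e50e60e70f90f80fb0fa0fd0fc0ff0fe0f00f10f20f30f40f50f60f70d40d50d60d70d00d10d20d30dc0dd0de0df0d80d90da0db0c30c20c10c00c70c60c50c40cb0ca0c90c80cf0ce0cd0cc0bf0be0bd0bc0bb0ba0b90b80b70b60b50b40b30b20b10b00af0ae0ad0ac0ab0aa0a90a80a70a60a50a40a30a20a10a009f09e09d09c09b09a09909809709609509409309209109008f08e08d08c08b08a08908808708608508408308208108006a06b06806906e06f06c06d06206306006106606706406507a07b07807907e07f07c07d07207307007107607707407505f05e05d05c05b05a05905805705605505405305205105004f04e04d04c04b04a04904804704604504404304204104003f03e03d03c03b03a03903803703603503403303203103002f02e02d02c02b02a02902802702602502402302202102000800900a00b00c00d00e00f00000100200300400500600701801901a01b01c01d01e01f010011012013014015016017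

/-- data -/
noncomputable def T21 : ℕ := 0xe90e80eb0ea0ed0ec0ef0ee0e00e10e20e30e40e50e60e70f90f80fb0fa0fd0fc0ff0fe0f00f10f20f30f40f50f60f70d40d50d60d70d00d10d20d30dc0dd0de0df0d80d90da0db0c30c20c10c00c70c60c50c40cb0ca0c90c80cf0ce0cd0cc0ae0af0ac0ad0aa0ab0a80a90a60a70a40a50a20a30a00a10be0bf0bc0bd0ba0bb0b80b90b60b70b40b50b20b30b00b109509409709609109009309209d09c09f09e09909809b09a08508408708608108008308208d08c08f08e08908808b08a06a06b06806906e06f06c06d06206306006106606706406507a07b07807907e07f07c07d07207307007107607707407505505405705605105005305205d05c05f05e05905805b05a04504404704604104004304204d04c04f04e04904804b04a02802902a02b02c02d02e02f02002102202302402502602703803903a03b03c03d03e03f03003103203303403503603700800900a00b00c00d00e00f00000100200300400500600701801901a01b01c01d01e01f010011012013014015016017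

theorem hi : Inj 256 L := inj_of (by decide +kernel)

/-- data -/
noncomputable def c0 : ℕ := 1

theorem p0_0 : tbB (aw c0) 256 L T0 [0, 1, 2, 3, 4, 5, 6, 7, 8] = true := by decide +kernel

theorem g0 : Tb rho 256 L (el c0) (gt T0) :=
  tb_of (nb := 9) hi (acts_aw c0) (Pl.app p0_0 Pl.nil) (by decide +kernel)

/-- data -/
noncomputable def c1 : ℕ := 0x7a263b59684756b7c869b758641b75264b753645869b7c869b75864b756a79485763b5c64b7565842b73c64b569b71a86297384751

theorem p1_0 : tbB (aw c1) 256 L T1 [0, 1, 2] = true := by decide +kernel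

theorem p1_1 : tbB (aw c1) 256 L T1 [3, 4, 5] = true := by decide +kernel

theorem p1_2 : tbB (aw c1) 256 L T1 [6, 7, 8] = true := by decide +kernel

theorem g1 : Tb rho 256 L (el c1) (gt T1) :=
  tb_of (nb := 9) hi (acts_aw c1) (Pl.app p1_0 (Pl.app p1_1 (Pl.app p1_2 Pl.nil))) (by decide +kernel)

/-- data -/
noncomputable def c2 : ℕ := 0xa895b7687ac64b95c86b73864756b7c869b7586b75c648ab59c68b763b5c64b7538649b75c861b7642953847569b7a8619752864753864

theorem p2_0 : tbB (aw c2) 256 L T2 [0, 1, 2] = true := by decide +kernel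

theorem p2_1 : tbB (aw c2) 256 L T2 [3, 4, 5] = true := by decide +kernel

theorem p2_2 : tbB (aw c2) 256 L T2 [6, 7, 8] = true := by decide +kernel

theorem g2 : Tb rho 256 L (el c2) (gt T2) :=
  tb_of (nb := 9) hi (acts_aw c2) (Pl.app p2_0 (Pl.app p2_1 (Pl.app p2_2 Pl.nil))) (by decide +kernel)

/-- data -/
noncomputable def c3 : ℕ := 0xb7a697879c68b75c6b7c8639b75864b75c641b752c6b75364a596876b56453c42b364756b7c869b75a8649b753864b7569372819a82b95

theorem p3_0 : tbB (aw c3) 256 L T3 [0, 1, 2] = true := by decide +kernel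

theorem p3_1 : tbB (aw c3) 256 L T3 [3, 4, 5] = true := by decide +kernel

theorem p3_2 : tbB (aw c3) 256 L T3 [6, 7, 8] = true := by decide +kernel

theorem g3 : Tb rho 256 L (el c3) (gt T3) :=
  tb_of (nb := 9) hi (acts_aw c3) (Pl.app p3_0 (Pl.app p3_1 (Pl.app p3_2 Pl.nil))) (by decide +kernel)

/-- data -/
noncomputable def c4 : ℕ := 0xcb586c9b57ac68b79c683b57645364b75c86b7c869b7586b7c64ab59648b537c46b5c64b75386475642953a849b7586b76154231

theorem p4_0 : tbB (aw c4) 256 L T4 [0, 1, 2] = true := by decide +kernel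

theorem p4_1 : tbB (aw c4) 256 L T4 [3, 4, 5] = true := by decide +kernel

theorem p4_2 : tbB (aw c4) 256 L T4 [6, 7, 8] = true := by decide +kernel

theorem g4 : Tb rho 256 L (el c4) (gt T4) :=
  tb_of (nb := 9) hi (acts_aw c4) (Pl.app p4_0 (Pl.app p4_1 (Pl.app p4_2 Pl.nil))) (by decide +kernel)

/-- data -/
noncomputable def c5 : ℕ := 0xca89b7a68b579c68b576b5c6b764586b73c864b756b7c869b7586b7c64ab539648576b56427538649b715826b73a6431

theorem p5_0 : tbB (aw c5) 256 L T5 [0, 1, 2] = true := by decide +kernel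

theorem p5_1 : tbB (aw c5) 256 L T5 [3, 4, 5] = true := by decide +kernel

theorem p5_2 : tbB (aw c5) 256 L T5 [6, 7, 8] = true := by decide +kernel

theorem g5 : Tb rho 256 L (el c5) (gt T5) :=
  tb_of (nb := 9) hi (acts_aw c5) (Pl.app p5_0 (Pl.app p5_1 (Pl.app p5_2 Pl.nil))) (by decide +kernel)

end Cfsg.Agent.MK.S7.Q24
end

-- part: MK/S7/L2
section
set_option linter.all false

/-!
# `Fi₂₄` : polycyclic certificates of the Sylow `2`-subgroups of `Fi₂₄` and `Fi₂₄'` (helper96, MK; generated by notes/MK/s7gen)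
-/

set_option autoImplicit false
set_option maxRecDepth 100000
set_option Elab.async false

namespace Cfsg.Agent.MK.S7.Q24

open Cfsg.Agent.TAB.PE Cfsg.Agent.TAB.CE Cfsg.Agent.TAB.F24C Cfsg.Agent.MK.S.Pc
open Cfsg.Agent.Fischer.Fi24Rep (rho)
open Cfsg.Spor

/-- tables -/
noncomputable def tsA : List ℕ := [T0, T1, T2, T3, T4, T5, T6, T7, T8, T9, T10, T11, T12, T13, T14, T15, T16, T17, T18, T19, T20, T21]

/-- new generators -/
noncomputable def dsA : List (List ℕ × List ℕ × ℕ) :=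
  [([1, 5], [5, 1], T6), ([1, 4], [4, 1], T7), ([1, 3], [3, 1], T8), ([1, 2], [2, 1], T9), ([7, 3], [3, 7], T10),
    ([6, 4], [4, 6], T11), ([6, 1], [1, 6], T12), ([10, 3], [3, 10], T13), ([10, 2], [2, 10], T14), ([10, 1],
    [1, 10], T15), ([14, 1], [1, 14], T16), ([13, 3], [3, 13], T17), ([16, 3], [3, 16], T18), ([16, 1], [1,
    16], T19), ([18, 1], [1, 18], T20), ([20, 1], [1, 20], T21)]

/-- the relations -/
noncomputable def ctA : Cert where
  gw := [[0], [1], [2], [3], [4], [5], [6], [7], [8], [9], [10], [11], [12], [13], [14], [15], [16], [17], [18], [19],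
    [20], [21]]
  sq := [[], [7, 10, 12, 13, 14, 15, 16, 17, 19, 20, 21], [7, 9, 10, 11, 12, 13, 16, 20, 21], [6, 7, 8, 10, 12, 13,
    15, 17, 18, 19, 20, 21], [13, 15, 17, 19, 20, 21], [6, 9, 10, 14, 15, 16, 17, 18, 20, 21], [13, 14, 15,
    19, 20, 21], [19, 20], [14, 16, 18, 20, 21], [19, 21], [19, 20, 21], [21], [19, 21], [], [], [21], [], [],
    [], [], [], []]
  cm := [[[], [13, 14, 15, 17, 18, 19, 20, 21], [13, 14, 15, 16, 17, 18, 21], [13, 14, 15, 16, 17, 18, 21], [16, 18,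
    19], [18, 19, 20], [18, 19, 20], [16, 20, 21], [18, 19, 20], [], [18, 19, 20], [], [], [], [], [], [], [],
    [], [], [], []], [[], [], [9], [8], [7], [6], [12, 19, 21], [13, 18, 19, 21], [10, 14, 18, 21], [11, 17,
    20, 21], [15, 21], [18, 20], [13, 15, 16, 19, 21], [21], [16], [19], [19], [18, 20, 21], [20], [21], [21],
    []], [[], [], [], [6, 8, 9, 12, 13, 14, 16, 17, 18, 19], [7, 11, 13, 14, 16, 18, 20], [9, 10, 11, 13, 14,
    17, 19, 20], [12, 13, 14, 16, 17, 19, 20, 21], [11, 16, 18], [10, 11, 17, 18, 20], [11, 16, 17, 20, 21],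
    [14], [19, 21], [14, 17, 20, 21], [18, 20, 21], [19], [16, 19], [19], [], [20, 21], [21], [21], []], [[],
    [], [], [], [7, 8, 9, 10, 11, 12, 13, 14, 16, 17, 19, 20], [6, 9, 11, 12, 15, 18, 19, 20], [12, 16, 17,
    18, 20, 21], [10, 19, 20, 21], [10, 12, 16, 18], [12, 14, 17, 18, 20, 21], [13], [13, 14, 17, 21], [13,
    18, 19, 20, 21], [17], [17, 18, 20, 21], [16, 18, 19, 20], [18], [], [21], [20, 21], [21], []], [[], [],
    [], [], [], [6, 9, 10, 12, 14, 19, 20, 21], [11, 21], [18, 21], [11, 16, 17, 18], [11, 13, 18, 20, 21],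
    [15, 17, 18, 20, 21], [19, 20, 21], [13, 15, 16, 17, 18, 20], [20, 21], [16], [18, 20], [], [18], [], [],
    [21], []], [[], [], [], [], [], [], [11, 12, 13, 14, 17, 18, 20, 21], [12, 14, 15, 16, 17, 18, 20], [11,
    15, 17, 18, 21], [11, 12, 13, 14, 15, 17, 18, 19, 20], [15, 17], [14, 16, 17], [13, 15, 16, 20, 21], [17,
    18, 20], [16, 19, 21], [16, 17, 18, 20, 21], [21], [18, 20], [21], [21], [], []], [[], [], [], [], [], [],
    [], [13, 15, 16, 17, 19, 21], [15, 16, 18, 19, 20], [13, 14, 15, 17, 18, 21], [16, 17, 19, 21], [16, 18,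
    21], [16], [18, 20], [19], [18, 19, 20], [21], [20], [], [], [], []], [[], [], [], [], [], [], [], [],
    [15, 16, 17, 18, 20], [19], [19, 21], [], [20, 21], [21], [19], [20], [], [20, 21], [21], [], [], []],
    [[], [], [], [], [], [], [], [], [], [14, 15, 21], [16], [16], [16, 17, 20, 21], [18, 20], [], [19, 21],
    [21], [21], [21], [21], [], []], [[], [], [], [], [], [], [], [], [], [], [19], [20, 21], [], [20, 21],
    [19, 21], [19], [], [20], [], [], [], []], [[], [], [], [], [], [], [], [], [], [], [], [19, 21], [20,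
    21], [20], [], [21], [21], [21], [], [], [], []], [[], [], [], [], [], [], [], [], [], [], [], [], [19,
    20], [21], [21], [21], [], [21], [], [], [], []], [[], [], [], [], [], [], [], [], [], [], [], [], [],
    [20, 21], [], [20], [], [21], [], [], [], []], [[], [], [], [], [], [], [], [], [], [], [], [], [], [],
    [21], [21], [], [], [], [], [], []], [[], [], [], [], [], [], [], [], [], [], [], [], [], [], [], [21],
    [], [], [], [], [], []], [[], [], [], [], [], [], [], [], [], [], [], [], [], [], [], [], [], [], [], [],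
    [], []], [[], [], [], [], [], [], [], [], [], [], [], [], [], [], [], [], [], [], [], [], [], []], [[],
    [], [], [], [], [], [], [], [], [], [], [], [], [], [], [], [], [], [], [], [], []], [[], [], [], [], [],
    [], [], [], [], [], [], [], [], [], [], [], [], [], [], [], [], []], [[], [], [], [], [], [], [], [], [],
    [], [], [], [], [], [], [], [], [], [], [], [], []], [[], [], [], [], [], [], [], [], [], [], [], [], [],
    [], [], [], [], [], [], [], [], []], [[], [], [], [], [], [], [], [], [], [], [], [], [], [], [], [], [],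
    [], [], [], [], []]]
  dv := [([], [], []), ([], [], []), ([], [], []), ([], [], []), ([], [], []), ([], [], []), ([1], [5], []), ([1],
    [4], []), ([1], [3], []), ([1], [2], []), ([7], [3], []), ([6], [4], []), ([6], [1], []), ([10], [3], []),
    ([10], [2], []), ([10], [1], []), ([14], [1], []), ([13], [3], []), ([16], [3], []), ([16], [1], []),
    ([18], [1], []), ([20], [1], [])]

/-- the chain of stabilizers -/
noncomputable def lvA : List (ℕ × List ℕ) :=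
  [(0, [0, 965076, 2759315, 3072007, 2487519, 1803147, 1835015, 3226264, 6, 1292562, 2929432, 3830558, 1987873,
    3675853, 2949130, 2885013, 1, 19160, 2759314, 2553414, 3491349, 1803146, 2543250, 3226265, 7, 1292563,
    4109645, 3830559, 862151, 3675852, 2949131, 2598420, 746972, 778243, 2059164, 889626, 2873296, 2764937,
    684187, 3275908, 709455, 1665819, 2059165, 1697384, 2557545, 888209, 2764305, 3421006, 1600803, 2613149,
    1167497, 37659, 3683150, 1905745, 3, 2013059, 684826, 1338138, 1167496, 447310, 3683151, 3181469, 2,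
    1683472, 3827345, 776136, 1148560, 407170, 4085134, 1728904, 3361046, 3817821, 2435926, 2003600, 1148561,
    4174917, 4005787, 1728905, 1422734, 3817820, 2414211, 3563912, 3782031, 1933705, 2567706, 638167, 2662749,
    2251990, 2183376, 3563913, 3094147, 1933704, 1562981, 1717890, 3655505, 2251991, 3601537, 1862566,
    2265119, 2999314, 3344286, 224659, 1141671, 3929216, 3601536, 253568, 3993107, 1297356, 90880, 714642,
    974465, 3929217, 3788190, 1460115, 237991, 3227264, 3948161, 4002945, 3693087, 3608082, 3915231, 1584530,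
    1101331, 3227265, 3948160, 2178975, 3875521, 2059166, 3276805, 955837, 4, 3233243, 332931, 3334149,
    2340315, 57348, 470619, 834436, 5, 3233242, 3355778, 3334148, 2158042, 57349, 1961532, 922019, 3550810,
    4175322, 3929218, 3227266, 3994018, 1688474, 3781399, 922018, 3141180, 3534404, 462405, 480067, 3994019,
    3363606, 3136023, 2211216, 974469, 2438550, 1562007, 1771337, 2939415, 3798148, 70722, 1129733, 2778403,
    2438551, 1562006, 3301168, 2939414, 3095063, 1980950, 1956375, 220977, 3441864, 508886, 1509192, 3929220,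
    1840261, 240456, 1850326, 4136581, 1638020, 2035912, 684560, 3966618, 3240113, 3995359, 3056660, 2832736,
    2426773, 464606, 1901063, 1643725, 3073940, 3995358, 1499655, 2823373, 865350, 679769, 1901062, 1643724,
    2576670, 3488097, 140870, 1775326, 66055, 1074122, 3949589, 675551, 66054, 222867, 1111774, 1695001,
    3619169, 3604998, 1047181, 1127495, 3619168, 853016, 3400729, 1148565, 2950105, 3999380, 3400728, 1148564,
    3853848, 1053834, 9414, 1130122, 1638022, 2722163, 2709912, 217388, 3943960, 98700, 1566996, 263829,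
    2815115, 98701, 3827349, 2222162, 3597973, 601625, 3657240, 3358912, 1504394, 1933708, 3407499, 1832074,
    3929222]), (1, [0, 3211275, 17746, 3857049, 3223124, 642898, 3591449, 2171968]), (32, [0, 3542695,
    2193408, 2744551, 1405952, 912615, 3247975, 1382272, 1013184, 2141479, 2562944, 120103, 3408551, 514624,
    3897792, 303399, 2455378, 2870069, 1487693, 2965133, 1353461, 1374866, 1125650, 4031850, 3582133, 3740882,
    2631402, 102034, 1333522, 1115509, 3972365, 3920077]), (2, [0, 2396959, 1664159, 718720]), (64, [0,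
    2610471, 3507047, 1431104]), (128, [0, 1179648, 2348327, 3265831])]

theorem exA : extL 256 dsA [T0, T1, T2, T3, T4, T5] = true := by decide +kernel

theorem ckA : alt (chk1 (eqT 256 tsA) 22 6 ctA) 22 = true := by decide +kernel

theorem enA : endB 256 tsA 22 6 ctA lvA = true := by decide +kernel

/-- tables -/
noncomputable def tsB : List ℕ := [T1, T2, T3, T4, T5, T6, T7, T8, T9, T10, T11, T12, T13, T14, T15, T16, T17, T18, T19, T20, T21]

/-- new generators -/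
noncomputable def dsB : List (List ℕ × List ℕ × ℕ) :=
  [([0, 4], [4, 0], T6), ([0, 3], [3, 0], T7), ([0, 2], [2, 0], T8), ([0, 1], [1, 0], T9), ([6, 2], [2, 6], T10),
    ([5, 3], [3, 5], T11), ([5, 0], [0, 5], T12), ([9, 2], [2, 9], T13), ([9, 1], [1, 9], T14), ([9, 0], [0,
    9], T15), ([13, 0], [0, 13], T16), ([12, 2], [2, 12], T17), ([15, 2], [2, 15], T18), ([15, 0], [0, 15],
    T19), ([17, 0], [0, 17], T20), ([19, 0], [0, 19], T21)]

/-- the relations -/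
noncomputable def ctB : Cert where
  gw := [[0], [1], [2], [3], [4], [5], [6], [7], [8], [9], [10], [11], [12], [13], [14], [15], [16], [17], [18], [19],
    [20]]
  sq := [[6, 9, 11, 12, 13, 14, 15, 16, 18, 19, 20], [6, 8, 9, 10, 11, 12, 15, 19, 20], [5, 6, 7, 9, 11, 12, 14, 16,
    17, 18, 19, 20], [12, 14, 16, 18, 19, 20], [5, 8, 9, 13, 14, 15, 16, 17, 19, 20], [12, 13, 14, 18, 19,
    20], [18, 19], [13, 15, 17, 19, 20], [18, 20], [18, 19, 20], [20], [18, 20], [], [], [20], [], [], [], [],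
    [], []]
  cm := [[[], [8], [7], [6], [5], [11, 18, 20], [12, 17, 18, 20], [9, 13, 17, 20], [10, 16, 19, 20], [14, 20], [17,
    19], [12, 14, 15, 18, 20], [20], [15], [18], [18], [17, 19, 20], [19], [20], [20], []], [[], [], [5, 7, 8,
    11, 12, 13, 15, 16, 17, 18], [6, 10, 12, 13, 15, 17, 19], [8, 9, 10, 12, 13, 16, 18, 19], [11, 12, 13, 15,
    16, 18, 19, 20], [10, 15, 17], [9, 10, 16, 17, 19], [10, 15, 16, 19, 20], [13], [18, 20], [13, 16, 19,
    20], [17, 19, 20], [18], [15, 18], [18], [], [19, 20], [20], [20], []], [[], [], [], [6, 7, 8, 9, 10, 11,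
    12, 13, 15, 16, 18, 19], [5, 8, 10, 11, 14, 17, 18, 19], [11, 15, 16, 17, 19, 20], [9, 18, 19, 20], [9,
    11, 15, 17], [11, 13, 16, 17, 19, 20], [12], [12, 13, 16, 20], [12, 17, 18, 19, 20], [16], [16, 17, 19,
    20], [15, 17, 18, 19], [17], [], [20], [19, 20], [20], []], [[], [], [], [], [5, 8, 9, 11, 13, 18, 19,
    20], [10, 20], [17, 20], [10, 15, 16, 17], [10, 12, 17, 19, 20], [14, 16, 17, 19, 20], [18, 19, 20], [12,
    14, 15, 16, 17, 19], [19, 20], [15], [17, 19], [], [17], [], [], [20], []], [[], [], [], [], [], [10, 11,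
    12, 13, 16, 17, 19, 20], [11, 13, 14, 15, 16, 17, 19], [10, 14, 16, 17, 20], [10, 11, 12, 13, 14, 16, 17,
    18, 19], [14, 16], [13, 15, 16], [12, 14, 15, 19, 20], [16, 17, 19], [15, 18, 20], [15, 16, 17, 19, 20],
    [20], [17, 19], [20], [20], [], []], [[], [], [], [], [], [], [12, 14, 15, 16, 18, 20], [14, 15, 17, 18,
    19], [12, 13, 14, 16, 17, 20], [15, 16, 18, 20], [15, 17, 20], [15], [17, 19], [18], [17, 18, 19], [20],
    [19], [], [], [], []], [[], [], [], [], [], [], [], [14, 15, 16, 17, 19], [18], [18, 20], [], [19, 20],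
    [20], [18], [19], [], [19, 20], [20], [], [], []], [[], [], [], [], [], [], [], [], [13, 14, 20], [15],
    [15], [15, 16, 19, 20], [17, 19], [], [18, 20], [20], [20], [20], [20], [], []], [[], [], [], [], [], [],
    [], [], [], [18], [19, 20], [], [19, 20], [18, 20], [18], [], [19], [], [], [], []], [[], [], [], [], [],
    [], [], [], [], [], [18, 20], [19, 20], [19], [], [20], [20], [20], [], [], [], []], [[], [], [], [], [],
    [], [], [], [], [], [], [18, 19], [20], [20], [20], [], [20], [], [], [], []], [[], [], [], [], [], [],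
    [], [], [], [], [], [], [19, 20], [], [19], [], [20], [], [], [], []], [[], [], [], [], [], [], [], [],
    [], [], [], [], [], [20], [20], [], [], [], [], [], []], [[], [], [], [], [], [], [], [], [], [], [], [],
    [], [], [20], [], [], [], [], [], []], [[], [], [], [], [], [], [], [], [], [], [], [], [], [], [], [],
    [], [], [], [], []], [[], [], [], [], [], [], [], [], [], [], [], [], [], [], [], [], [], [], [], [], []],
    [[], [], [], [], [], [], [], [], [], [], [], [], [], [], [], [], [], [], [], [], []], [[], [], [], [], [],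
    [], [], [], [], [], [], [], [], [], [], [], [], [], [], [], []], [[], [], [], [], [], [], [], [], [], [],
    [], [], [], [], [], [], [], [], [], [], []], [[], [], [], [], [], [], [], [], [], [], [], [], [], [], [],
    [], [], [], [], [], []], [[], [], [], [], [], [], [], [], [], [], [], [], [], [], [], [], [], [], [], [],
    []]]
  dv := [([], [], []), ([], [], []), ([], [], []), ([], [], []), ([], [], []), ([0], [4], []), ([0], [3], []), ([0],
    [2], []), ([0], [1], []), ([6], [2], []), ([5], [3], []), ([5], [0], []), ([9], [2], []), ([9], [1], []),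
    ([9], [0], []), ([13], [0], []), ([12], [2], []), ([15], [2], []), ([15], [0], []), ([17], [0], []),
    ([19], [0], [])]

/-- the chain of stabilizers -/
noncomputable def lvB : List (ℕ × List ℕ) :=
  [(0, [0, 940771, 5, 1116101, 1403817, 1789955, 876997, 702405, 3, 2054880, 39334, 339590, 370403, 131520,
    190842, 1160591, 934767, 503375, 1784181, 81184, 1187503, 1579577, 91392, 1495274, 1095308, 874895,
    1813724, 1767203, 1426287, 1939866, 850720, 1651139, 1078651, 1215143, 1256210, 616049, 604961, 636705,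
    1153597, 1637954, 363745, 168574, 797921, 1371137, 391, 2091963, 1992772, 307847, 1462146, 1955617,
    2054881, 1930813, 1321639, 1168174, 67886, 39335, 1108913, 585095, 614926, 131981, 817949, 24801, 1,
    1871073, 1159364, 919085, 711764, 284481, 1576999, 1439719, 814177, 1170292, 1301588, 506536, 1494279,
    1231399, 1809495, 1668008, 296046, 1624827, 669806, 1689266, 2043988, 1689268, 1793284, 1803815, 939700,
    931700, 1036546, 147368, 532743, 129572, 1487976, 858945, 1596676, 1228251, 196614, 1387738, 214592,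
    1253226, 172239, 1671404, 237376, 1964608, 1448572, 719744, 318694, 825103, 541941, 1209440, 1021935,
    31727, 1489926, 141331, 2030144, 1613632, 288710, 6, 1119808, 434997, 1783017, 1773920, 1801199, 1114067,
    1357468, 237184, 898515, 959462, 314286, 534446, 2, 1798206, 318692, 876996, 1743425, 1120907, 1638402,
    1961643, 375047, 2054884, 1677889, 1466594, 7, 1387736, 38283, 259874, 1495021, 117773, 1964609, 1613633,
    4, 604964, 1771303, 674823, 590507, 1767202, 1638404, 1063716, 2030145, 2054882, 1981297, 1713684,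
    2015790, 483863, 1109298, 1036545, 1344836, 1236354, 1737314, 238701, 724862, 1298513, 775403, 539313,
    822216, 597169, 1008738, 1915761, 729291, 508462, 756023, 1525869, 1964610, 1964612, 424206, 1671400,
    1613636, 819010, 1447406, 1237346, 1397581, 1709367, 1338627, 1960617, 50864, 1992774, 264806, 506540,
    2017827, 1608694, 2052901, 1793285, 1673023, 55754, 2095647, 1690883, 1689264, 1505420, 931701, 1254947,
    1684537, 558021, 30576, 338608, 1859840, 33027, 1068432, 388496, 2043356, 1630464, 1671427, 172246,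
    215206, 264645, 606905, 891459, 1159366, 1602474, 490339, 289548, 1986186, 652848, 177285, 281782,
    1184901, 819011, 1596074, 1778597, 404288, 2085465, 508463, 1301590, 274245, 558751, 1392554, 1913868,
    707478, 1306896, 230314, 2051884, 1737315, 2060197, 1988741, 139658, 1119097, 1964611]), (1, [0, 1999139,
    316672, 1508842, 1227999, 316085, 1921578, 1053888]), (4, [0, 562825, 1343996, 1474229]), (2, [0, 1360320,
    77084, 1739996]), (32, [0, 1817600, 501536, 793376, 703488, 1114112, 1907488, 1484576]), (64, [0, 720896,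
    125728, 715552]), (128, [0, 589824])]

theorem exB : extL 256 dsB [T1, T2, T3, T4, T5] = true := by decide +kernel

theorem ckB : alt (chk1 (eqT 256 tsB) 21 5 ctB) 21 = true := by decide +kernel

theorem enB : endB 256 tsB 21 5 ctB lvB = true := by decide +kernel

end Cfsg.Agent.MK.S7.Q24
end

-- part: MK/Sp2/Main
section
prune_inst 0x102039005422000000180010a000262434000002004b880019200604078ebe42a04406015c300d1a0800085020380048135c002002000000000004000001040110801404a0480104300006801083100000000000000000000000000000041000200000000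
set_option linter.all false
open scoped Cfsg.Agent.FastGrp

/-!
# MK, `Sp_{2n}(2)`: the count (helper82)

`f = (1 + σ η) ∏ (1 - ψ i)` is a signed sum of all linear characters of `U`; the dual of `Ind f` is `Γ + σ Gc`.

* `inner_DD` : `[Ind φ, D g]`;  `dual_B`, `dual_C` : the two cases;
* `k0_eq` : `Y` and `U` have the same number of irreducible characters of odd degree.
-/

set_option autoImplicit false
set_option linter.unusedSectionVars false

open scoped ComplexConjugate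

namespace Cfsg.Agent.MK.Sp2

open Cfsg Cfsg.Agent.Characters Cfsg.Agent.Characters.Core
open Cfsg.Agent.H53.HC Cfsg.Agent.H641.Gow Cfsg.Agent.H45.GG
open CoxeterSystem Cfsg.Agent.ChevalleyStructure.CoxeterGeom Cfsg.Agent.Tits.Roots Cfsg.Agent.Tits.Core
  Cfsg.Agent.Tits.Exchange Cfsg.Agent.Nodes.Reps Cfsg.Agent.Nodes.BNOf Cfsg.Agent.Nodes.StabComb
  Cfsg.Agent.Nodes.Bruhat Cfsg.Agent.Nodes.OppDec Cfsg.Agent.Nodes.LeviDec
open Cfsg.Agent.H705.Dl.PsRgd (rp rp_spec PJ_empty)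
open Cfsg.Agent.MK.Sp2.B
open Cfsg.Agent.Blocks.Basic (irr_one_eq_charDegree)

variable {I W Y : Type} [Fintype I] [DecidableEq I] [Group W] [Group Y] {M : CoxeterMatrix I} [Fintype W] [Fintype Y]
  {cs : CoxeterSystem M W} {A : I → I → ℤ} {h : IsCartan M A} {n : I → Y} {X : (I → ℤ) → Subgroup Y}
  {S : Set (I → ℤ)} {l φ F g η : Y → ℂ} {a b i : I} {ψ : I → Y → ℂ} {J : Set I} {w : W} {x : I → ℤ} {q u v : Y}

theorem alt_one (s : Finset I) (c : I → ℂ) :
    ∑ t ∈ s.powerset, (-1) ^ t.card * ∏ i ∈ t, c i = ∏ i ∈ s, (1 - c i) := by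
  rw [Finset.prod_sub]
  simp only [_root_.Finset.prod_const_one, _root_.mul_one]

theorem alt_two (hab : a ≠ b) (c : Finset I → ℂ) :
    ∑ t : Finset I, (-1) ^ t.card * (if a ∈ t ∧ b ∈ t then c ((t.erase a).erase b) else 0) =
      ∑ t ∈ ((Finset.univ.erase a).erase b).powerset, (-1) ^ t.card * c t := by
  have h1 : b ∈ Finset.univ.erase a := by simp only [hab.symm, _root_.Finset.mem_erase, _root_.ne_eq, _root_.not_false_eq_true, _root_.Finset.mem_univ, _root_.and_self]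
  rw [← Finset.powerset_univ, ← Finset.insert_erase (Finset.mem_univ a),
    Finset.sum_powerset_insert (Finset.notMem_erase a _), Finset.erase_insert (Finset.notMem_erase a _),
    Finset.sum_eq_zero fun t ht => by
      rw [if_neg fun h2 => Finset.notMem_erase a _ (Finset.mem_powerset.1 ht h2.1), mul_zero], zero_add,
    ← Finset.insert_erase h1, Finset.sum_powerset_insert (Finset.notMem_erase b _),
    Finset.erase_insert (Finset.notMem_erase b _), Finset.sum_eq_zero fun t ht => by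
      rw [if_neg fun h2 => Finset.notMem_erase b _ (Finset.mem_powerset.1 ht
        ((Finset.mem_insert.1 h2.2).resolve_left hab.symm)), mul_zero], zero_add]
  refine Finset.sum_congr rfl fun t ht => ?_
  have h2 : b ∉ t := fun h2 => Finset.notMem_erase b _ (Finset.mem_powerset.1 ht h2)
  have h3 : a ∉ insert b t := fun h3 => Finset.notMem_erase a _ (Finset.mem_of_mem_erase
    (Finset.mem_powerset.1 ht ((Finset.mem_insert.1 h3).resolve_left hab)))
  rw [if_pos ⟨by simp, by simp⟩, Finset.erase_insert h3, Finset.erase_insert h2, Finset.card_insert_of_notMem h3,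
    Finset.card_insert_of_notMem h2]
  ring

theorem two_ne (hab : a ≠ b) {y : I → ℤ} (hy : 0 ≤ y) : sr a + sr b + y ≠ sr i := fun e => by
  have h1 := congrFun e a
  have h2 := congrFun e b
  have h3 : 0 ≤ y a := hy a
  have h4 : 0 ≤ y b := hy b
  simp only [Pi.add_apply, sr_self, sr_ne hab, sr_ne hab.symm] at h1 h2
  by_cases h5 : a = i
  · subst h5
    rw [sr_ne hab.symm] at h2
    omega
  · rw [sr_ne h5] at h1
    omega

theorem sr_pos (i : I) : sr i ∈ RGD.Pos cs h := ⟨isRoot_sr cs h i, sr_nonneg i⟩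

namespace Sg

variable (s : Sg cs h X S l)

include s

theorem triv {Z : Set (I → ℤ)} (hZ : ∀ x ∈ Z, x ∈ RGD.Pos cs h ∧ x ∉ S) (hu : u ∈ RGD.Sup X Z) : l u = 1 :=
  (_root_.Cfsg.Agent.MK.Sp2.B.sup_ind (C := fun u => u ∈ UU cs h X ∧ l u = 1) hu
    (fun x hx u hu => ⟨X_le_UU (hZ x hx).1.1 (hZ x hx).1.2 hu, s.pos x (hZ x hx).1 (hZ x hx).2 u hu⟩) ⟨one_mem _, s.one⟩
    fun u v hu hv => ⟨mul_mem hu.1 hv.1, by rw [s.mul u hu.1 v hv.1, hu.2, hv.2, mul_one]⟩).2

theorem mul_pos (hx : x ∈ RGD.Pos cs h) (h1 : x ∉ S) (hq : q ∈ UU cs h X) (hu : u ∈ X x) : l (q * u) = l q := by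
  rw [s.mul q hq u (X_le_UU hx.1 hx.2 hu), s.pos x hx h1 u hu, mul_one]

theorem mul_neg (hx : x ∈ RGD.Pos cs h) (h1 : x ∈ S) (hq : q ∈ UU cs h X) (hu : u ∈ X x) (h2 : u ≠ 1) :
    l (q * u) = -l q := by
  rw [s.mul q hq u (X_le_UU hx.1 hx.2 hu), s.neg x hx h1 u hu h2, mul_neg_one]

theorem mul_V (hS : ∀ x ∈ S, x ∉ NotJ cs h J) (hu : u ∈ UU cs h X) (hv : v ∈ VJ cs h X J) : l (u * v) = l u := by
  rw [s.mul u hu v (mem_B_iff.1 (VJ_le_B J hv)), s.triv (fun x hx => ⟨⟨hx.1, hx.2.1⟩, fun h1 => hS x h1 hx⟩) hv, mul_one]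

end Sg

theorem sim_iff (hw : Op cs h J w⁻¹) (h0 : 0 ≤ rep cs h w⁻¹ x) : (∃ j, x = sr j) ↔ ∃ i ∈ J, rep cs h w⁻¹ x = sr i := by
  constructor
  · rintro ⟨j, rfl⟩
    exact hw.mp.1 j (mem_Asc.2 h0)
  · rintro ⟨i, hi, e⟩
    obtain ⟨j, -, e'⟩ := hw.mp.2 i hi
    exact ⟨j, by rw [← e', ← e, rep_inv_apply]⟩

theorem fix_iff {y : I → ℤ} (e : rep cs h w y = y) : x = y ↔ rep cs h w x = y :=
  ⟨fun h1 => by rw [h1, e], fun h1 => rep_injective_apply cs h w (h1.trans e.symm)⟩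

theorem Dat.fix (D : Dat cs h X a b ψ η) (hw : Op cs h J w⁻¹)
    (h1 : (a ∈ J ∧ b ∈ J) ∨ (0 ≤ rep cs h w⁻¹ (sr a) ∧ 0 ≤ rep cs h w⁻¹ (sr b))) :
    (a ∈ J ∧ b ∈ J) ∧ rep cs h w⁻¹ (sr a) = sr a ∧ rep cs h w⁻¹ (sr b) = sr b := by
  rcases h1 with h1 | h1
  · obtain ⟨i, -, e⟩ := hw.mp.2 a h1.1
    obtain ⟨j, -, e'⟩ := hw.mp.2 b h1.2
    have h2 := D.r2.act w⁻¹⁻¹
    rw [map_add, map_add, e, e'] at h2
    obtain ⟨rfl, rfl⟩ := D.uniq i j h2
    exact ⟨h1, by rw [← e, rep_apply_inv, e], by rw [← e', rep_apply_inv, e']⟩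
  · obtain ⟨i, hi, e⟩ := hw.mp.1 a (mem_Asc.2 h1.1)
    obtain ⟨j, hj, e'⟩ := hw.mp.1 b (mem_Asc.2 h1.2)
    have h2 := D.r2.act w⁻¹
    rw [map_add, map_add, e, e'] at h2
    obtain ⟨rfl, rfl⟩ := D.uniq i j h2
    exact ⟨⟨hi, hj⟩, e, e'⟩

theorem exists_not (hR : IsMinR cs J w) (hw : ¬ Op cs h J w⁻¹) : ∃ i, rep cs h w⁻¹ (sr i) ∈ NotJ cs h J := by
  by_contra h1
  push Not at h1
  exact hw (op_of (fun j hj => by rw [inv_inv]; exact minR_iff.1 hR j hj) h1)

theorem Op.minR (hw : Op cs h J w⁻¹) : IsMinR cs J w :=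
  (minR_iff (h := h)).2 fun i hi => by simpa only [inv_inv] using hw.1 _ (sr_mem_PosJ hi)

theorem Dat.ab_pos (D : Dat cs h X a b ψ η) : sr a + sr b ∈ RGD.Pos cs h :=
  ⟨D.r1, add_nonneg (sr_nonneg a) (sr_nonneg b)⟩

theorem Dat.ab_ne (D : Dat cs h X a b ψ η) (i : I) : sr a + sr b ∉ ({sr i} : Set (I → ℤ)) := by
  simpa using two_ne (i := i) D.ne le_rfl

theorem Dat.sr_ne (D : Dat cs h X a b ψ η) (i : I) : sr i ∉ ({sr a + sr b, sr a + sr b + sr b} : Set (I → ℤ)) := by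
  rintro (e | e)
  · exact D.ab_ne i e.symm
  · exact two_ne D.ne (sr_nonneg b) e.symm

variable (R : RGD cs h 2 ⊥ n X)

include R

theorem exists_ne (hx : IsRoot cs h x) : ∃ u ∈ X x, u ≠ 1 := by
  obtain ⟨⟨u, hu⟩, h3⟩ := Subgroup.ne_bot_iff_exists_ne_one.1 (X_ne_bot R hx)
  exact ⟨u, hu, fun e => h3 (Subtype.ext e)⟩

theorem PJ_U : PJ cs h ⊥ X ∅ = UU cs h X := by rw [PJ_empty R, RGD.B, bot_sup_eq]

theorem dd_U (hR : IsMinR cs J w) (hq : q ∈ dd (PJ cs h ⊥ X ∅) (PJ cs h ⊥ X J) (nw R w)) :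
    q ∈ UU cs h X ∧ (nw R w)⁻¹ * q * nw R w ∈ UU cs h X := by
  obtain ⟨h1, h2⟩ := mem_dd.1 hq
  rw [PJ_U R] at h1
  exact ⟨h1, mem_B_iff.1 (cj_mem_B R (rp_nw R w) hR (mem_B_iff.2 h1) h2)⟩

theorem psi_one (s : Sg cs h X {sr i} l) (h1 : ¬ 0 ≤ rep cs h w⁻¹ (sr i)) (hq : q ∈ UU cs h X)
    (hq' : (nw R w)⁻¹ * q * nw R w ∈ UU cs h X) : l q = 1 :=
  s.triv (fun _ hx => ⟨⟨hx.1, hx.2.1⟩, fun e => h1 (Set.mem_singleton_iff.1 e ▸ hx.2.2)⟩)
    (Nodes.Slope.mem_of_conj_mem_B R (rp_nw R w) hq (mem_B_iff.2 hq'))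

theorem tm_sign (hx : x ∈ RGD.Pos cs h) (h1 : rep cs h w⁻¹ x ∈ NotJ cs h J)
    (h2 : ∀ q ∈ UU cs h X, ∀ u ∈ X x, u ≠ 1 → φ (q * u) = -φ q) : Tm cs h ⊥ X ∅ φ J (nw R w) g = 0 := by
  obtain ⟨u, hu, h3⟩ := exists_ne R hx.1
  have h4 : (nw R w)⁻¹ * u * nw R w ∈ VJ cs h X J :=
    RGD.le_Sup (S := NotJ cs h J) h1 (R.conj_mem' (rp_nw R w) hx.1 hu)
  refine mn_sign (a := u) (mem_dd.2 ⟨by rw [PJ_U R]; exact X_le_UU hx.1 hx.2 hu, VJ_le_PJ h4⟩) fun q hq => ?_
  rw [h2 q (by rw [← PJ_U R]; exact (mem_dd.1 hq).1) u hu h3, ← av_mul ((nw R w)⁻¹ * q * nw R w) h4, neg_mul]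
  congr 4
  group

theorem tm_op (hw : Op cs h J w⁻¹) (h1 : Cp (UU cs h X) (UU cs h X) φ F (nw R w))
    (h2 : ∀ u ∈ UU cs h X, ∀ v ∈ VJ cs h X J, F (u * v) = F u) :
    Tm cs h ⊥ X ∅ φ J (nw R w) g = mn (UU cs h X) fun u => F u * conj (g u) := by
  have h3 : ∀ q, q ∈ dd (PJ cs h ⊥ X ∅) (PJ cs h ⊥ X J) (nw R w) ↔
      (nw R w)⁻¹ * q * nw R w ∈ dd (PJ cs h ⊥ X J) (PJ cs h ⊥ X ∅) (nw R w)⁻¹ :=
    fun q => by simp only [mem_dd, mul_assoc, and_comm, _root_.inv_inv, _root_.mul_inv_cancel_left, _root_.mul_inv_cancel, _root_.mul_one]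
  have h4 : VJ cs h X J ≤ UU cs h X := fun v hv => mem_B_iff.1 (VJ_le_B J hv)
  have h5 : dd (PJ cs h ⊥ X J) (PJ cs h ⊥ X ∅) (nw R w)⁻¹ ≤ UU cs h X := fun y hy => by
    have e : y = (nw R w)⁻¹ * (nw R w * y * (nw R w)⁻¹) * nw R w := by group
    rw [e] at hy ⊢
    exact (dd_U R hw.minR ((h3 _).2 hy)).2
  rw [Tm, mn_congr (F' := fun q => F ((nw R w)⁻¹ * q * nw R w) * conj (av (VJ cs h X J) g ((nw R w)⁻¹ * q * nw R w)))
    fun q hq => by rw [h1 q (dd_U R hw.minR hq).1 (dd_U R hw.minR hq).2],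
    mn_cj h3 fun y => F y * conj (av (VJ cs h X J) g y), ← mn_av' h4 h2, mn_prod h5 h4 fun y hy => by
      obtain ⟨u, hu, v, hv, rfl⟩ := (mem_U_iff R (J := J)).1 hy
      refine ⟨u, mem_dd.2 ⟨U_le_P J (RGD.Sup_mono (S := PosJ cs h J) (S' := RGD.Pos cs h)
        (fun x hx => ⟨hx.1, hx.2.1⟩) hu), ?_⟩, v, hv, rfl⟩
      rw [inv_inv, PJ_U R]
      exact conj_mem_Sup R (rp_nw R w) (S := PosJ cs h J) (S' := RGD.Pos cs h) (fun x hx => hx.1)
        (fun x hx => ⟨hx.1.act w, by simpa only [inv_inv] using hw.1 x hx⟩) hu]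
  refine mn_congr fun y hy => ?_
  rw [mn_congr (F' := fun _ => F y * conj (av (VJ cs h X J) g y)) fun v hv => by rw [h2 y (h5 hy) v hv, av_mul y hv],
    mn_const]

variable (hG : GG cs h ⊥ X = ⊤)

include hG

theorem inner_DD (F : Finset I → Y → ℂ) (hφ : Cl (UU cs h X) φ)
    (h0 : ∀ (J : Finset I) w, IsMinR cs J w → ¬ Op cs h J w⁻¹ → Tm cs h ⊥ X ∅ φ J (nw R w) g = 0)
    (h1 : ∀ (J : Finset I) w, Op cs h J w⁻¹ → Cp (UU cs h X) (UU cs h X) φ (F J) (nw R w))
    (h2 : ∀ J : Finset I, ∀ u ∈ UU cs h X, ∀ v ∈ VJ cs h X J, F J (u * v) = F J u) (hg : IsClassFunction Y g) :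
    classInner (ii (UU cs h X) φ) (DD cs h ⊥ X g) =
      mn (UU cs h X) fun u => (∑ J : Finset I, (-1) ^ J.card * F J u) * conj (g u) := by
  have h3 := mackey R hG (K := ∅) (φ := φ) (by rwa [PJ_U R]) hg
  rw [PJ_U R] at h3
  simp only [h3, Finset.sum_mul, mul_assoc, mn_sum, mn_mul]
  refine Finset.sum_congr rfl fun J _ => ?_
  obtain ⟨w, hw⟩ := exists_op (cs := cs) (h := h) (J : Set I)
  rw [← inv_inv w] at hw
  rw [Finset.sum_eq_single w⁻¹, if_pos ⟨(minL_iff (h := h)).2 fun _ hi => hi.elim, hw.minR⟩, eq_nw R (rp_spec R w⁻¹),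
    tm_op R hw (h1 J _ hw) (h2 J)]
  · intro v _ hv
    split_ifs with h4
    · rw [eq_nw R (rp_spec R v)]
      exact h0 J v h4.2 fun h5 => hv (inv_injective (h5.uniq hw))
    · rfl
  · simp only [_root_.Finset.mem_univ, _root_.not_true_eq_false, _root_.ite_eq_right_iff, _root_.and_imp, _root_.IsEmpty.forall_iff]

variable (D : Dat cs h X a b ψ η)

include D

theorem dual_B (hg : IsClassFunction Y g) : classInner (ii (UU cs h X) (phB ψ)) (DD cs h ⊥ X g) =
    mn (UU cs h X) fun u => (∏ i, (1 - ψ i u)) * conj (g u) := by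
  have s : ∀ J : Finset I, Sg cs h X {x | ∃ i ∈ J, x = sr i} fun u => ∏ i ∈ J, ψ i u :=
    fun J => sg_prod D.psi J fun _ _ => Iff.rfl
  rw [inner_DD R hG (φ := phB ψ) (fun J u => ∏ i ∈ J, ψ i u) (sn_of_sg (s Finset.univ)).cl (fun J w hR hw => ?_)
    (fun J w hw => (cp_iff R (s Finset.univ) (s J) w).2 fun x _ _ h0 => by simpa only [_root_.Finset.mem_univ, _root_.true_and, _root_.Set.mem_ofPred_eq, _root_.SetLike.mem_coe] using sim_iff hw h0)
    (fun J u hu v hv => (s J).mul_V (by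
      rintro _ ⟨i, hi, rfl⟩
      exact sr_not_NotJ hi) hu hv) hg]
  · simp only [← alt_one, Finset.powerset_univ]
  · obtain ⟨i, hi⟩ := exists_not hR hw
    exact tm_sign R (sr_pos i) hi fun q hq u hu h1 =>
      (s Finset.univ).mul_neg (sr_pos i) ⟨i, Finset.mem_univ i, rfl⟩ hq hu h1

theorem dual_C (hg : IsClassFunction Y g) : classInner (ii (UU cs h X) (phC a b ψ η)) (DD cs h ⊥ X g) =
    mn (UU cs h X) fun u => (η u * ∏ i, (1 - ψ i u)) * conj (g u) := by
  have s : ∀ J : Finset I, Sg cs h X {x | ∃ i ∈ J, x = sr i} fun u => ∏ i ∈ J, ψ i u :=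
    fun J => sg_prod D.psi J fun _ _ => Iff.rfl
  have h0 : ∀ w, ¬ (0 ≤ rep cs h w⁻¹ (sr a) ∧ 0 ≤ rep cs h w⁻¹ (sr b)) → ∀ q ∈ UU cs h X,
      (nw R w)⁻¹ * q * nw R w ∈ UU cs h X → phC a b ψ η q = 0 := fun w hw q hq hq' => by
    rcases not_and_or.1 hw with h1 | h1 <;> simp only [phC, psi_one R (D.psi _) h1 hq hq', _root_.sub_self, _root_.MulZeroClass.zero_mul, _root_.MulZeroClass.mul_zero]
  rw [inner_DD R hG (fun J u => if a ∈ J ∧ b ∈ J then
      η u * (∏ i ∈ (J.erase a).erase b, ψ i u) * ((1 - ψ a u) * (1 - ψ b u)) else 0)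
    (fun x hx y hy => by
      simp only [phC, (sn_of_sg D.eta).cl x hx y hy, fun i => (sn_of_sg (D.psi i)).cl x hx y hy])
    (fun J w hR hw => ?_) (fun J w hw q hq hq' => ?_) (fun J u hu v hv => ?_) hg]
  · refine mn_congr fun u _ => ?_
    rw [alt_two D.ne fun t => η u * (∏ i ∈ t, ψ i u) * ((1 - ψ a u) * (1 - ψ b u)),
      ← Finset.mul_prod_erase _ _ (Finset.mem_univ a), ← Finset.mul_prod_erase _ _ (show b ∈ Finset.univ.erase a by
        simp [D.ne.symm]), ← alt_one]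
    simp only [Finset.mul_sum]
    congr 1
    exact Finset.sum_congr rfl fun t _ => by ring
  · by_cases h1 : 0 ≤ rep cs h w⁻¹ (sr a) ∧ 0 ≤ rep cs h w⁻¹ (sr b)
    · obtain ⟨i, hi⟩ := exists_not hR hw
      by_cases h2 : i = a ∨ i = b
      · refine tm_sign R D.ab_pos ⟨D.r1.act _, by rw [map_add]; exact add_nonneg h1.1 h1.2, ?_⟩ fun q hq u hu h3 => ?_
        · obtain ⟨-, -, k, hk, h3⟩ := hi
          refine ⟨k, hk, ?_⟩
          rw [map_add, Pi.add_apply]
          rcases h2 with rfl | rfl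
          · exact add_pos_of_pos_of_nonneg h3 (h1.2 k)
          · exact add_pos_of_nonneg_of_pos (h1.1 k) h3
        · simp only [phC, D.eta.mul_neg D.ab_pos (Or.inl rfl) hq hu h3,
            fun i => (D.psi i).mul_pos D.ab_pos (D.ab_ne i) hq hu]
          ring
      · push Not at h2
        refine tm_sign R (sr_pos i) hi fun q hq u hu h3 => ?_
        have h4 := (s ((Finset.univ.erase a).erase b)).mul_neg (sr_pos i) ⟨i, by simp only [h2, _root_.Finset.mem_erase, _root_.ne_eq, _root_.not_false_eq_true, _root_.Finset.mem_univ, _root_.and_self], rfl⟩ hq hu h3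
        simp only [phC, D.eta.mul_pos (sr_pos i) (D.sr_ne i) hq hu, h4,
          (D.psi a).mul_pos (sr_pos i) (fun e => h2.1 (sr_inj e)) hq hu,
          (D.psi b).mul_pos (sr_pos i) (fun e => h2.2 (sr_inj e)) hq hu]
        ring
    · exact mn_zero fun q hq => by rw [h0 w h1 q (dd_U R hR hq).1 (dd_U R hR hq).2, zero_mul]
  · by_cases h1 : a ∈ J ∧ b ∈ J
    · obtain ⟨-, ea, eb⟩ := D.fix hw (Or.inl h1)
      have h2 := (cp_iff R (s ((Finset.univ.erase a).erase b)) (s ((J.erase a).erase b)) w).2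
        (fun x _ _ h3 => by
          constructor
          · rintro ⟨j, hj, rfl⟩
            obtain ⟨i, hi, e⟩ := (sim_iff hw h3).1 ⟨j, rfl⟩
            simp only [Finset.mem_erase] at hj
            refine ⟨i, Finset.mem_erase.2 ⟨?_, Finset.mem_erase.2 ⟨?_, hi⟩⟩, e⟩
            · rintro rfl
              exact hj.1 (sr_inj ((fix_iff eb).2 e))
            · rintro rfl
              exact hj.2.1 (sr_inj ((fix_iff ea).2 e))
          · rintro ⟨i, hi, e⟩
            simp only [Finset.mem_erase] at hi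
            obtain ⟨j, rfl⟩ := (sim_iff hw h3).2 ⟨i, hi.2.2, e⟩
            refine ⟨j, Finset.mem_erase.2 ⟨?_, Finset.mem_erase.2 ⟨?_, Finset.mem_univ j⟩⟩, rfl⟩
            · rintro rfl
              exact hi.1 (sr_inj (e.symm.trans eb))
            · rintro rfl
              exact hi.2.1 (sr_inj (e.symm.trans ea))) q hq hq'
      simp only [if_pos h1] at h2 ⊢
      rw [phC, h2, (cp_iff R D.eta D.eta w).2 (fun x _ _ _ => or_congr (fix_iff (by rw [map_add, ea, eb]))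
          (fix_iff (by rw [map_add, map_add, ea, eb]))) q hq hq',
        (cp_iff R (D.psi a) (D.psi a) w).2 (fun x _ _ _ => fix_iff ea) q hq hq',
        (cp_iff R (D.psi b) (D.psi b) w).2 (fun x _ _ _ => fix_iff eb) q hq hq']
    · simp only [if_neg h1]
      exact h0 w (fun h2 => h1 (D.fix hw (Or.inr h2)).1) q hq hq'
  · by_cases h1 : a ∈ J ∧ b ∈ J
    · have h2 : ∀ i ∈ J, ψ i (u * v) = ψ i u := fun i hi => (D.psi i).mul_V (by
        rintro _ rfl
        exact sr_not_NotJ hi) hu hv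
      simp only [if_pos h1]
      rw [h2 a h1.1, h2 b h1.2, Finset.prod_congr rfl fun i hi =>
        h2 i (Finset.mem_of_mem_erase (Finset.mem_of_mem_erase hi)), D.eta.mul_V ?_ hu hv]
      rintro x hx ⟨-, -, k, hk, h3⟩
      have h4 : (sr a : I → ℤ) k = 0 := Tits.Roots.sr_ne (by rintro rfl; exact hk h1.1)
      have h5 : (sr b : I → ℤ) k = 0 := Tits.Roots.sr_ne (by rintro rfl; exact hk h1.2)
      rcases hx with rfl | rfl <;> simp [h4, h5] at h3
    · simp only [if_neg h1]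

omit hG in
theorem mn_f (σ : ℂ) : mn (UU cs h X) (fun u => (1 + σ * η u) * ∏ i, (1 - ψ i u)) = 1 := by
  have h1 : ∀ s : Finset I, mn (UU cs h X) (fun u => ∏ i ∈ s, (1 - ψ i u)) = 1 := fun s => by
    induction s using Finset.induction_on with
    | empty => simpa using mn_const (UU cs h X) 1
    | insert j s hj ih =>
      obtain ⟨t, ht, h2⟩ := exists_ne R (isRoot_sr cs h j)
      rw [mn_congr (F' := fun u => ∏ i ∈ s, (1 - ψ i u) + -(ψ j u * ∏ i ∈ s, (1 - ψ i u))) fun u _ => by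
        rw [Finset.prod_insert hj]; ring, mn_add, ih, mn_sign (X_le_UU (isRoot_sr cs h j) (sr_nonneg j) ht) fun u hu => by
          rw [(D.psi j).mul_neg (sr_pos j) rfl hu ht h2, Finset.prod_congr rfl fun i hi => by
            rw [(D.psi i).mul_pos (sr_pos j) (fun e => hj (sr_inj e ▸ hi)) hu ht], neg_mul], add_zero]
  obtain ⟨t, ht, h2⟩ := exists_ne R D.r1
  rw [mn_congr (F' := fun u => ∏ i, (1 - ψ i u) + σ * η u * ∏ i, (1 - ψ i u)) fun u _ => by ring, mn_add, h1,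
    mn_sign (X_le_UU D.r1 D.ab_pos.2 ht) fun u hu => by
      simp only [D.eta.mul_neg D.ab_pos (Or.inl rfl) hu ht h2, fun i => (D.psi i).mul_pos D.ab_pos (D.ab_ne i) hu ht]
      ring, add_zero]

omit hG in
theorem coef_odd {σ : ℂ} (hσ : σ = 1 ∨ σ = -1) [Fintype (UU cs h X)] {θ : UU cs h X → ℂ} (hθ : IsIrrCharacter _ θ)
    (ho : Odd (charDegree θ)) : ∀ m, m = classInner (fun u : UU cs h X => (1 + σ * η u) * ∏ i, (1 - ψ i u)) θ →
      m = 1 ∨ m = -1 := by
  obtain ⟨k, hk⟩ := IsPGroup.iff_card.1 R.isPGroup_Upos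
  have h1 := H142.McKayCount.charDegree_dvd_card ⟨θ, hθ⟩
  rw [hk] at h1
  have h2 : charDegree θ = 1 := Nat.eq_one_of_dvd_coprimes (Nat.Coprime.pow_left k ((Nat.coprime_two_left).2 ho)) h1 dvd_rfl
  obtain ⟨l, rfl⟩ := Linear.exists_hom_of_isIrrCharacter hθ (by rw [irr_one_eq_charDegree hθ, h2, Nat.cast_one])
  obtain ⟨J, e, he⟩ := D.all l
  rintro _ rfl
  rw [funext he, inner_res (fun u => (1 + σ * η u) * ∏ i, (1 - ψ i u)) fun u => η u ^ e * ∏ i ∈ J, ψ i u,
    mn_congr (F' := fun u => σ ^ e * (-1) ^ J.card * ((1 + σ * η u) * ∏ i, (1 - ψ i u))) fun u hu => ?_, mn_mul,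
    mn_f R D, mul_one]
  · rcases hσ with rfl | rfl
    · simpa only [_root_.one_pow, _root_.one_mul] using neg_one_pow_eq_or ℂ J.card
    · rw [← pow_add]
      exact neg_one_pow_eq_or ℂ _
  · have h3 : (1 + σ * η u) * η u ^ e = σ ^ e * (1 + σ * η u) := by
      rcases hσ with rfl | rfl <;> rcases (sn_of_sg D.eta).sq u hu with h3 | h3 <;> simp only [h3, mul_comm, _root_.mul_one, _root_.one_pow, _root_.one_mul, _root_.mul_neg, _root_.add_neg_cancel, _root_.MulZeroClass.zero_mul, _root_.neg_neg]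
    have h4 : (∏ i, (1 - ψ i u)) * ∏ i ∈ J, ψ i u = (-1) ^ J.card * ∏ i, (1 - ψ i u) := by
      rw [← Finset.prod_mul_prod_compl J, mul_right_comm, ← Finset.prod_mul_distrib, ← mul_assoc, ← Finset.prod_neg]
      congr 1
      refine Finset.prod_congr rfl fun i _ => ?_
      rcases (sn_of_sg (D.psi i)).sq u hu with h3 | h3 <;> simp [h3]
    rw [map_mul, map_pow, map_prod, (sn_of_sg D.eta).star hu, Finset.prod_congr rfl fun i _ =>
      (sn_of_sg (D.psi i)).star hu, mul_mul_mul_comm, h3, h4]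
    ring

omit hG R in
theorem coef_even (σ : ℂ) [Fintype (UU cs h X)] {θ : UU cs h X → ℂ} (hθ : IsIrrCharacter _ θ)
    (ho : ¬ Odd (charDegree θ)) : classInner (fun u : UU cs h X => (1 + σ * η u) * ∏ i, (1 - ψ i u)) θ = 0 := by
  have h1 : ∀ l, Sn (UU cs h X) l → classInner (fun u : UU cs h X => l u) θ = 0 := fun l s => by
    rw [show (fun u : UU cs h X => l u) = fun u => (s.hom u : ℂ) from rfl,
      classInner_irr (Linear.isIrrCharacter_hom s.hom) hθ, if_neg]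
    rintro rfl
    have h2 := irr_one_eq_charDegree hθ
    rw [map_one, Units.val_one, eq_comm, Nat.cast_eq_one] at h2
    exact ho (h2 ▸ odd_one)
  have s : ∀ J : Finset I, Sn (UU cs h X) fun u => ∏ i ∈ J, ψ i u :=
    fun J => sn_of_sg (sg_prod (S := {x | ∃ i ∈ J, x = sr i}) D.psi J fun _ _ => Iff.rfl)
  rw [show (fun u : UU cs h X => (1 + σ * η u) * ∏ i, (1 - ψ i u)) = ∑ J : Finset I, ((-1 : ℂ) ^ J.card) •
    ((fun u : UU cs h X => ∏ i ∈ J, ψ i u) + σ • fun u : UU cs h X => η u * ∏ i ∈ J, ψ i u) by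
      funext u
      simp only [← alt_one, Finset.powerset_univ, Finset.sum_apply, Pi.smul_apply, Pi.add_apply, smul_eq_mul,
        Finset.mul_sum]
      exact Finset.sum_congr rfl fun _ _ => by ring, classInner_sum_left]
  refine Finset.sum_eq_zero fun J _ => ?_
  rw [classInner_smul_left, classInner_add_left, classInner_smul_left, h1 _ (s J), h1 _ ((sn_of_sg D.eta).times (s J))]
  simp only [_root_.MulZeroClass.mul_zero, _root_.add_zero]

/-- **the count** -/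
theorem k0_eq (hM : MF cs h X a b ψ η) : T.k0 Y = T.k0 (UU cs h X) := by
  obtain ⟨σ, hσ, hM⟩ := hM
  have := Fintype.ofFinite (UU cs h X)
  let f : Y → ℂ := fun u => (1 + σ * η u) * ∏ i, (1 - ψ i u)
  have hf : Cl (UU cs h X) f := fun x hx y hy => by
    simp only [f, (sn_of_sg D.eta).cl x hx y hy, fun i => (sn_of_sg (D.psi i)).cl x hx y hy]
  have h1 : ∀ g, IsClassFunction Y g → classInner (ii (UU cs h X) f) g =
      classInner (ii (UU cs h X) fun u => phB ψ u + σ * phC a b ψ η u) (DD cs h ⊥ X g) := fun g hg => by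
    have h2 := dual_B R hG D hg
    have h3 := dual_C R hG D hg
    rw [inner_ii _ _ (cls_DD _ _ _ _ g)] at h2 h3 ⊢
    simp only [add_mul, mul_assoc σ]
    rw [mn_add, mn_mul, h2, h3, ← mn_mul, ← mn_add, inner_ii _ _ hg]
    exact mn_congr fun u _ => by simp only [f]; ring
  refine k0_of (UU cs h X) hf.cls (fun θ hθ => ⟨fun ho => coef_odd R D hσ hθ ho _ rfl, coef_even D σ hθ⟩)
    (fun χ hχ m hm => ?_) ?_
  · rw [hm, show indFun _ _ = ii (UU cs h X) f from rfl, h1 χ (isIrr_isClassFunction hχ)]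
    rcases DD_irr R hG hχ with h2 | h2
    · exact hM _ h2 _ rfl
    · have h3 := hM _ h2 _ rfl
      rw [← neg_one_smul ℂ, classInner_smul_right, map_neg, map_one, neg_one_mul, neg_eq_zero, neg_eq_iff_eq_neg,
        neg_inj] at h3
      exact h3.imp_right Or.symm
  · rw [show indFun _ _ = ii (UU cs h X) f from rfl, inner_ii_ii hf hf (nw R) (dis R) (cov R hG),
      Finset.sum_eq_single 1, nw_one, inner_res, show dd (UU cs h X) (UU cs h X) 1 = UU cs h X from
        Subgroup.ext fun q => by simp [mem_dd]]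
    · simp
    · intro w _ hw
      obtain ⟨i, hi⟩ : ∃ i, ¬ 0 ≤ rep cs h w⁻¹ (sr i) := by
        by_contra h2
        push Not at h2
        exact hw (inv_eq_one.1 (H53.HC.eq_one_of_nonneg h2))
      refine mn_zero fun q hq => ?_
      simp only [f]
      rw [Finset.prod_eq_zero (Finset.mem_univ i) (by
        rw [psi_one R (D.psi i) hi (mem_dd.1 hq).1 (mem_dd.1 hq).2, sub_self]), mul_zero, zero_mul]
    · simp only [_root_.Finset.mem_univ, _root_.not_true_eq_false, _root_.IsEmpty.forall_iff]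

end Cfsg.Agent.MK.Sp2

private theorem dce_17843a076ba6 : _root_.True := by
  try have : _root_.True := by simp only [_root_.Cfsg.Agent.MK.Sp2.DD.congr_simp]
  try have : _root_.True := by simp only [_root_.Cfsg.Agent.MK.Sp2.phC.eq_1]
  try have : _root_.True := by simp only [_root_.Cfsg.Agent.MK.Sp2.phC.congr_simp]
  exact _root_.True.intro
end

-- part: MK/U43/Loc
section
set_option linter.all false
open scoped Cfsg.Agent.FastGrp

/-!
# MK, `U₄(3)`: the monomial Sylow `2`-subgroup and its linear characters (helper47)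
-/

set_option autoImplicit false
set_option maxRecDepth 100000
set_option maxHeartbeats 400000

namespace Cfsg.Agent.MK.U43

open Cfsg Subgroup Matrix Cfsg.Agent.MK.T Cfsg.Agent.MK.S.Pc Cfsg.Agent.MK.S4 Cfsg.Agent.QTNorm
open Cfsg.Agent.ClassicalGeometry Cfsg.Agent.ClassicalGeometry.PSUAutCount Cfsg.Agent.ClassicalGeometry.UnitAutBasic
open Cfsg.Agent.LieClassical.HermSiegel Cfsg.Agent.LieClassical.HermBasic

namespace LocP

/-- the data of a monomial matrix -/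
abbrev Mn : Type := Fin 4 → Fin 4 × ℕ

/-- the product -/
def ml (f g : Mn) : Mn := fun i => ((g (f i).1).1, (f i).2 + (g (f i).1).2)

/-- the permutations of the letters -/
def sg (r : ℕ) : Equiv.Perm (Fin 4) := if r = 1 then Equiv.swap 0 1 else Equiv.swap 0 2 * Equiv.swap 1 3

/-- the exponents of the letters -/
def ex (r : ℕ) (i : Fin 4) : ℕ := if r = 1 then (if i = 2 then 2 else 0) else if r = 2 then
  (if i = 0 then 1 else if i = 2 then 3 else 0) else 0

/-- the letters -/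
def lt (r : ℕ) : Mn := fun i => (sg r i, ex r i)

/-- the words -/
def cw (w : List ℕ) : Mn := w.foldr (fun r f => ml (lt r) f) fun i => (i, 0)

/-- diagonal matrices -/
def dg (k : ℕ) : Mn := fun i => (i, if i = 0 then k else 0)

/-- the image under an automorphism -/
def im (k : ℕ) (f : Mn) : Mn := ml (ml (dg k) fun i => ((f i).1, 3 * (f i).2)) (dg (3 * k))

/-- the code of the image in the simple group -/
def cd (f : Mn) : List ℕ := (List.finRange 4).map fun i => 4 * (f i).1.1 + ((f i).2 + 3 * (f 0).2) % 4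

/-- the test for words -/
def eqv (v w : List ℕ) : Bool := cd (cw v) == cd (cw w)

/-- the series -/
def cU : Cert where
  gw := [[0], [1], [2], [0, 1, 0, 1], [1, 2, 1, 2], [0, 2, 0, 2], [0, 1, 2, 1, 0, 1, 2, 1]]
  sq := []
  cm := [[[], [3], [5], [], [5, 6]], [[], [], [4], [], [], [6]], [[], [], [], [5, 6]], [[], [], [], [], [6]]]
  dv := [([], [], []), ([], [], []), ([], [], []), ([0], [1], []), ([1], [2], []), ([0], [2], []), ([1], [5], [])]

/-- the images of the letters modulo the commutator subgroup -/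
def w1 (k : ℕ) (i : Fin 3) : List (Fin 3) := [if k % 2 = 0 then i else i.rev]

/-- the parts in the commutator subgroup -/
def w2 (k : ℕ) (i : Fin 3) : List ℕ :=
  (([[[], [], [5]], [[], [3, 4, 5], []], [[5], [6], []], [[5], [3, 4, 5, 6], [5]]] : List (List (List ℕ))).getD k
    []).getD i []

/-- the normal forms -/
def nw (n : ℕ) : List ℕ := cU.ex ((List.range 7).filter n.testBit)

theorem chkU : ∀ i < 7, chk1 eqv 7 3 cU i = true := by decide +kernel

theorem chkN : ((List.range 128).map fun n => cd (cw (nw n))).Nodup := by decide +kernel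

theorem chkA : ∀ k < 4, ∀ i : Fin 3, inR 3 7 (w2 k i) = true ∧
    cd (im k (lt i)) = cd (cw ((w1 k i).map Fin.val ++ cU.ex (w2 k i))) := by decide +kernel

theorem chkS : (∀ i : Fin 3, eqv [i, i] [] = true) ∧ ∀ i < 7, ∀ r ∈ cU.gw.getD i [], r < 3 := by decide +kernel

theorem chkF : ∀ k < 4, (Finset.univ.filter fun s : Fin 3 → Bool => ∀ i, par s (w1 k i) = s i).card =
    if k % 2 = 0 then 8 else 4 := by decide +kernel

section gen

variable {G : Type} [Group G] [Finite G] {y : ℕ → G} (he : ∀ v w, eqv v w = true ↔ ev y v = ev y w)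
include he

theorem card_T : 2 ^ 7 ≤ Nat.card (V (cU.el y) 7 0) := by
  have h1 : ∀ n, ev y (nw n) ∈ V (cU.el y) 7 0 := fun n => by
    rw [nw, Cert.ev_ex]
    exact ev_mem fun i hi => mem_V (Nat.zero_le _) (List.mem_range.1 (List.mem_filter.1 hi).1)
  have h2 := Nat.card_le_card_of_injective (fun n : Fin 128 => (⟨_, h1 n⟩ : V (cU.el y) 7 0)) fun a b h =>
    Fin.ext (List.inj_on_of_nodup_map chkN (List.mem_range.2 a.2) (List.mem_range.2 b.2)
      (beq_iff_eq.1 ((he _ _).2 (congrArg Subtype.val h))))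
  rwa [Nat.card_eq_fintype_card, Fintype.card_fin] at h2

theorem pcU : PC (cU.el y) 7 3 := pc_of_chk (fun v w => (he v w).1) (by norm_num) chkU

theorem gn : Gn (V (cU.el y) 7 0) fun i : Fin 3 => y i where
  mem i := by
    have h1 : cU.el y i = y i := by fin_cases i <;> exact mul_one _
    exact h1 ▸ mem_V (Nat.zero_le _) (by omega)
  le := V_le fun i _ hi => ev_mem fun r hr => subset_closure ⟨⟨r, chkS.2 i hi r hr⟩, rfl⟩
  sq i := by
    have h1 := (he _ _).1 (chkS.1 i)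
    rwa [ev_cons, ev_cons, ev_nil, mul_one] at h1
  two := IsPGroup.of_card ((pcU he).card_eq (card_T he) (Nat.zero_le _))
  ge := ((pcU he).index (card_T he)).ge

end gen

variable {F : Type} [Field F] {a : F}

end LocP

open LocP

end Cfsg.Agent.MK.U43

private theorem dce_a9629aaabb70 : _root_.True := by
  try have : _root_.True := by simp only [_root_.Cfsg.Agent.MK.U43.LocP.sg.eq_1]
  try have : _root_.True := by simp only [_root_.Cfsg.Agent.MK.U43.LocP.im.eq_1]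
  try have : _root_.True := by simp only [_root_.Cfsg.Agent.MK.U43.LocP.nw.eq_1]
  try have : _root_.True := by simp only [_root_.Cfsg.Agent.MK.U43.LocP.ex.eq_1]
  try have : _root_.True := by simp only [_root_.Cfsg.Agent.MK.U43.LocP.dg.eq_1]
  try have : _root_.True := by simp only [_root_.Cfsg.Agent.MK.U43.LocP.cw.eq_1]
  try have : _root_.True := by simp only [_root_.Cfsg.Agent.MK.U43.LocP.eqv.eq_1]
  try have : _root_.True := by simp only [_root_.Cfsg.Agent.MK.U43.LocP.lt.eq_1]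
  try have : _root_.True := by simp only [_root_.Cfsg.Agent.MK.U43.LocP.cd.eq_1]
  try have : _root_.True := by simp only [_root_.Cfsg.Agent.MK.U43.LocP.ml.eq_1]
  exact _root_.True.intro
end

-- part: MK/U43/LocM
section
set_option linter.all false
open scoped Cfsg.Agent.FastGrp

/-!
# MK, `U₄(3)`: the local side in the permutation model (helper47)
-/

set_option autoImplicit false
set_option maxRecDepth 100000
set_option maxHeartbeats 400000

namespace Cfsg.Agent.MK.U43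

open Cfsg Subgroup Cfsg.Agent.MK.T Cfsg.Agent.MK.S.Pc Cfsg.Agent.MK.S4 Cfsg.Agent.QTNorm Cfsg.Agent.TwoF.XL.U43
open LocP (cU w1 chkF)

namespace LocQ

/-- three involutions -/
def yw (r : ℕ) : List ℕ := ([[12], [10], [8, 11, 12]] : List (List ℕ)).getD r []

/-- the letters -/
def y (r : ℕ) : M := Wm (yw r)

theorem ev_y : ∀ w, S.Pc.ev y w = Wm (w.flatMap yw)
  | [] => rfl
  | r :: w => by rw [ev_cons, ev_y w, List.flatMap_cons, Wm_append, y]

theorem lt_of (w : List ℕ) : ∀ s ∈ w.flatMap yw, s < 13 := fun s hs => by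
  obtain ⟨r, -, h⟩ := List.mem_flatMap.1 hs
  have h1 : ∀ r < 3, ∀ s ∈ yw r, s < 13 := by decide
  by_cases h2 : r < 3
  · exact h1 r h2 s h
  · rw [yw, List.getD_eq_default _ _ (Nat.le_of_not_lt h2)] at h
    cases h

/-- the test for words -/
def eqv (v w : List ℕ) : Bool := eqB (v.flatMap yw) (w.flatMap yw)

theorem eqv_spec (v w : List ℕ) (h : eqv v w = true) : S.Pc.ev y v = S.Pc.ev y w := by
  rw [ev_y, ev_y, Wm_eq h]

/-- the parts in the commutator subgroup -/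
def w2 (k : ℕ) (i : Fin 3) : List ℕ :=
  (([[[5], [6], []], [[5, 6], [6], [5, 6]]] : List (List (List ℕ))).getD k []).getD i []

theorem chkU : ∀ i < 7, chk1 eqv 7 3 cU i = true := by decide +kernel

theorem chkN : ((List.range 128).map fun n => cde ((LocP.nw n).flatMap yw)).Nodup := by decide +kernel

theorem chkA : ∀ k < 2, ∀ i : Fin 3, inR 3 7 (w2 k i) = true ∧
    eqF ((14 + k) :: yw i) (((w1 k i).map Fin.val ++ cU.ex (w2 k i)).flatMap yw ++ [14 + k]) = true := by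
  decide +kernel

theorem chkS : ∀ i : Fin 3, eqv [i, i] [] = true := by decide +kernel

theorem fin : Finite M := Nat.finite_of_card_ne_zero (by rw [card_M]; norm_num)

theorem card_T : 2 ^ 7 ≤ Nat.card (V (cU.el y) 7 0) := by
  have := fin
  have h1 : ∀ n, S.Pc.ev y (LocP.nw n) ∈ V (cU.el y) 7 0 := fun n => by
    rw [LocP.nw, Cert.ev_ex]
    exact ev_mem fun i hi => mem_V (Nat.zero_le _) (List.mem_range.1 (List.mem_filter.1 hi).1)
  have h2 := Nat.card_le_card_of_injective (fun n : Fin 128 => (⟨_, h1 n⟩ : V (cU.el y) 7 0)) fun a b h => by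
    have h3 : S.Pc.ev y (LocP.nw a) = S.Pc.ev y (LocP.nw b) := congrArg Subtype.val h
    rw [ev_y, ev_y] at h3
    exact Fin.ext (List.inj_on_of_nodup_map chkN (List.mem_range.2 a.2) (List.mem_range.2 b.2)
      (cde_eq (by rw [← coe_Wm (lt_of _), ← coe_Wm (lt_of _), h3])))
  rwa [Nat.card_eq_fintype_card, Fintype.card_fin] at h2

theorem pcU : PC (cU.el y) 7 3 := pc_of_chk eqv_spec (by norm_num) chkU

theorem gn : Gn (V (cU.el y) 7 0) fun i : Fin 3 => y i :=
  have := fin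
  { mem := fun i => by
      have h1 : cU.el y i = y i := by fin_cases i <;> exact mul_one _
      exact h1 ▸ mem_V (Nat.zero_le _) (by omega)
    le := V_le fun i _ hi => ev_mem fun r hr => subset_closure ⟨⟨r, LocP.chkS.2 i hi r hr⟩, rfl⟩
    sq := fun i => by
      have h1 := eqv_spec _ _ (chkS i)
      rwa [ev_cons, ev_cons, ev_nil, mul_one] at h1
    two := IsPGroup.of_card (pcU.card_eq card_T (Nat.zero_le _))
    ge := (pcU.index card_T).ge }

theorem act {k : ℕ} (hk : k < 2) {q : MulAut M} (h : Rp q (L (14 + k))) (i : Fin 3) :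
    ∃ c ∈ ⁅V (cU.el y) 7 0, V (cU.el y) 7 0⁆, q (y i) = ((w1 k i).map fun i : Fin 3 => y i).prod * c := by
  have := fin
  have h1 := W_eq (chkA k hk i).2
  have h2 : (y i : Pm) = W (yw i) := coe_Wm fun s hs => lt_of [i] s (by simpa using hs)
  rw [W_cons, W_append, W_single, ← coe_Wm (lt_of _), ← ev_y, ← h2, ← mul_inv_eq_iff_eq_mul, ← h] at h1
  exact ⟨_, pcU.comm_eq ▸ inR_mem (chkA k hk i).1, by
    rw [Subtype.ext h1, ev_append, Cert.ev_ex, S.Pc.ev, List.map_map]; rfl⟩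

end LocQ

open LocQ Cfsg.Agent.SporadicStructure.FieldNine in
/-- **the local side** -/
theorem locM : LocM := by
  have := fin
  have := two_prime
  obtain ⟨e⟩ := iso K9.card_K9'
  have h2 : ¬ 2 ∣ (V (cU.el y) 7 0).index := by
    have h3 := card_mul_index (V (cU.el y) 7 0)
    rw [pcU.card_eq card_T (Nat.zero_le _), card_M] at h3
    omega
  exact ⟨(UFourThree.sn K9 K9.card_K9).congr e, gn.two.toSylow h2, gn.ab_eq, fun q =>
    ⟨fun h => ⟨gn.stab (act (k := 0) (by norm_num) h), (gn.fN_eq (act (k := 0) (by norm_num) h)).trans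
      (chkF 0 (by norm_num))⟩, fun h => ⟨gn.stab (act (k := 1) (by norm_num) h),
        (gn.fN_eq (act (k := 1) (by norm_num) h)).trans (chkF 1 (by norm_num))⟩⟩⟩

end Cfsg.Agent.MK.U43

private theorem dce_b379d501e8f3 : _root_.True := by
  try have : _root_.True := by simp only [_root_.Cfsg.Agent.MK.U43.LocQ.yw.eq_1]
  try have : _root_.True := by simp only [_root_.Cfsg.Agent.MK.U43.LocQ.y.eq_1]
  exact _root_.True.intro
end

-- part: MK/GA/Map
section
set_option linter.all false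
open scoped Cfsg.Agent.FastGrp

/-!
# MK-G-A: frames and central quotients (helper2)
-/

set_option autoImplicit false
set_option linter.unusedSectionVars false
set_option maxHeartbeats 400000

namespace Cfsg.Agent.MK.GA

open Cfsg Matrix CoxeterSystem Cfsg.Agent.ChevalleyStructure.CoxeterGeom Cfsg.Agent.Tits.Roots Cfsg.Agent.Nodes.Reps
  Cfsg.Agent.Nodes.BNOf Cfsg.Agent.Nodes.Bruhat Cfsg.Agent.KFacts.RgdAut Cfsg.Agent.KFacts.RgdDiag
  Cfsg.Agent.ClosedExc.Frame Cfsg.Agent.ODD.QB Cfsg.Agent.MK.G Cfsg.Agent.H69.OQ Cfsg.Agent.H684.OQ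
  Cfsg.Agent.H310.OQ

variable {I W Y S ι : Type} [Fintype I] [DecidableEq I] [Group W] [Finite W] [Group Y] [Finite Y] [Group S] [Finite S]
  [Fintype ι] {M : CoxeterMatrix I} {cs : CoxeterSystem M W} {A : I → I → ℤ} {h : IsCartan M A} {p : ℕ}
  {T : Subgroup Y} {n : I → Y} {X : (I → ℤ) → Subgroup Y} {f : Y →* S}

theorem rp_map (N : NSys M T n) (N' : NSys M (T.map f) fun i => f (n i)) {w : W} {g : Y} (hg : Rp cs N w g) :
    Rp cs N' w (f g) := by
  have key : ∀ w, ∃ a, Rp cs N w a ∧ Rp cs N' w (f a) := fun w => by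
    induction w using cs.simple_induction_left with
    | one => exact ⟨1, rp_one, (map_one f).symm ▸ rp_one⟩
    | mul_simple_left w i ih =>
      obtain ⟨a, h1, h2⟩ := ih
      exact ⟨n i * a, (rp_simple _ _ i).mul h1, (map_mul f _ _).symm ▸ (rp_simple _ N' i).mul h2⟩
  obtain ⟨a, h1, h2⟩ := key w
  have h4 := h2.mul_mem_right (Subgroup.mem_map_of_mem f (h1.unique hg))
  rwa [← map_mul, mul_inv_cancel_left] at h4

theorem zc_map (hf : f.ker ≤ Subgroup.center Y) (hnf : NoFix cs h T X) {x : I → ℤ} (hx : IsRoot cs h x) :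
    zc ((X x).map f) = (zc (X x)).map f := by
  ext y
  constructor
  · rintro ⟨⟨u, hu, rfl⟩, h1⟩
    refine ⟨u, ⟨hu, fun v hv => ?_⟩, rfl⟩
    rw [← mul_inv_eq_one]
    refine hnf x hx _ (mul_mem (mul_mem hv hu) (inv_mem (mul_mem hu hv))) fun t _ _ =>
      Subgroup.mem_center_iff.1 (hf ?_) t
    rw [MonoidHom.mem_ker, map_mul, map_inv, map_mul, map_mul, h1 _ ⟨v, hv, rfl⟩, mul_inv_cancel]
  · rintro ⟨u, ⟨hu, h1⟩, rfl⟩
    refine ⟨⟨u, hu, rfl⟩, ?_⟩
    rintro _ ⟨v, hv, rfl⟩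
    rw [← map_mul, ← map_mul, h1 v hv]

theorem LZ_map (hf : f.ker ≤ Subgroup.center Y) (hnf : NoFix cs h T X) {x : I → ℤ} (hx : IsRoot cs h x) :
    LZ (fun x => (X x).map f) x = (LZ X x).map f := by
  rw [LZ, LZ, zc_map hf hnf hx, zc_map hf hnf hx.neg, Subgroup.map_sup]

variable (R : RGD cs h p T n X) (R' : RGD cs h p (T.map f) (fun i => f (n i)) fun x => (X x).map f)

theorem nd_map (hf : f.ker ≤ Subgroup.center Y) (hnf : NoFix cs h T X) {k : Type} [Field k] {x : I → ℤ}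
    {Φ : SpecialLinearGroup (Fin 2) k →* Y} (N : Nd R x Φ) : Nd R' x (f.comp Φ) := by
  refine ⟨N.root, fun g => ?_, N.ref.imp fun w hw => ⟨rp_map _ _ hw.1, hw.2⟩,
    fun c => Subgroup.mem_map_of_mem f (N.tor c), fun c => ?_⟩
  · rw [zc_map hf hnf N.root]
    constructor
    · rintro ⟨u, hu, rfl⟩
      obtain ⟨t, rfl⟩ := (N.up u).1 hu
      exact ⟨t, rfl⟩
    · rintro ⟨t, rfl⟩
      exact ⟨_, (N.up _).2 ⟨t, rfl⟩, rfl⟩
  · obtain ⟨s, hs, e⟩ := N.ker c
    exact ⟨f s, Subgroup.mem_map_of_mem f hs, by simp only [MonoidHom.comp_apply, e, map_mul, map_inv]⟩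

theorem comm_map (hc : ∀ a ∈ T, ∀ b ∈ T, a * b = b * a) : ∀ a ∈ T.map f, ∀ b ∈ T.map f, a * b = b * a := by
  rintro _ ⟨a, ha, rfl⟩ _ ⟨b, hb, rfl⟩
  rw [← map_mul, ← map_mul, hc a ha b hb]

theorem faith_map (hf : f.ker ≤ Subgroup.center Y) (hc : ∀ a ∈ T, ∀ b ∈ T, a * b = b * a)
    (H : TWFaithful cs T n R.nsys) : TWFaithful cs (T.map f) (fun i => f (n i)) R'.nsys := by
  intro w g' hg' ho h1
  obtain ⟨g, hg⟩ := exists_rp cs R.nsys w
  refine H w g hg ho fun t ht ⟨k, hk⟩ => ?_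
  have h2 := (rp_map R.nsys R'.nsys hg).unique hg'
  have h3 : g * t * g⁻¹ * t⁻¹ ∈ Subgroup.center Y := hf (by
    have h4 := h1 (f t) (Subgroup.mem_map_of_mem f ht) ⟨k, by rw [← map_pow, hk, map_one]⟩
    have h5 := comm_map hc _ h2 _ (Subgroup.mem_map_of_mem f ht)
    rw [MonoidHom.mem_ker, map_mul, map_mul, map_mul, map_inv, map_inv, mul_inv_eq_one, mul_inv_eq_iff_eq_mul]
    refine mul_right_cancel (b := (f g)⁻¹ * g') ?_
    rw [mul_assoc (f g), ← h5, mul_assoc, mul_assoc, mul_inv_cancel_left, mul_inv_cancel_left, h4])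
  obtain ⟨c, hc'⟩ : ∃ c, c = g * t * g⁻¹ * t⁻¹ := ⟨_, rfl⟩
  rw [← hc'] at h3
  have h4 : ∀ m : ℕ, g ^ m * t = c ^ m * t * g ^ m := fun m => by
    induction m with
    | zero => simp
    | succ m ih =>
      have h5 : g * t = c * t * g := by rw [hc']; group
      rw [pow_succ', mul_assoc, ih, ← mul_assoc, ← mul_assoc, Subgroup.mem_center_iff.1 (pow_mem h3 m) g, mul_assoc _ g,
        h5, pow_succ]
      simp only [mul_assoc]
  have h5 : c ^ orderOf w = 1 := by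
    have h6 := rp_pow hg (orderOf w)
    rw [pow_orderOf_eq_one] at h6
    have h7 := h4 (orderOf w)
    rwa [hc _ h6.mem_of_one t ht, mul_left_inj, eq_comm, mul_eq_right] at h7
  have h6 : c ^ 2 ^ k = 1 := by
    have h7 : Commute (g * t * g⁻¹) t⁻¹ :=
      hc _ ((Subgroup.mem_normalizer_iff.1 hg.mem_normalizer t).1 ht) _ (inv_mem ht)
    rw [hc', h7.mul_pow, conj_pow, inv_pow, hk]
    simp
  have h7 : c = 1 := by
    rw [← orderOf_eq_one_iff]
    exact Nat.eq_one_of_dvd_coprimes ((Nat.coprime_two_right.2 ho).pow_right k) (orderOf_dvd_of_pow_eq_one h5)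
      (orderOf_dvd_of_pow_eq_one h6)
  rw [hc', mul_inv_eq_one, mul_inv_eq_iff_eq_mul] at h7
  exact h7

theorem top_map (hs : Function.Surjective f) (hG : GG cs h T X = ⊤) :
    GG cs h (T.map f) (fun x => (X x).map f) = ⊤ := by
  have h1 := congrArg (Subgroup.map f) hG
  rw [Subgroup.map_top_of_surjective _ hs] at h1
  rw [← h1]
  unfold GG RGD.Sup
  rw [Subgroup.map_sup, Subgroup.map_iSup]

variable {β : ι → I → ℤ}

theorem orth_map (hf : f.ker ≤ Subgroup.center Y) (hnf : NoFix cs h T X) (hr : ∀ a, IsRoot cs h (β a))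
    (ho : ∀ a b, a ≠ b → ∀ u ∈ LZ X (β a), ∀ v ∈ LZ X (β b), Commute u v) :
    ∀ a b, a ≠ b → ∀ u ∈ LZ (fun x => (X x).map f) (β a), ∀ v ∈ LZ (fun x => (X x).map f) (β b), Commute u v := by
  intro a b hab
  rw [LZ_map hf hnf (hr a), LZ_map hf hnf (hr b)]
  rintro _ ⟨u, hu, rfl⟩ _ ⟨v, hv, rfl⟩
  exact (ho a b hab u hu v hv).map f

theorem odd_map (hs : Function.Surjective f) (hf : f.ker ≤ Subgroup.center Y) (hnf : NoFix cs h T X)
    (hr : ∀ a, IsRoot cs h (β a)) (ho : Odd (MM R β).index) : Odd (MM R' β).index := by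
  refine (ho.of_dvd_nat (Subgroup.index_map_dvd _ hs)).of_dvd_nat (Subgroup.index_dvd_of_le ?_)
  rw [MM, MM, Subgroup.map_sup, Subgroup.map_iSup]
  refine sup_le_sup (iSup_mono fun a => (LZ_map hf hnf (hr a)).ge) ?_
  rintro _ ⟨g, ⟨w, hw, hg⟩, rfl⟩
  exact ⟨w, hw, rp_map _ _ hg⟩

end Cfsg.Agent.MK.GA

private theorem dce_a8637b60713c : _root_.True := by
  try have : _root_.True := by simp only [_root_.Cfsg.Agent.MK.G.MM.eq_1]
  exact _root_.True.intro
end

-- part: MK/GX/Nd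
section
set_option linter.all false
open scoped Cfsg.Agent.FastGrp

/-!
# MK: frames of nodes of type `SL₂` (helper9)

`rk_nd`, `syl_of'`, `odd_MM`, `ne_nd`, `gd_map`: `GD` for a central quotient from the data on the cover.
-/

set_option autoImplicit false
set_option linter.unusedSectionVars false

namespace Cfsg.Agent.MK.GX

open Cfsg Matrix CoxeterSystem Cfsg.Agent.ChevalleyStructure.CoxeterGeom Cfsg.Agent.Tits.Roots Cfsg.Agent.Nodes.Reps
  Cfsg.Agent.Nodes.BNOf Cfsg.Agent.Nodes.Bruhat Cfsg.Agent.KFacts.RgdAut Cfsg.Agent.KFacts.RgdDiag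
  Cfsg.Agent.ClosedExc.Frame Cfsg.Agent.ODD.QB Cfsg.Agent.MK.G Cfsg.Agent.GAL.Nrm Cfsg.Agent.H310.OQ
open Cfsg.Agent.H684.OQ (TWFaithful)
open Cfsg.Agent.H69.OQ (NoFix)

variable {I W Y ι : Type} [Fintype I] [DecidableEq I] [Group W] [Finite W] [Group Y] [Finite Y] [Fintype ι]
  {M : CoxeterMatrix I} {cs : CoxeterSystem M W} {A : I → I → ℤ} {h : IsCartan M A} {p : ℕ} {T : Subgroup Y}
  {n : I → Y} {X : (I → ℤ) → Subgroup Y} {β : ι → I → ℤ} {k : Type} [Field k] {R : RGD cs h p T n X}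

theorem nd_mem {x : I → ℤ} {Φ : SpecialLinearGroup (Fin 2) k →* Y} (N : Nd R x Φ) (c : kˣ) :
    Φ (dd c) ∈ NN cs R.nsys ∧ Φ (dd c * ww) ∈ NN cs R.nsys := by
  obtain ⟨w, h1, -⟩ := N.ref
  exact ⟨⟨1, rp_of_mem (N.tor c)⟩, _, map_mul Φ _ _ ▸ (rp_of_mem (N.tor c)).mul h1⟩

theorem rk_nd {x : I → ℤ} {Φ : SpecialLinearGroup (Fin 2) k →* Y} (N : Nd R x Φ) : Rk R x := by
  intro y hy h1
  rw [← cj_zc N.cj_ww.1] at hy
  obtain ⟨z, hz, rfl⟩ := hy
  obtain ⟨t, rfl⟩ := (N.up z).1 hz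
  have h2 : t ≠ 0 := by
    rintro rfl
    exact h1 (by rw [uu_zero, map_one, map_one])
  obtain ⟨c, rfl⟩ : ∃ c : kˣ, ((c⁻¹ : kˣ) : k) = t := ⟨(Units.mk0 _ h2)⁻¹, rfl⟩
  refine ⟨_, (N.up _).2 ⟨c, rfl⟩, _, (N.up _).2 ⟨c, rfl⟩, ?_⟩
  change Φ _ * (Φ _ * Φ _ * (Φ _)⁻¹) * Φ _ ∈ _
  rw [← map_inv, ← map_mul, ← map_mul, ← map_mul, ← map_mul, ww_conj, ← mul_assoc, ← mul_assoc, ← mul_assoc, uu_mul,
    mul_assoc _ (uu _), uu_mul, add_neg_cancel, neg_add_cancel, uu_zero, one_mul, mul_one]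
  exact (nd_mem N c).2

variable (R)

/-- the normaliser of a Sylow subgroup -/
theorem syl_of' (hG : GG cs h T X = ⊤) (hc : ∀ a ∈ T, ∀ b ∈ T, a * b = b * a) (hnf : NoFix cs h T X)
    (hf : TWFaithful cs T n R.nsys) (hdg : AllDG Y) {L : Subgroup Y} (hT : T ≤ L) (ho : Odd L.index) :
    ∃ Q : Sylow 2 Y, Subgroup.normalizer ((Q : Subgroup Y) : Set Y) ≤ L := by
  obtain ⟨Q₀, h1, h2, h3, h4⟩ := H55.Sd.exists_syl (H := L) (isPGroup_T2 hc) (fun t ht => hT ht.1)
  obtain ⟨Q, rfl⟩ := MK.exists_sylow h3 (by rw [← Subgroup.relIndex_mul_index h1]; exact h4.mul ho)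
  refine ⟨Q, fun g hg => ?_⟩
  obtain ⟨a, k, j, hj, h5, h6⟩ := exists_parts g
  have h7 := hj.of_dvd_nat (orderOf_dvd_of_pow_eq_one h6)
  have h8 := hdg Q _ (mul_mem (inv_mem (pow_mem hg a)) hg) h7
  rw [← mul_inv_cancel_left (g ^ a) g]
  exact mul_mem (h1 (mem_of_pow_mem Q (pow_mem hg a) (k := k) (h5 ▸ one_mem _)))
    (hT (H381.OQ.mem_T_of_cent R hG hnf (hc := hc) hf (Subgroup.centralizer_le h2 h8) h7))

/-- the index of the group of the frame, by the order of the group -/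
theorem odd_MM [Finite k] (hp : p.Prime) (hG : GG cs h T X = ⊤) (hc : ∀ a ∈ T, ∀ b ∈ T, a * b = b * a)
    (hnf : NoFix cs h T X) (hN : ∀ a, ∃ Φ : SpecialLinearGroup (Fin 2) k →* Y, Nd R (β a) Φ)
    (ho : ∀ a b, a ≠ b → ∀ u ∈ LZ X (β a), ∀ v ∈ LZ X (β b), Commute u v)
    (hσ : ∀ σ : Equiv.Perm ι, ∃ w, ∀ a, rep cs h w (β a) = β (σ a) ∨ rep cs h w (β a) = -β (σ a))
    (hord : ∀ j : ℕ, 2 ^ j ∣ Nat.card Y →
      2 ^ j ∣ Nat.card T * (Nat.card k + 1) ^ Fintype.card ι * (Fintype.card ι).factorial) : Odd (MM R β).index := by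
  obtain ⟨β', Φ, h1, h0, N⟩ := exists_pos hN
  have F := fr_of_nd hG hc hnf N h0 fun a b hab => by rw [LZ_congr h1, LZ_congr h1]; exact ho a b hab
  have h3 := F.dvd_card (fun a => (N a).card_conj (h0 a)) fun σ => by
    obtain ⟨w, hw⟩ := hσ σ
    obtain ⟨g, hg⟩ := exists_rp cs R.nsys w
    exact ⟨g, hg.mem_normalizer, acts_rp (R := R) (fun a => (N a).root) F.inj hg fun a => pm_trans (h1 a) (h1 (σ a)) (hw a)⟩
  have h2 : (⨆ a, KK (Zr X β') a) ⊔ (NH T (Zr X β')).comap MulAut.conj ≤ MM R β' := by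
    refine sup_le_sup le_rfl ?_
    rintro g ⟨h4, π, h5⟩
    obtain ⟨w, hw⟩ := H491.Sd.exists_rp_of_norm R hG (noFix_of R hnf) (fix_conj.1 h4)
    refine ⟨w, fun a => ⟨(π (a, true)).1, ?_⟩, hw⟩
    have h6 : zc (X (rep cs h w (β' a))) = Zr X β' (π (a, true)) := Subgroup.ext fun y => by
      have h7 := (zc_cj (R.conj_rp hw (N a).root) (g⁻¹ * y * g)).trans (h5.2 (a, true) (g⁻¹ * y * g)).symm
      rwa [MulAut.conj_apply, show g * (g⁻¹ * y * g) * g⁻¹ = y by group] at h7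
    obtain ⟨⟨b, _ | _⟩, hx⟩ : ∃ x, π (a, true) = x := ⟨_, rfl⟩
    · rw [hx] at h6 ⊢
      exact Or.inr (zc_inj R hp ((N a).root.act w) (N b).root.neg h6)
    · rw [hx] at h6 ⊢
      exact Or.inl (zc_inj R hp ((N a).root.act w) (N b).root h6)
  have h4 := h3.trans (Subgroup.card_dvd_of_le h2)
  rw [MM_congr h1] at h4
  generalize MM R β = H at h4
  rw [← Nat.not_even_iff_odd, even_iff_two_dvd]
  intro h5
  refine Nat.pow_succ_factorization_not_dvd (Nat.card_pos (α := H)).ne' Nat.prime_two ((hord _ ?_).trans h4)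
  rw [← H.card_mul_index, pow_succ]
  exact mul_dvd_mul (Nat.ordProj_dvd _ 2) h5

theorem cj_LZ {w : W} {g : Y} (hg : Rp cs R.nsys w g) {x : I → ℤ} (hx : IsRoot cs h x) :
    cj g (LZ X x) = LZ X (rep cs h w x) := by
  rw [LZ, LZ, ← map_neg, ← cj_zc (R.conj_rp hg hx), ← cj_zc (R.conj_rp hg hx.neg)]
  exact Subgroup.map_sup _ _ _

/-- the group of the frame is proper -/
theorem ne_nd (hp : p.Prime) (hs : IsSimpleGroup Y ∧ ¬ IsMulCommutative Y)
    (hN : ∀ a, ∃ Φ : SpecialLinearGroup (Fin 2) k →* Y, Nd R (β a) Φ)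
    (ho : ∀ a b, a ≠ b → ∀ u ∈ LZ X (β a), ∀ v ∈ LZ X (β b), Commute u v)
    (hι : Nontrivial ι ∨ ∃ a, 0 ≤ β a ∧ ¬ X (β a) ≤ zc (X (β a))) : MM R β ≠ ⊤ := by
  intro h2
  have := hs.1
  choose Φ N using hN
  have h0 : Nonempty ι := hι.elim (fun _ => inferInstance) fun ⟨a, _⟩ => ⟨a⟩
  have h3 : ∀ a, LZ X (β a) ≠ ⊥ := fun a e => zc_ne_bot R hp (N a).root (le_bot_iff.1 (e ▸ le_sup_left))
  have h4 : (⨆ a, LZ X (β a)) = ⊤ := by
    refine (Subgroup.Normal.eq_bot_or_eq_top (Subgroup.normalizer_eq_top_iff.1 (top_le_iff.1 (h2 ▸ sup_le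
      Subgroup.le_normalizer ?_)))).resolve_left fun e =>
        h3 (Classical.arbitrary ι) (le_bot_iff.1 (e ▸ le_iSup (fun a => LZ X (β a)) _))
    have h5 : ∀ g ∈ NP R (WD cs h β), cj g (⨆ a, LZ X (β a)) ≤ ⨆ a, LZ X (β a) := by
      rintro g ⟨w, hw, hg⟩
      rw [cj_iSup]
      refine iSup_le fun a => ?_
      obtain ⟨b, hb⟩ := hw a
      rw [cj_LZ R hg (N a).root]
      refine le_trans (le_of_eq ?_) (le_iSup (fun a => LZ X (β a)) b)
      rcases hb with hb | hb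
      · rw [hb]
      · rw [hb, LZ_neg]
    intro g hg
    rw [mem_normalizer_iff_cj]
    exact le_antisymm (h5 g hg) (by simpa only [cj_cj_inv] using cj_mono g (h5 g⁻¹ (inv_mem hg)))
  have h5 : ∀ a, LZ X (β a) = ⊤ := fun a => by
    refine (Subgroup.Normal.eq_bot_or_eq_top (Subgroup.normalizer_eq_top_iff.1 (top_le_iff.1
      (h4 ▸ iSup_le fun b => ?_)))).resolve_left (h3 a)
    by_cases hab : b = a
    · exact hab ▸ Subgroup.le_normalizer
    · exact fun y hy => Subgroup.centralizer_le_normalizer _ fun x hx => (ho b a hab y hy x hx).symm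
  rcases hι with _ | ⟨a, h6, h7⟩
  · obtain ⟨a, b, e⟩ := exists_pair_ne ι
    exact hs.2 ⟨⟨fun x y => ho a b e x (h5 a ▸ Subgroup.mem_top x) y (h5 b ▸ Subgroup.mem_top y)⟩⟩
  · refine h7 fun u hu => ?_
    obtain ⟨s, rfl⟩ : u ∈ (Φ a).range := (N a).range ▸ h5 a ▸ Subgroup.mem_top u
    have h8 : ∀ x y z, s = uu x * z * uu y → Φ a z ∈ NN cs R.nsys → Φ a z = 1 := fun x y z e hz =>
      uniq_N R _ hz 1 (one_mem _) _ ((N a).uu_mem h6 x) _ (mul_mem ((N a).uu_mem h6 y)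
        (inv_mem (RGD.le_Sup (S := RGD.Pos cs h) ⟨(N a).root, h6⟩ hu))) (by
          rw [← mul_assoc, ← map_mul, ← map_mul, ← e, mul_inv_cancel])
    obtain ⟨x, y, c, e | e⟩ := sl2_bru s
    · rw [e, map_mul, map_mul, h8 _ _ _ e (nd_mem (N a) c).1, mul_one]
      exact mul_mem (((N a).up _).2 ⟨x, rfl⟩) (((N a).up _).2 ⟨y, rfl⟩)
    · have h9 := h8 _ _ _ e (nd_mem (N a) c).2
      rw [map_mul] at h9
      exact absurd (RGD.T_le_B (eq_inv_of_mul_eq_one_right h9 ▸ inv_mem ((N a).tor c))) (N a).not_mem_B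

variable {S : Type} [Group S] [Finite S] {f : Y →* S}

/-- **The data of the frame on a central quotient.** -/
theorem gd_map (R' : RGD cs h p (T.map f) (fun i => f (n i)) fun x => (X x).map f) (hp : p.Prime) (hp2 : p ≠ 2)
    (hf : Function.Surjective f) (hk : f.ker ≤ Subgroup.center Y) (hG : GG cs h T X = ⊤)
    (hc : ∀ a ∈ T, ∀ b ∈ T, a * b = b * a) (hnf : NoFix cs h T X) (hw : TWFaithful cs T n R.nsys)
    (hN : ∀ a, ∃ Φ : SpecialLinearGroup (Fin 2) k →* Y, Nd R (β a) Φ)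
    (ho : ∀ a b, a ≠ b → ∀ u ∈ LZ X (β a), ∀ v ∈ LZ X (β b), Commute u v)
    (hW : ∃ Q : Sylow 2 W, Subgroup.normalizer ((Q : Subgroup W) : Set W) ≤ WD cs h β) (hodd : Odd (MM R β).index)
    (hdg : AllDG S) (hs : IsSimpleGroup S ∧ ¬ IsMulCommutative S)
    (hι : Nontrivial ι ∨ ∃ a, 0 ≤ β a ∧ ¬ X (β a) ≤ zc (X (β a))) : GD R' β := by
  have hr : ∀ a, IsRoot cs h (β a) := fun a => (hN a).choose_spec.root
  have hN' : ∀ a, ∃ Φ : SpecialLinearGroup (Fin 2) k →* S, Nd R' (β a) Φ := fun a =>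
    ⟨_, GA.nd_map R R' hk hnf (hN a).choose_spec⟩
  have ho' := GA.orth_map hk hnf hr ho
  refine ⟨hp, hp2, GA.top_map hf hG, hr, fun a => rk_nd (hN' a).choose_spec, ho', hW,
    syl_of' R' (GA.top_map hf hG) (GA.comm_map hc) (hnf.map R.tor f hk) (GA.faith_map R R' hk hc hw) hdg
      ((T_le_NP R').trans le_sup_right) (GA.odd_map R R' hf hk hnf hr hodd),
    ne_nd R' hp hs hN' ho' (hι.imp_right fun ⟨a, h1, h2⟩ => ⟨a, h1, fun h3 => h2 fun u hu => ?_⟩)⟩
  have h4 := h3 (Subgroup.mem_map_of_mem f hu)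
  rw [GA.zc_map hk hnf (hr a)] at h4
  obtain ⟨v, hv, e⟩ := h4
  have h5 : v⁻¹ * u ∈ Subgroup.center Y := hk (by rw [MonoidHom.mem_ker, map_mul, map_inv, e, inv_mul_cancel])
  rw [← inv_mul_eq_one.1 (hnf _ (hr a) _ (mul_mem (inv_mem hv.1) hu) fun t _ _ => Subgroup.mem_center_iff.1 h5 t)]
  exact hv

/-- the orders of the centres of the root groups -/
theorem card_zc_map (hk : f.ker ≤ Subgroup.center Y) (hnf : NoFix cs h T X) {x : I → ℤ} (hx : IsRoot cs h x) :
    Nat.card (zc ((X x).map f)) = Nat.card (zc (X x)) := by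
  rw [GA.zc_map hk hnf hx]
  refine (Nat.card_congr (Equiv.ofBijective (fun u : zc (X x) => (⟨f u, u, u.2, rfl⟩ : (zc (X x)).map f))
    ⟨fun u v e => Subtype.ext ?_, fun ⟨_, u, hu, rfl⟩ => ⟨⟨u, hu⟩, rfl⟩⟩)).symm
  have h5 : (u : Y)⁻¹ * v ∈ Subgroup.center Y :=
    hk (by rw [MonoidHom.mem_ker, map_mul, map_inv, show f u = f v from congrArg Subtype.val e, inv_mul_cancel])
  exact inv_mul_eq_one.1 (hnf _ hx _ (mul_mem (inv_mem u.2.1) v.2.1) fun t _ _ => Subgroup.mem_center_iff.1 h5 t)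

theorem card_zc_diag {γ : MulAut Y} {σ : Equiv.Perm I} (D : Diag T X γ σ) (i : I) :
    Nat.card (zc (X (sr i))) = Nat.card (zc (X (sr (σ i)))) :=
  Nat.card_congr (γ.toEquiv.subtypeEquiv fun y => (zc_iff (D.pos i) y).symm)

omit R in
theorem au_one (R : RGD cs h p T n X) (hr : ∀ a, IsRoot cs h (β a)) (h1 : ∀ γ σ, Diag T X γ σ → σ = 1) : Au R β ⊤ := by
  intro γ _ σ D
  obtain rfl := h1 γ σ D
  refine ⟨1, one_mem _, fun a => ⟨a, Or.inl ?_⟩⟩
  rw [map_one, one_mul]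
  exact ⟨D.root_comp R (fun _ _ => rfl) (hr a), D.root_comp R (fun _ _ => rfl) (hr a).neg⟩

end Cfsg.Agent.MK.GX
end
end
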